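import Cfsg.Agent.Lib.Comp.PCompFacts

/-!
`p`-components of subgroups described inside the ambient group: `L ≤ H` subnormal in `H`, generated by
`p`-elements, quasisimple modulo `O_{p'}`. Transport along subnormal subgroups, homomorphisms with
`p'`-kernel and centralizers of elements acting trivially.
-/

set_option autoImplicit false
set_option linter.unusedSectionVars false

namespace CfsgLib.Comp

open Cfsg Subgroup
open scoped commutatorElement

universe u v
variable {G : Type u} [Group G] [Finite G] {p : ℕ} [Fact p.Prime]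

/-- `O_{p'}(L)` inside the ambient group. -/
abbrev Om (p : ℕ) (L : Subgroup G) : Subgroup G := (pPrimeCore p ↥L).map L.subtype

/-- `L` is a `p`-component of `H`, stated in the ambient group. -/
structure IsPC (p : ℕ) (L H : Subgroup G) : Prop where
  le : L ≤ H
  subnormal : (L.subgroupOf H).IsSubnormal
  pel : pEl p L = L
  qs : IsQuasisimple (↥L ⧸ pPrimeCore p ↥L)

/-! ### `O_{p'}` -/

theorem pPrimeCore_subgroupOf_subnormal {H : Subgroup G} (hH : H.IsSubnormal) :
    pPrimeCore p ↥H = (pPrimeCore p G).subgroupOf H := by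
  refine le_antisymm (fun x hx => ?_) (le_pPrimeCore ?_)
  · have h1 : ((pPrimeCore p ↥H).map H.subtype).IsSubnormal :=
      (Subgroup.Normal.isSubnormal (H := pPrimeCore p ↥H) inferInstance).trans' hH
    exact subnormal_coprime_le h1 (by
      rw [Subgroup.card_map_of_injective H.subtype_injective]; exact card_pPrimeCore_coprime p) ⟨x, hx, rfl⟩
  · exact Nat.Coprime.coprime_dvd_left
      (Subgroup.card_dvd_of_injective (H.subtype.subgroupComap (pPrimeCore p G))
        (fun a b e => Subtype.ext (Subtype.ext (congrArg (fun z : pPrimeCore p G => (z : G)) e))))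
      (card_pPrimeCore_coprime p)

theorem Om_le (L : Subgroup G) : Om p L ≤ L := Subgroup.map_subtype_le _

theorem card_Om_coprime (L : Subgroup G) : (Nat.card (Om p L)).Coprime p := by
  rw [Om, Subgroup.card_map_of_injective L.subtype_injective]; exact card_pPrimeCore_coprime p

theorem le_normalizer_Om (L : Subgroup G) : L ≤ Subgroup.normalizer (Om p L : Set G) := fun k hk =>
  mem_normalizer_of_maps fun x hx => by
    obtain ⟨x, hx, rfl⟩ := hx
    exact ⟨⟨k, hk⟩ * x * ⟨k, hk⟩⁻¹, (inferInstance : (pPrimeCore p ↥L).Normal).conj_mem x hx _, rfl⟩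

theorem le_Om {W L : Subgroup G} (hW : W ≤ L) (hn : L ≤ Subgroup.normalizer (W : Set G))
    (hc : (Nat.card W).Coprime p) : W ≤ Om p L := by
  haveI : (W.subgroupOf L).Normal := (Subgroup.normal_subgroupOf_iff_le_normalizer hW).mpr hn
  calc W = (W.subgroupOf L).map L.subtype := (Subgroup.map_subgroupOf_eq_of_le hW).symm
    _ ≤ Om p L := Subgroup.map_mono
      (le_pPrimeCore (by rwa [Nat.card_congr (Subgroup.subgroupOfEquivOfLe hW).toEquiv]))

theorem mem_Om_iff {L : Subgroup G} {x : G} (hx : x ∈ L) :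
    x ∈ Om p L ↔ (⟨x, hx⟩ : ↥L) ∈ pPrimeCore p ↥L :=
  ⟨fun ⟨z, hz, e⟩ => (Subtype.ext e : z = ⟨x, hx⟩) ▸ hz, fun h => ⟨_, h, rfl⟩⟩

theorem normalizer_le_normalizer_Om (L : Subgroup G) :
    Subgroup.normalizer (L : Set G) ≤ Subgroup.normalizer (Om p L : Set G) := by
  intro g hg
  refine mem_normalizer_of_maps fun x hx => ?_
  refine le_Om (W := (Om p L).map (MulAut.conj g).toMonoidHom) (L := L) ?_ ?_ ?_ ⟨x, hx, rfl⟩
  · rintro _ ⟨y, hy, rfl⟩
    exact (Subgroup.mem_normalizer_iff.mp hg y).mp (Om_le L hy)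
  · intro l hl
    refine mem_normalizer_of_maps ?_
    rintro _ ⟨y, hy, rfl⟩
    refine ⟨(g⁻¹ * l * g) * y * (g⁻¹ * l * g)⁻¹, ?_, by simp [mul_assoc]⟩
    have h1 : g⁻¹ * l * g ∈ L := by
      simpa using (Subgroup.mem_normalizer_iff.mp (Subgroup.inv_mem _ hg) l).mp hl
    exact (Subgroup.mem_normalizer_iff.mp (le_normalizer_Om L h1) y).mp hy
  · rw [Subgroup.card_map_of_injective (MulAut.conj g).injective]; exact card_Om_coprime L

theorem pElement_eq_one_of_coprime {A : Subgroup G} (hA : (Nat.card A).Coprime p) {x : G} (hx : x ∈ A) {n : ℕ}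
    (hn : x ^ p ^ n = 1) : x = 1 :=
  orderOf_eq_one_iff.mp (Nat.eq_one_of_dvd_coprimes (hA.pow_right n) (Subgroup.orderOf_dvd_natCard _ hx)
    (orderOf_dvd_of_pow_eq_one hn))

theorem pEl_eq_bot_of_coprime {A : Subgroup G} (hA : (Nat.card A).Coprime p) : pEl p A = ⊥ := by
  rw [eq_bot_iff, pEl, Subgroup.closure_le]
  rintro x ⟨hx, n, hn⟩
  exact pElement_eq_one_of_coprime hA hx hn

theorem zpowers_isPGroup {x : G} {n : ℕ} (hn : x ^ p ^ n = 1) : IsPGroup p ↥(Subgroup.zpowers x) := by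
  intro z
  obtain ⟨i, hi⟩ := Subgroup.mem_zpowers_iff.mp z.2
  refine ⟨n, Subtype.ext ?_⟩
  push_cast
  rw [← hi, ← zpow_natCast, ← zpow_mul, mul_comm, zpow_mul, zpow_natCast, hn, one_zpow]

/-! ### Basic properties -/

namespace IsPC

variable {L H : Subgroup G}

theorem image_component (h : IsPC p L H) :
    IsComponent ((L.subgroupOf H).map (bar p ↥H)) := by
  refine ⟨h.subnormal.map (bar_surjective p), ?_⟩
  set L' := L.subgroupOf H with hL'
  have e1 : ((bar p ↥H).subgroupMap L').ker = pPrimeCore p ↥L' := by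
    rw [pPrimeCore_subgroupOf_subnormal h.subnormal]
    ext x
    rw [MonoidHom.mem_ker, Subgroup.mem_subgroupOf, ← QuotientGroup.eq_one_iff]
    exact ⟨fun h => congrArg Subtype.val h, fun h => Subtype.ext h⟩
  have e2 := pPrimeCore_map_equiv p (Subgroup.subgroupOfEquivOfLe h.le)
  refine isQuasisimple_of_equiv ?_ h.qs
  exact ((QuotientGroup.congr _ _ (Subgroup.subgroupOfEquivOfLe h.le) e2).symm).trans
    ((QuotientGroup.quotientMulEquivOfEq e1.symm).trans
      (QuotientGroup.quotientKerEquivOfSurjective _ ((bar p ↥H).subgroupMap_surjective L')))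

theorem toPComp (h : IsPC p L H) : IsPComponent p (L.subgroupOf H) := by
  refine isPComponent_of_pEl h.subnormal ?_ h.image_component
  refine Subgroup.map_injective H.subtype_injective ?_
  rw [← pEl_map_subtype, Subgroup.map_subgroupOf_eq_of_le h.le, h.pel]

theorem toPComponentOf (h : IsPC p L H) : IsPComponentOf p L H := ⟨h.le, h.toPComp⟩

theorem of_pcompOf (h : IsPComponentOf p L H) : IsPC p L H :=
  ⟨h.1, h.2.1, (pcompOf_facts h).2.1, (pcompOf_facts h).1⟩

theorem perfect (h : IsPC p L H) : ⁅L, L⁆ = L := by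
  have h1 : ⁅L.subgroupOf H, L.subgroupOf H⁆ = L.subgroupOf H := pcomp_perfect (p := p) h.toPComp
  have h2 := congrArg (Subgroup.map H.subtype) h1
  rwa [Subgroup.map_commutator, Subgroup.map_subgroupOf_eq_of_le h.le] at h2

theorem not_le_coprime (h : IsPC p L H) {A : Subgroup G} (hA : (Nat.card A).Coprime p) : ¬ L ≤ A := by
  intro hle
  have h1 : L = ⊥ := le_bot_iff.mp (h.pel ▸ (pEl_mono hle).trans (pEl_eq_bot_of_coprime hA).le)
  have := isQuasisimple_nontrivial h.qs
  have h2 : Subsingleton (↥L ⧸ pPrimeCore p ↥L) := by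
    subst h1
    exact Quotient.instSubsingletonQuotient _
  exact not_nontrivial (↥L ⧸ pPrimeCore p ↥L) this

theorem mono (h : IsPC p L H) {H' : Subgroup G} (hLH : L ≤ H') (hH : H' ≤ H) : IsPC p L H' := by
  refine ⟨hLH, ?_, h.pel, h.qs⟩
  have h1 := h.subnormal.subgroupOf (K := H'.subgroupOf H)
  have h2 := h1.map (f := (Subgroup.subgroupOfEquivOfLe hH).toMonoidHom) (Subgroup.subgroupOfEquivOfLe hH).surjective
  have e : ((L.subgroupOf H).subgroupOf (H'.subgroupOf H)).map (Subgroup.subgroupOfEquivOfLe hH).toMonoidHom =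
      L.subgroupOf H' := by
    ext x
    rw [Subgroup.mem_map_equiv]
    rfl
  rwa [e] at h2

theorem lift {H' : Subgroup G} (h : IsPC p L H') (hH' : H' ≤ H) (hsn : (H'.subgroupOf H).IsSubnormal) :
    IsPC p L H := by
  refine ⟨h.le.trans hH', ?_, h.pel, h.qs⟩
  have h1 := h.subnormal.map (f := (Subgroup.subgroupOfEquivOfLe hH').symm.toMonoidHom)
    (Subgroup.subgroupOfEquivOfLe hH').symm.surjective
  have h2 := h1.trans' hsn
  have e : ((L.subgroupOf H').map (Subgroup.subgroupOfEquivOfLe hH').symm.toMonoidHom).map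
      (H'.subgroupOf H).subtype = L.subgroupOf H := by
    ext x
    constructor
    · rintro ⟨_, ⟨z, hz, rfl⟩, rfl⟩
      exact hz
    · intro hx
      exact ⟨_, ⟨⟨x, h.le hx⟩, hx, rfl⟩, rfl⟩
  rwa [e] at h2

theorem lift_normal {H' : Subgroup G} (h : IsPC p L H') (hH' : H' ≤ H)
    (hn : H ≤ Subgroup.normalizer (H' : Set G)) : IsPC p L H := by
  haveI : (H'.subgroupOf H).Normal := (Subgroup.normal_subgroupOf_iff_le_normalizer hH').mpr hn
  exact h.lift hH' (Subgroup.Normal.isSubnormal inferInstance)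

theorem Om_eq (h : IsPC p L H) : Om p L = L ⊓ (pPrimeCore p ↥H).map H.subtype := by
  refine le_antisymm (le_inf (Om_le L) ?_) ?_
  · have h2 := pPrimeCore_map_equiv p (Subgroup.subgroupOfEquivOfLe h.le)
    rintro _ ⟨z, hz, rfl⟩
    rw [← h2] at hz
    obtain ⟨w, hw, rfl⟩ := hz
    rw [pPrimeCore_subgroupOf_subnormal h.subnormal] at hw
    exact ⟨(w : ↥H), hw, rfl⟩
  · refine le_Om inf_le_left (fun l hl => mem_normalizer_of_maps fun x hx => Subgroup.mem_inf.mpr ?_) ?_
    · obtain ⟨hxL, ⟨z, hz, rfl⟩⟩ := Subgroup.mem_inf.mp hx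
      exact ⟨Subgroup.mul_mem L (Subgroup.mul_mem L hl hxL) (Subgroup.inv_mem L hl),
        ⟨⟨l, h.le hl⟩ * z * ⟨l, h.le hl⟩⁻¹, (inferInstance : (pPrimeCore p ↥H).Normal).conj_mem z hz _, rfl⟩⟩
    · refine Nat.Coprime.coprime_dvd_left (Subgroup.card_dvd_of_le inf_le_right) ?_
      rw [Subgroup.card_map_of_injective H.subtype_injective]; exact card_pPrimeCore_coprime p

theorem commutator_le {L₂ : Subgroup G} (h : IsPC p L H) (h₂ : IsPC p L₂ H) (hne : L ≠ L₂) :
    ⁅L, L₂⁆ ≤ (pPrimeCore p ↥H).map H.subtype := by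
  have hne' : L.subgroupOf H ≠ L₂.subgroupOf H := fun e => hne (by
    have := congrArg (Subgroup.map H.subtype) e
    rwa [Subgroup.map_subgroupOf_eq_of_le h.le, Subgroup.map_subgroupOf_eq_of_le h₂.le] at this)
  have h1 := (pcomp_commutator_le h.toPComp h₂.toPComp hne').trans
    ((map_core_eq_inf h.toPComp).le.trans inf_le_left)
  have h3 := Subgroup.map_mono (f := H.subtype) h1
  rwa [Subgroup.map_commutator, Subgroup.map_subgroupOf_eq_of_le h.le,
    Subgroup.map_subgroupOf_eq_of_le h₂.le] at h3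

end IsPC

theorem subgroupOf_map_conj (A H : Subgroup G) (g : G) :
    (A.subgroupOf H).map ((MulAut.conj g).subgroupMap H).toMonoidHom =
      (A.map (MulAut.conj g).toMonoidHom).subgroupOf (H.map (MulAut.conj g).toMonoidHom) := by
  ext x
  constructor
  · rintro ⟨z, hz, rfl⟩
    exact ⟨z, hz, rfl⟩
  · rintro ⟨z, hz, e⟩
    refine ⟨⟨z, ?_⟩, hz, Subtype.ext e⟩
    obtain ⟨w, hw, e'⟩ := x.2
    exact ((MulAut.conj g).injective (e.trans e'.symm)) ▸ hw

theorem IsPC.conj {L H : Subgroup G} (h : IsPC p L H) (g : G) : IsPC p (cj g L) (cj g H) := by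
  refine ⟨Subgroup.map_mono h.le, ?_, ?_, ?_⟩
  · rw [← subgroupOf_map_conj]
    exact h.subnormal.map ((MulAut.conj g).subgroupMap H).surjective
  · rw [cj, ← pEl_map_equiv, h.pel]
  · exact isQuasisimple_of_equiv (QuotientGroup.congr _ _ ((MulAut.conj g).subgroupMap L)
      (pPrimeCore_map_equiv p _)) h.qs

/-! ### Homomorphisms with `p'`-kernel -/

theorem comap_core_eq {H : Type v} [Group H] [Finite H] (f : G →* H) (hf : Function.Surjective f)
    (hker : f.ker ≤ pPrimeCore p G) : (pPrimeCore p H).comap f = pPrimeCore p G := by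
  refine le_antisymm (le_pPrimeCore ?_) ?_
  · have h2 : Nat.card ↥((pPrimeCore p H).comap f) ∣ Nat.card ↥(pPrimeCore p H) * Nat.card f.ker := by
      set A := (pPrimeCore p H).comap f with hA
      rw [← Subgroup.index_mul_card (f.ker.subgroupOf A),
        Nat.card_congr (Subgroup.subgroupOfEquivOfLe (show f.ker ≤ A from fun x hx => by
          rw [hA, Subgroup.mem_comap, MonoidHom.mem_ker.mp hx]; exact one_mem _)).toEquiv]
      refine Nat.mul_dvd_mul ?_ dvd_rfl
      have h3 : (f.subgroupComap (pPrimeCore p H)).ker = f.ker.subgroupOf A := by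
        ext x
        rw [MonoidHom.mem_ker, Subgroup.mem_subgroupOf, MonoidHom.mem_ker]
        exact ⟨fun h => congrArg Subtype.val h, fun h => Subtype.ext h⟩
      rw [← h3, Subgroup.index_ker]
      exact Subgroup.card_subgroup_dvd_card _
    exact Nat.Coprime.coprime_dvd_left h2 ((card_pPrimeCore_coprime p).mul_left
      (Nat.Coprime.coprime_dvd_left (Subgroup.card_dvd_of_le hker) (card_pPrimeCore_coprime p)))
  · rw [← Subgroup.map_le_iff_le_comap]
    haveI := (inferInstance : (pPrimeCore p G).Normal).map f hf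
    exact le_pPrimeCore (Nat.Coprime.coprime_dvd_left (Subgroup.card_map_dvd _ _) (card_pPrimeCore_coprime p))

theorem exists_quotCoreEquiv {H : Type v} [Group H] [Finite H] (f : G →* H) (hf : Function.Surjective f)
    (hker : f.ker ≤ pPrimeCore p G) :
    Nonempty (G ⧸ pPrimeCore p G ≃* H ⧸ pPrimeCore p H) := by
  have h1 : ((bar p H).comp f).ker = pPrimeCore p G := by
    rw [← MonoidHom.comap_ker, QuotientGroup.ker_mk', comap_core_eq f hf hker]
  exact ⟨(QuotientGroup.quotientMulEquivOfEq h1.symm).trans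
    (QuotientGroup.quotientKerEquivOfSurjective _ ((bar_surjective p).comp hf))⟩

theorem IsPC.map {G' : Type v} [Group G'] [Finite G'] {L H : Subgroup G} (h : IsPC p L H) (f : G →* G')
    (hker : (Nat.card ↥(H ⊓ f.ker)).Coprime p) :
    IsPC p (L.map f) (H.map f) ∧ Nonempty (↥L ⧸ pPrimeCore p ↥L ≃* ↥(L.map f) ⧸ pPrimeCore p ↥(L.map f)) := by
  have hk : (f.subgroupMap L).ker ≤ pPrimeCore p ↥L := by
    refine le_pPrimeCore ?_
    rw [← Subgroup.card_map_of_injective L.subtype_injective]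
    refine Nat.Coprime.coprime_dvd_left (Subgroup.card_dvd_of_le ?_) hker
    rintro _ ⟨x, hx, rfl⟩
    exact Subgroup.mem_inf.mpr ⟨h.le x.2, MonoidHom.mem_ker.mpr (congrArg Subtype.val (MonoidHom.mem_ker.mp hx))⟩
  obtain ⟨e⟩ := exists_quotCoreEquiv (f.subgroupMap L) (f.subgroupMap_surjective L) hk
  refine ⟨⟨Subgroup.map_mono h.le, ?_, le_antisymm (pEl_le _) ?_, isQuasisimple_of_equiv e h.qs⟩, ⟨e⟩⟩
  · have h1 := h.subnormal.map (f := f.subgroupMap H) (f.subgroupMap_surjective H)
    have e : (L.subgroupOf H).map (f.subgroupMap H) = (L.map f).subgroupOf (H.map f) := by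
      ext x
      constructor
      · rintro ⟨z, hz, rfl⟩
        exact ⟨z, hz, rfl⟩
      · rintro ⟨z, hz, e⟩
        exact ⟨⟨z, h.le hz⟩, hz, Subtype.ext e⟩
    rwa [e] at h1
  · conv_lhs => rw [← h.pel]
    exact pEl_map_le f L

/-! ### Fixed points of elements acting trivially modulo `O_{p'}` -/

/-- Coprime lifting for a `p`-group acting trivially on `K / W`. -/
theorem exists_fixed_lift_group {K W A : Subgroup G} (hWK : W ≤ K) (hKW : K ≤ Subgroup.normalizer (W : Set G))
    (hW : (Nat.card W).Coprime p) (hA : IsPGroup p A) (hAK : ∀ a ∈ A, ∀ k ∈ K, a * k * a⁻¹ * k⁻¹ ∈ W)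
    {k : G} (hk : k ∈ K) : ∃ w ∈ W, ∀ a ∈ A, a * (k * w) = k * w * a := by
  have hAW : A ≤ Subgroup.normalizer (W : Set G) := fun a ha => mem_normalizer_of_maps fun x hx => by
    have := Subgroup.mul_mem _ (hAK a ha x (hWK hx)) hx
    rwa [inv_mul_cancel_right] at this
  obtain ⟨n, hn⟩ := IsPGroup.iff_card.mp hA
  have hcop : (Nat.card A).Coprime (Nat.card W) := by rw [hn]; exact (hW.pow_right n).symm
  haveI : Group.IsNilpotent ↥A := hA.isNilpotent
  have hsolv : Group.IsSolvable A ∨ Group.IsSolvable W := Or.inl inferInstance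
  have hka : ∀ a ∈ A, k⁻¹ * a * k ∈ W ⊔ A := by
    intro a ha
    have h1 := (Subgroup.mem_normalizer_iff.mp (hKW (Subgroup.inv_mem _ hk)) _).mp (hAK a ha k hk)
    have h2 := Subgroup.mul_mem_sup h1 ha
    simpa [mul_assoc] using h2
  obtain ⟨w, hw, h⟩ := coprime_key_normalize hcop hsolv hAW hka
  refine ⟨w, hw, fun a ha => ?_⟩
  have h1 : a * (k * w) * a⁻¹ * (k * w)⁻¹ ∈ W := hAK a ha _ (Subgroup.mul_mem _ hk (hWK hw))
  have h2 : a * (k * w) * a⁻¹ * (k * w)⁻¹ ∈ A := by
    have h3 := h a⁻¹ (Subgroup.inv_mem _ ha)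
    have h4 := Subgroup.mul_mem _ ha h3
    simpa [mul_assoc] using h4
  have h3 := Subgroup.disjoint_def.mp (Subgroup.disjoint_of_coprime_natCard hcop) h2 h1
  rw [mul_inv_eq_one, mul_inv_eq_iff_eq_mul] at h3
  exact h3

/-- The `p`-component of `C_K(y)` for `y` acting trivially on `K / O_{p'}(K)`. -/
abbrev fixPC (p : ℕ) (K : Subgroup G) (y : G) : Subgroup G :=
  pEl p (K ⊓ Subgroup.centralizer ({y} : Set G))

theorem IsPC.fix {K H : Subgroup G} (hK : IsPC p K H) {y : G} (hy : orderOf y = p)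
    (hyK : ∀ k ∈ K, y * k * y⁻¹ * k⁻¹ ∈ Om p K) :
    IsPC p (fixPC p K y) (H ⊓ Subgroup.centralizer ({y} : Set G)) ∧ K ≤ fixPC p K y ⊔ Om p K ∧
      Nonempty (↥(fixPC p K y) ⧸ pPrimeCore p ↥(fixPC p K y) ≃* ↥K ⧸ pPrimeCore p ↥K) ∧
      fixPC p K y = pLayerOf p (K ⊓ Subgroup.centralizer ({y} : Set G)) := by
  set C := K ⊓ Subgroup.centralizer ({y} : Set G) with hC
  set L := fixPC p K y with hL
  have hLC : L ≤ C := pEl_le _
  have hpow : y ^ p ^ 1 = 1 := by rw [pow_one, ← hy, pow_orderOf_eq_one]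
  let g : ↥L →* ↥K ⧸ pPrimeCore p ↥K :=
    (bar p ↥K).comp (Subgroup.inclusion (hLC.trans inf_le_left))
  have hg : Function.Surjective g := by
    have hAK : ∀ a ∈ Subgroup.zpowers y, ∀ k ∈ K, a * k * a⁻¹ * k⁻¹ ∈ Om p K := by
      let S : Subgroup G :=
        { carrier := {a | a ∈ Subgroup.normalizer (K : Set G) ∧ ∀ k ∈ K, a * k * a⁻¹ * k⁻¹ ∈ Om p K}
          one_mem' := ⟨one_mem _, fun k _ => by simp⟩
          mul_mem' := fun {a b} ha hb => ⟨Subgroup.mul_mem _ ha.1 hb.1, fun k hk => by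
            have h1 := Subgroup.mul_mem _
              ((Subgroup.mem_normalizer_iff.mp (normalizer_le_normalizer_Om K ha.1) _).mp (hb.2 k hk))
              (ha.2 k hk)
            simpa [mul_assoc] using h1⟩
          inv_mem' := fun {a} ha => ⟨Subgroup.inv_mem _ ha.1, fun k hk => by
            have h1 := Subgroup.inv_mem _ ((Subgroup.mem_normalizer_iff.mp
              (normalizer_le_normalizer_Om K (Subgroup.inv_mem _ ha.1)) _).mp (ha.2 k hk))
            simpa [mul_assoc] using h1⟩ }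
      have hyS : y ∈ S := ⟨mem_normalizer_of_maps fun x hx => by
        have := Subgroup.mul_mem K (Om_le K (hyK x hx)) hx
        rwa [inv_mul_cancel_right] at this, hyK⟩
      exact fun a ha => ((Subgroup.zpowers_le.mpr hyS) ha).2
    intro z
    obtain ⟨⟨k, hk⟩, rfl⟩ := bar_surjective p z
    have hz' : bar p ↥K ⟨k, hk⟩ ∈ (pEl p (C.subgroupOf K)).map (bar p ↥K) := by
      refine le_map_pEl (p := p) (bar p ↥K) (C.subgroupOf K) ?_
      have htop : (C.subgroupOf K).map (bar p ↥K) = ⊤ := by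
        rw [eq_top_iff]
        intro z' _
        obtain ⟨⟨k', hk'⟩, rfl⟩ := bar_surjective p z'
        obtain ⟨w, hw, hc⟩ := exists_fixed_lift_group (Om_le K) (le_normalizer_Om K) (card_Om_coprime K)
          (zpowers_isPGroup hpow) hAK hk'
        obtain ⟨w', hw', rfl⟩ := hw
        refine ⟨⟨k', hk'⟩ * w', Subgroup.mem_inf.mpr ⟨Subgroup.mul_mem _ hk' w'.2,
          Subgroup.mem_centralizer_singleton_iff.mpr (hc y (Subgroup.mem_zpowers y)).symm⟩, ?_⟩
        rw [map_mul, show bar p ↥K w' = 1 from (QuotientGroup.eq_one_iff w').mpr hw', mul_one]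
      rw [htop]
      have hKt : pEl p (⊤ : Subgroup ↥K) = ⊤ := Subgroup.map_injective K.subtype_injective (by
        rw [← pEl_map_subtype, ← MonoidHom.range_eq_map, Subgroup.range_subtype, hK.pel])
      have h1 := pEl_map_le (p := p) (bar p ↥K) (⊤ : Subgroup ↥K)
      rw [hKt, Subgroup.map_top_of_surjective _ (bar_surjective p)] at h1
      exact h1 (Subgroup.mem_top _)
    obtain ⟨w, hw, hwz⟩ := hz'
    refine ⟨⟨(w : G), ?_⟩, hwz⟩
    have : (w : G) ∈ (pEl p (C.subgroupOf K)).map K.subtype := Subgroup.mem_map_of_mem K.subtype hw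
    rw [← pEl_map_subtype, Subgroup.map_subgroupOf_eq_of_le inf_le_left] at this
    exact this
  have hker : g.ker ≤ pPrimeCore p ↥L := by
    refine le_pPrimeCore (Nat.Coprime.coprime_dvd_left ?_ (card_Om_coprime (p := p) K))
    rw [← Subgroup.card_map_of_injective L.subtype_injective]
    refine Subgroup.card_dvd_of_le ?_
    rintro _ ⟨x, hx, rfl⟩
    exact ⟨_, (QuotientGroup.eq_one_iff _).mp (MonoidHom.mem_ker.mp hx), rfl⟩
  obtain ⟨e⟩ := exists_quotCoreEquiv g hg hker
  let e' : ↥L ⧸ pPrimeCore p ↥L ≃* ↥K ⧸ pPrimeCore p ↥K :=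
    e.trans ((QuotientGroup.quotientMulEquivOfEq (pPrimeCore_quotient_eq_bot (G := ↥K) p)).trans
      QuotientGroup.quotientBot)
  have hpel : pEl p L = L := pEl_idem _
  have hqs : IsQuasisimple (↥L ⧸ pPrimeCore p ↥L) := isQuasisimple_of_equiv e'.symm hK.qs
  refine ⟨⟨hLC.trans (inf_le_inf hK.le le_rfl), ?_, hpel, hqs⟩, ?_, ⟨e'⟩, ?_⟩
  · have hCH : C ≤ H ⊓ Subgroup.centralizer ({y} : Set G) := inf_le_inf hK.le le_rfl
    set H' := H ⊓ Subgroup.centralizer ({y} : Set G) with hH'
    have hsn : (C.subgroupOf H').IsSubnormal := by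
      have h1 := hK.subnormal.comap (Subgroup.inclusion (inf_le_left : H' ≤ H))
      have e : (K.subgroupOf H).comap (Subgroup.inclusion (inf_le_left : H' ≤ H)) = C.subgroupOf H' := by
        ext x
        exact ⟨fun h => Subgroup.mem_inf.mpr ⟨h, (Subgroup.mem_inf.mp x.2).2⟩, fun h => (Subgroup.mem_inf.mp h).1⟩
      rwa [e] at h1
    refine Subgroup.IsSubnormal.step _ _ (Subgroup.comap_mono hLC) hsn ?_
    refine (Subgroup.normal_subgroupOf_iff_le_normalizer (Subgroup.comap_mono hLC)).mpr fun c hc => ?_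
    refine mem_normalizer_of_maps fun x hx => ?_
    exact (Subgroup.mem_normalizer_iff.mp ((Subgroup.le_normalizer.trans (normalizer_le_normalizer_pEl C)) hc) x).mp hx
  · intro k hk
    obtain ⟨⟨l, hl⟩, hlk⟩ := hg (bar p ↥K ⟨k, hk⟩)
    have hlk' := QuotientGroup.eq.mp hlk
    have h2 : (l⁻¹ * k : G) ∈ Om p K := ⟨_, hlk', rfl⟩
    have := Subgroup.mul_mem_sup hl h2
    rwa [mul_inv_cancel_left] at this
  · refine le_antisymm ((le_pLayerOf_self hqs hpel).trans ?_) ?_
    · show pLayerOf p L ≤ _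
      rw [pLayerOf, Subgroup.map_le_iff_le_comap]
      refine sSup_le fun J hJ => ?_
      haveI hn : (L.subgroupOf C).Normal := (Subgroup.normal_subgroupOf_iff_le_normalizer hLC).mpr
        (Subgroup.le_normalizer.trans (normalizer_le_normalizer_pEl C))
      have hJ' : IsPC p (J.map L.subtype) L := IsPC.of_pcompOf ⟨Subgroup.map_subtype_le _, by
        rw [Subgroup.subgroupOf, Subgroup.comap_map_eq_self_of_injective L.subtype_injective]; exact hJ⟩
      have h5 := hJ'.lift_normal hLC ((Subgroup.normal_subgroupOf_iff_le_normalizer hLC).mp hn)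
      rw [← Subgroup.map_le_iff_le_comap]
      calc J.map L.subtype = ((J.map L.subtype).subgroupOf C).map C.subtype :=
            (Subgroup.map_subgroupOf_eq_of_le h5.le).symm
        _ ≤ pLayerOf p C := Subgroup.map_mono (le_sSup h5.toPComp)
    · rw [pLayerOf, Subgroup.map_le_iff_le_comap]
      refine sSup_le fun J hJ => ?_
      rw [← Subgroup.map_le_iff_le_comap]
      calc J.map C.subtype = pEl p (J.map C.subtype) := by rw [pEl_map_subtype, pcomp_pEl hJ]
        _ ≤ L := pEl_mono (Subgroup.map_subtype_le _)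

end CfsgLib.Comp
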