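import Cfsg.Agent.Lib.Comp.Balance
import Cfsg.Agent.Lib.Comp.PC
import Cfsg.Agent.Lib.ZStar.CentSylow
import Cfsg.Agent.Lib.Fusion.Group

/-!
`L_{2'}`-balance for all finite groups. The place of the Schreier property is taken by a consequence of
the `Z^*`-theorem: a perfect group of automorphisms generated by `2`-elements and centralising a Sylow
`2`-subgroup of a group with trivial odd core is trivial.
-/

set_option autoImplicit false
set_option linter.unusedSectionVars false

namespace CfsgLib.Comp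

open Cfsg Subgroup Cfsg.FusionSystem
open scoped commutatorElement

universe u
variable {G : Type u} [Group G] [Finite G]

theorem isSylowIn_inf_of_subnormal (P : Sylow 2 G) {H : Subgroup G} (hH : H.IsSubnormal) :
    IsSylowIn 2 ((P : Subgroup G) ⊓ H) H := by
  induction hH with
  | top =>
    rw [inf_top_eq]
    refine ⟨le_top, P.2, ?_⟩
    rw [Subgroup.relIndex_top_right]
    exact P.not_dvd_index
  | step H K hle hK hN ih =>
    have h := ih.inf_of_normal hle ((Subgroup.normal_subgroupOf_iff_le_normalizer hle).mp hN)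
    rwa [inf_assoc, inf_eq_right.mpr hle] at h

/-- No component has a central Sylow `2`-subgroup when `O(G) = 1`. -/
theorem not_central_sylow_component (hO : pPrimeCore 2 G = ⊥) (P : Sylow 2 G) {J : Subgroup G}
    (hJ : IsComponent J)
    (h : ∀ x ∈ (P : Subgroup G) ⊓ J, ∀ y ∈ J, x * y = y * x) : False := by
  obtain ⟨-, hp, hidx⟩ := isSylowIn_inf_of_subnormal P hJ.1
  set T : Sylow 2 ↥J := (hp.of_equiv (Subgroup.subgroupOfEquivOfLe (inf_le_right : (P : Subgroup G) ⊓ J ≤ J)).symm).toSylow hidx with hT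
  haveI : Group.IsPerfect ↥J := hJ.2.1
  have hodd := CfsgLib.CentSylow.odd_of_perfect_of_central T (fun g _ x hx => Subtype.ext (h x hx g g.2))
  have hle := subnormal_coprime_le (p := 2) hJ.1 (Nat.coprime_two_right.mpr hodd)
  rw [hO, le_bot_iff] at hle
  exact isComponent_ne_bot hJ hle

/-- A perfect group generated by `2`-elements, normalising a component and centralising a Sylow
`2`-subgroup of it, centralises it. -/
theorem centralizes_component_of_sylow (hO : pPrimeCore 2 G = ⊥) (P : Sylow 2 G) {J : Subgroup G}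
    (hJ : IsComponent J) {L : Subgroup G} (hLN : L ≤ Subgroup.normalizer (J : Set G))
    (hperf : ⁅L, L⁆ = L) (hgen : pEl 2 L = L)
    (hcent : ∀ l ∈ L, ∀ x ∈ (P : Subgroup G) ⊓ J, l * x = x * l) :
    L ≤ Subgroup.centralizer (J : Set G) := by
  obtain ⟨-, hp, hidx⟩ := isSylowIn_inf_of_subnormal P hJ.1
  set T : Sylow 2 ↥J := (hp.of_equiv (Subgroup.subgroupOfEquivOfLe (inf_le_right : (P : Subgroup G) ⊓ J ≤ J)).symm).toSylow hidx with hT
  set π := QuotientGroup.mk' (Subgroup.center ↥J) with hπ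
  set S := T.mapSurjective (QuotientGroup.mk'_surjective (Subgroup.center ↥J)) with hS
  haveI hsimple := hJ.2.2
  have hOb : pPrimeCore 2 (↥J ⧸ Subgroup.center ↥J) = ⊥ := by
    refine (Subgroup.Normal.eq_bot_or_eq_top inferInstance).resolve_right fun htop => ?_
    refine not_central_sylow_component hO P hJ fun x hx y hy => ?_
    have hmem : π ⟨x, hx.2⟩ ∈ (S : Subgroup (↥J ⧸ Subgroup.center ↥J)) := ⟨⟨x, hx.2⟩, hx, rfl⟩
    obtain ⟨n, hn⟩ := S.2 ⟨_, hmem⟩
    have h1 : π ⟨x, hx.2⟩ = 1 := pElement_eq_one_of_coprime (card_pPrimeCore_coprime 2)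
      (htop ▸ Subgroup.mem_top _) (n := n) (congrArg Subtype.val hn)
    exact congrArg Subtype.val (Subgroup.mem_center_iff.mp ((QuotientGroup.eq_one_iff _).mp h1) ⟨y, hy⟩).symm
  let ρ : ↥L →* MulAut (↥J ⧸ Subgroup.center ↥J) := (quotAut J).comp (Subgroup.inclusion hLN)
  have hρ : ρ.range = ⊥ := by
    refine CfsgLib.CentSylow.eq_bot_of_perfect hOb S ρ.range ?_ ?_ ?_
    · rintro _ ⟨l, rfl⟩ s hs
      obtain ⟨x, hx, rfl⟩ := hs
      show QuotientGroup.mk (J.normalizerMonoidHom ⟨l, hLN l.2⟩ x) = QuotientGroup.mk x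
      refine congrArg QuotientGroup.mk (Subtype.ext ?_)
      show (l : G) * x * (l : G)⁻¹ = x
      rw [hcent l l.2 x hx, mul_inv_cancel_right]
    · haveI : Group.IsPerfect ↥L := Subgroup.isPerfect_iff.mpr hperf
      rw [MonoidHom.range_eq_map, ← Subgroup.map_commutator, ← _root_.commutator_def,
        Group.isPerfect_def.mp ‹Group.IsPerfect ↥L›]
    · have h1 : pEl 2 (⊤ : Subgroup ↥L) = ⊤ := Subgroup.map_injective L.subtype_injective (by
        rw [← pEl_map_subtype, ← MonoidHom.range_eq_map, Subgroup.range_subtype, hgen])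
      calc ρ.range = (pEl 2 (⊤ : Subgroup ↥L)).map ρ := by rw [h1, ← MonoidHom.range_eq_map]
        _ ≤ pEl 2 ((⊤ : Subgroup ↥L).map ρ) := pEl_map_le ρ ⊤
        _ = pEl 2 ρ.range := by rw [← MonoidHom.range_eq_map]
        _ ≤ _ := le_rfl
  set Z := (Subgroup.center ↥J).map J.subtype with hZ
  have hLJ : ⁅L, J⁆ ≤ Z := by
    rw [Subgroup.commutator_le]
    intro l hl a ha
    have h1 : QuotientGroup.mk (J.normalizerMonoidHom ⟨l, hLN hl⟩ ⟨a, ha⟩) =
        (QuotientGroup.mk (⟨a, ha⟩ : ↥J) : ↥J ⧸ Subgroup.center ↥J) := by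
      have h2 : ρ ⟨l, hl⟩ = 1 := Subgroup.mem_bot.mp (hρ ▸ ⟨_, rfl⟩)
      exact congrArg (fun e : MulAut (↥J ⧸ Subgroup.center ↥J) => e (QuotientGroup.mk' _ ⟨a, ha⟩)) h2
    have h3 := QuotientGroup.eq_iff_div_mem.mp h1
    refine ⟨_, h3, ?_⟩
    rw [div_eq_mul_inv, commutatorElement_def]
    rfl
  have hZJ : ⁅Z, J⁆ = ⊥ := by
    rw [Subgroup.commutator_eq_bot_iff_le_centralizer]
    rintro _ ⟨z, hz, rfl⟩ y hy
    exact congrArg Subtype.val (Subgroup.mem_center_iff.mp hz ⟨y, hy⟩)
  have h2 : ⁅⁅L, J⁆, J⁆ = ⊥ := le_bot_iff.mp (hZJ ▸ Subgroup.commutator_mono hLJ le_rfl)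
  have h1 : ⁅⁅J, L⁆, J⁆ = ⊥ := by rwa [Subgroup.commutator_comm J L]
  have h3 := Subgroup.commutator_commutator_eq_bot_of_rotate h1 h2
  rw [show ⁅J, J⁆ = J from Subgroup.isPerfect_iff.mp hJ.2.1, Subgroup.commutator_comm,
    Subgroup.commutator_eq_bot_iff_le_centralizer] at h3
  exact h3

/-- In `M / O(M)`, centralizers of `2`-subgroups are covered: a `2`-component centralising a `2`-group
`Q` modulo `O(M)` comes from a `2`-component of `C(Q)`. -/
theorem exists_pcomp_centralizer {M : Type u} [Group M] [Finite M] {C : Type u} [Group C] [Finite C]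
    (f : C →* M) (hf : Function.Injective f) {K : Subgroup M} (hK : IsPComponent 2 K)
    (hcov : K ≤ f.range ⊔ pPrimeCore 2 M) :
    ∃ V : Subgroup C, IsPComponent 2 V ∧ K ≤ V.map f ⊔ pPrimeCore 2 M := by
  set O := pPrimeCore 2 M with hOdef
  set Kb := K.map (bar 2 M) with hKb
  set W := Kb.comap (bar 2 M) with hW
  set V := W.comap f with hV
  have hVsn : V.IsSubnormal := (hK.2.1.1.comap (bar 2 M)).comap f
  have himg : V.map ((bar 2 M).comp f) = Kb := by
    refine le_antisymm ?_ ?_
    · rintro _ ⟨v, hv, rfl⟩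
      exact hv
    · rintro _ ⟨k, hk, rfl⟩
      obtain ⟨_, ⟨c, rfl⟩, o, ho, e⟩ := Subgroup.mem_sup_of_normal_right.mp (hcov hk)
      have h1 : bar 2 M (f c) = bar 2 M k := by
        rw [← e, map_mul, show bar 2 M o = 1 from (QuotientGroup.eq_one_iff o).mpr ho, mul_one]
      exact ⟨c, show bar 2 M (f c) ∈ Kb from h1 ▸ ⟨k, hk, rfl⟩, h1⟩
  -- the two cores cut out the same subgroup of `V`
  have hcore1 : O.comap f ≤ pPrimeCore 2 C := by
    refine le_pPrimeCore (Nat.Coprime.coprime_dvd_left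
      (Subgroup.card_dvd_of_injective (f.subgroupComap O) (fun a b e => Subtype.ext (hf (congrArg Subtype.val e))))
      (card_pPrimeCore_coprime 2))
  have hcore2 : ∀ v ∈ V, v ∈ pPrimeCore 2 C → f v ∈ O := by
    intro v hv hvO
    set A := (V ⊓ pPrimeCore 2 C).map ((bar 2 M).comp f) with hA
    have hAle : A ≤ Kb := (Subgroup.map_mono inf_le_left).trans himg.le
    haveI : (A.subgroupOf Kb).Normal := by
      refine (Subgroup.normal_subgroupOf_iff_le_normalizer hAle).mpr fun y hy => ?_
      rw [← himg] at hy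
      obtain ⟨c, hc, rfl⟩ := hy
      refine mem_normalizer_of_maps ?_
      rintro _ ⟨x, hx, rfl⟩
      exact ⟨c * x * c⁻¹, Subgroup.mem_inf.mpr ⟨V.mul_mem (V.mul_mem hc hx.1) (V.inv_mem hc),
        (inferInstance : (pPrimeCore 2 C).Normal).conj_mem x hx.2 c⟩, by rw [map_mul, map_mul, map_inv]⟩
    have hsn : A.IsSubnormal := by
      have h1 := (Subgroup.Normal.isSubnormal (H := A.subgroupOf Kb) inferInstance).trans' hK.2.1.1
      rwa [Subgroup.map_subgroupOf_eq_of_le hAle] at h1
    have h2 : A ≤ pPrimeCore 2 (M ⧸ pPrimeCore 2 M) := subnormal_coprime_le hsn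
      (Nat.Coprime.coprime_dvd_left ((Subgroup.card_map_dvd _ _).trans (Subgroup.card_dvd_of_le inf_le_right))
        (card_pPrimeCore_coprime 2))
    rw [pPrimeCore_quotient_eq_bot] at h2
    exact (QuotientGroup.eq_one_iff _).mp (Subgroup.mem_bot.mp (h2 ⟨v, Subgroup.mem_inf.mpr ⟨hv, hvO⟩, rfl⟩))
  have hker : ((bar 2 C).subgroupMap V).ker = (((bar 2 M).comp f).subgroupMap V).ker := by
    ext v
    rw [MonoidHom.mem_ker, MonoidHom.mem_ker]
    constructor
    · intro h
      exact Subtype.ext ((QuotientGroup.eq_one_iff _).mpr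
        (hcore2 v v.2 ((QuotientGroup.eq_one_iff _).mp (congrArg Subtype.val h))))
    · intro h
      exact Subtype.ext ((QuotientGroup.eq_one_iff _).mpr
        (hcore1 (show f v ∈ O from (QuotientGroup.eq_one_iff (f v)).mp (congrArg Subtype.val h))))
  have e : ↥(V.map (bar 2 C)) ≃* ↥Kb :=
    ((QuotientGroup.quotientKerEquivOfSurjective _ ((bar 2 C).subgroupMap_surjective V)).symm.trans
      (QuotientGroup.quotientMulEquivOfEq hker)).trans
      ((QuotientGroup.quotientKerEquivOfSurjective _ (((bar 2 M).comp f).subgroupMap_surjective V)).trans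
        (MulEquiv.subgroupCongr himg))
  have hcomp : IsComponent (V.map (bar 2 C)) :=
    ⟨hVsn.map (bar_surjective 2), isQuasisimple_of_equiv e.symm hK.2.1.2⟩
  haveI : ((pEl 2 V).subgroupOf V).Normal := (Subgroup.normal_subgroupOf_iff_le_normalizer (pEl_le V)).mpr
    (Subgroup.le_normalizer.trans (normalizer_le_normalizer_pEl V))
  have hbarV : (pEl 2 V).map (bar 2 C) = V.map (bar 2 C) := by
    refine le_antisymm (Subgroup.map_mono (pEl_le V)) ?_
    calc V.map (bar 2 C) = pEl 2 (V.map (bar 2 C)) := (component_pEl 2 hcomp).symm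
      _ ≤ _ := le_map_pEl (bar 2 C) V
  refine ⟨pEl 2 V, isPComponent_of_pEl ?_ (pEl_idem V) (hbarV ▸ hcomp), ?_⟩
  · exact Subgroup.IsSubnormal.step _ V (pEl_le V) hVsn inferInstance
  · have h1 : Kb ≤ ((pEl 2 V).map f).map (bar 2 M) := by
      calc Kb = pEl 2 Kb := (component_pEl 2 hK.2.1).symm
        _ = pEl 2 (V.map ((bar 2 M).comp f)) := by rw [himg]
        _ ≤ (pEl 2 V).map ((bar 2 M).comp f) := le_map_pEl _ V
        _ = _ := (Subgroup.map_map _ _ _).symm
    rwa [hKb, Subgroup.map_le_iff_le_comap, Subgroup.comap_map_eq, QuotientGroup.ker_mk'] at h1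

/-- The balance theorem in the reduced case. -/
theorem balance_core_two (hO : pPrimeCore 2 G = ⊥)
    (Q : Subgroup G) (hQ : IsPGroup 2 Q) (hPQ : pCore 2 G ≤ Q)
    (K : Subgroup ↥(Subgroup.normalizer (Q : Set G))) (hK : IsPComponent 2 K) :
    K.map (Subgroup.normalizer (Q : Set G)).subtype ≤ layer G := by
  induction hn : Nat.card G - Nat.card Q using Nat.strong_induction_on generalizing Q with
  | h n ih =>
    subst hn
    revert K hK
    set M := Subgroup.normalizer (Q : Set G) with hM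
    intro K hK
    set L := K.map M.subtype with hL
    have hLperf : ⁅L, L⁆ = L := by
      have hperf : ⁅K, K⁆ = K := pcomp_perfect (p := 2) hK
      rw [hL, ← Subgroup.map_commutator, hperf]
    have hLgen : pEl 2 L = L := by rw [hL, pEl_map_subtype, pcomp_pEl hK]
    have hLQ : ∀ k ∈ L, ∀ q ∈ Q, k * q = q * k := by
      rintro _ ⟨k, hk, rfl⟩ q hq
      haveI : (Q.subgroupOf M).Normal :=
        (Subgroup.normal_subgroupOf_iff_le_normalizer Subgroup.le_normalizer).mpr le_rfl
      have hle : Q.subgroupOf M ≤ pCore 2 ↥M :=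
        le_pCore (hQ.of_equiv (Subgroup.subgroupOfEquivOfLe Subgroup.le_normalizer).symm)
      exact (congrArg Subtype.val
        (pcomp_centralizes_pCore hK hk ⟨q, Subgroup.le_normalizer hq⟩ (hle hq))).symm
    by_contra hLE
    haveI hNn : ((layer G).subgroupOf M).Normal := inferInstance
    have hKN : ⁅K, (layer G).subgroupOf M⁆ ≤ pPrimeCore 2 ↥M :=
      (pcomp_le_or_commutator hK ((layer G).subgroupOf M)).resolve_left fun h =>
        hLE ((Subgroup.map_mono h).trans (by rw [Subgroup.subgroupOf_map_subtype]; exact inf_le_left))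
    obtain ⟨P, hP⟩ := hQ.exists_le_sylow
    set X := (P : Subgroup G) ⊓ layer G with hX
    by_cases hXQ : X ≤ Q
    · have hJQ : ∀ J : Subgroup G, IsComponent J → ∀ x ∈ (P : Subgroup G) ⊓ J, x ∈ Q := fun J hJ x hx =>
        hXQ (Subgroup.mem_inf.mpr ⟨(Subgroup.mem_inf.mp hx).1, le_layer hJ (Subgroup.mem_inf.mp hx).2⟩)
      have hfix : ∀ J : Subgroup G, IsComponent J → L ≤ Subgroup.normalizer (J : Set G) := by
        intro J hJ k hk
        refine mem_normalizer_of_cj ?_
        by_contra hne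
        refine not_central_sylow_component hO P hJ fun x hx y hy => ?_
        have hc := (components_eq_or_commute (isComponent_map_equiv (MulAut.conj k) hJ) hJ).resolve_left hne
        refine comm_of_commutator_eq_bot hc ⟨x, (Subgroup.mem_inf.mp hx).2, ?_⟩ hy
        show k * x * k⁻¹ = x
        rw [hLQ k hk x (hJQ J hJ x hx), mul_inv_cancel_right]
      have hLF : L ≤ generalizedFittingSubgroup G := by
        refine le_trans (Subgroup.le_centralizer_iff.mp (sup_le (sSup_le fun J hJ => ?_) ?_))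
          centralizer_generalizedFitting_le
        · exact Subgroup.le_centralizer_iff.mp (centralizes_component_of_sylow hO P hJ (hfix J hJ) hLperf hLgen
            fun l hl x hx => hLQ l hl x (hJQ J hJ x hx))
        · rw [fitting_eq_pCore Fact.out hO]
          intro f hf l hl
          exact hLQ l hl f (hPQ hf)
      refine hLE ?_
      rw [← derived_gfit]
      refine le_iInf fun n => ?_
      induction n with
      | zero =>
        rw [derivedSeries_zero, ← MonoidHom.range_eq_map, Subgroup.range_subtype]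
        exact hLF
      | succ n ihn =>
        rw [derivedSeries_succ, Subgroup.map_commutator, ← hLperf]
        exact Subgroup.commutator_mono ihn ihn
    -- otherwise `Q` grows
    have hPX : (P : Subgroup G) ≤ Subgroup.normalizer (X : Set G) := fun g hg => mem_normalizer_of_maps
      fun x hx => Subgroup.mem_inf.mpr
        ⟨Subgroup.mul_mem _ (Subgroup.mul_mem _ hg (Subgroup.mem_inf.mp hx).1) (Subgroup.inv_mem _ hg),
          (inferInstance : (layer G).Normal).conj_mem x (Subgroup.mem_inf.mp hx).2 g⟩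
    set Q' := Q ⊔ (X ⊓ M) with hQ'
    have hQ'P : Q' ≤ (P : Subgroup G) := sup_le hP (inf_le_left.trans inf_le_left)
    have hQ'p : IsPGroup 2 Q' := P.2.to_le hQ'P
    have hlt : Q < Q' := by
      refine lt_of_le_of_ne le_sup_left fun e => ?_
      have hU : Q < Q ⊔ X := lt_of_le_of_ne le_sup_left fun e' => hXQ (e' ▸ le_sup_right)
      obtain ⟨g, hg, hgQ⟩ := SetLike.exists_of_lt (lt_normalizerIn (P.2.to_le (sup_le hP inf_le_left)) hU)
      obtain ⟨hgU, hgN⟩ := hg
      have hgU' : g ∈ ((Q ⊔ X : Subgroup G) : Set G) := hgU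
      rw [Subgroup.coe_mul_of_left_le_normalizer_right Q X (hP.trans hPX)] at hgU'
      obtain ⟨q, hq, x, hx, rfl⟩ := hgU'
      have hxM : x ∈ M := by
        have := M.mul_mem (M.inv_mem (Subgroup.le_normalizer hq)) hgN
        rwa [inv_mul_cancel_left] at this
      exact hgQ (Q.mul_mem hq (e ▸ Subgroup.mem_sup_right (Subgroup.mem_inf.mpr ⟨hx, hxM⟩)))
    have hQ'M : Q' ≤ M := sup_le Subgroup.le_normalizer inf_le_right
    set C := Subgroup.centralizer (Q' : Set G) with hC
    have hCM : C ≤ M := (Subgroup.centralizer_le (le_sup_left : Q ≤ Q')).trans (centralizer_le_normalizer' Q)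
    have hQ'Mp : IsPGroup 2 ↥(Q'.subgroupOf M) := hQ'p.of_equiv (Subgroup.subgroupOfEquivOfLe hQ'M).symm
    have hcov : K ≤ (Subgroup.inclusion hCM).range ⊔ pPrimeCore 2 ↥M := by
      intro k hk
      have hcomm : ∀ x ∈ Q'.subgroupOf M, bar 2 ↥M k * bar 2 ↥M x = bar 2 ↥M x * bar 2 ↥M k := by
        have hle : Q' ≤ ((Subgroup.centralizer {bar 2 ↥M k}).comap (bar 2 ↥M)).map M.subtype := by
          refine sup_le (fun q hq => ?_) (fun x hx => ?_)
          · refine ⟨⟨q, Subgroup.le_normalizer hq⟩, ?_, rfl⟩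
            rw [SetLike.mem_coe, Subgroup.mem_comap, Subgroup.mem_centralizer_singleton_iff,
              ← map_mul, ← map_mul]
            exact congrArg _ (Subtype.ext (hLQ _ ⟨k, hk, rfl⟩ q hq).symm)
          · refine ⟨⟨x, (Subgroup.mem_inf.mp hx).2⟩, ?_, rfl⟩
            rw [SetLike.mem_coe, Subgroup.mem_comap, Subgroup.mem_centralizer_singleton_iff]
            have h1 : bar 2 ↥M ⁅k, (⟨x, (Subgroup.mem_inf.mp hx).2⟩ : ↥M)⁆ = 1 := (QuotientGroup.eq_one_iff _).mpr
              (hKN (Subgroup.commutator_mem_commutator hk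
                (Subgroup.mem_inf.mp (Subgroup.mem_inf.mp hx).1).2))
            rw [map_commutatorElement, commutatorElement_eq_one_iff_mul_comm] at h1
            exact h1.symm
        intro x hx
        obtain ⟨x', hx', e⟩ := hle hx
        obtain rfl : x' = x := Subtype.ext e
        exact (Subgroup.mem_centralizer_singleton_iff.mp hx').symm
      obtain ⟨y, hy, e⟩ := exists_centralizing_lift hQ'Mp k (centralizer_le_normalizer' _ (by
        rintro _ ⟨x, hx, rfl⟩
        exact (hcomm x hx).symm))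
      have hyC := centralizes_of_bar hQ'Mp hy (by rw [e]; exact hcomm)
      have hyC' : (y : G) ∈ C := fun z hz => congrArg Subtype.val (hyC ⟨z, hQ'M hz⟩ hz)
      rw [show k = y * (y⁻¹ * k) by group]
      exact Subgroup.mul_mem_sup ⟨⟨_, hyC'⟩, rfl⟩ (QuotientGroup.eq.mp e)
    obtain ⟨V, hV, hKV⟩ := exists_pcomp_centralizer (Subgroup.inclusion hCM)
      (Subgroup.inclusion_injective hCM) hK hcov
    have hCM' : C ≤ Subgroup.normalizer (Q' : Set G) := centralizer_le_normalizer' Q'
    haveI hn' : (C.subgroupOf (Subgroup.normalizer (Q' : Set G))).Normal := by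
      refine ⟨fun c hc g => ?_⟩
      intro y hy
      show y * ((g : G) * c * (g : G)⁻¹) = (g : G) * c * (g : G)⁻¹ * y
      have h1 := hc ((g : G)⁻¹ * y * g) (by
        simpa using (Subgroup.mem_normalizer_iff.mp (Subgroup.inv_mem _ g.2) y).mp hy)
      calc y * ((g : G) * c * (g : G)⁻¹) = (g : G) * ((g : G)⁻¹ * y * g * c) * (g : G)⁻¹ := by group
        _ = (g : G) * ((c : G) * ((g : G)⁻¹ * y * g)) * (g : G)⁻¹ := by
          rw [show ((g : G)⁻¹ * y * g) * (c : G) = c * ((g : G)⁻¹ * y * g) from h1]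
        _ = (g : G) * c * (g : G)⁻¹ * y := by group
    let e := (Subgroup.subgroupOfEquivOfLe hCM').symm
    have hV1 := isPComponent_map_surjective e.toMonoidHom e.surjective
      (by rw [(MonoidHom.ker_eq_bot_iff e.toMonoidHom).mpr e.injective]; exact bot_le) hV
    set V1 := V.map e.toMonoidHom with hV1def
    set K' := V1.map (C.subgroupOf (Subgroup.normalizer (Q' : Set G))).subtype with hK'
    have hK'c : IsPComponent 2 K' := (isPComponent_subgroupOf_iff _ (Subgroup.map_subtype_le _)).mp (by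
      have e1 : K'.subgroupOf (C.subgroupOf (Subgroup.normalizer (Q' : Set G))) = V1 :=
        Subgroup.comap_map_eq_self_of_injective (Subgroup.subtype_injective _) V1
      rw [e1]; exact hV1)
    have hcard : Nat.card G - Nat.card Q' < Nat.card G - Nat.card Q := by
      have h1 : Nat.card Q < Nat.card Q' := by
        refine lt_of_not_ge fun h => hlt.ne (Subgroup.eq_of_le_of_card_ge hlt.le h)
      have h2 := Subgroup.card_le_card_group Q'
      omega
    have hIH := ih _ hcard Q' hQ'p (hPQ.trans le_sup_left) K' hK'c rfl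
    refine hLE ?_
    have h3 : V.map (Subgroup.inclusion hCM) ≤ (layer G).subgroupOf M := by
      rintro _ ⟨v, hv, rfl⟩
      exact hIH ⟨_, ⟨_, ⟨v, hv, rfl⟩, rfl⟩, rfl⟩
    refine (Subgroup.map_mono ?_).trans ((Subgroup.subgroupOf_map_subtype _ _).le.trans inf_le_left)
    calc K = pEl 2 K := (pcomp_pEl hK).symm
      _ ≤ pEl 2 ((layer G).subgroupOf M ⊔ pPrimeCore 2 ↥M) := pEl_mono (hKV.trans (sup_le_sup_right h3 _))
      _ ≤ _ := pEl_sup_core_le _

/-- The balance theorem for groups with trivial `p'`-core. -/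
theorem balance_reduced_two (hO : pPrimeCore 2 G = ⊥)
    (Q : Subgroup G) (hQ : IsPGroup 2 Q)
    (K : Subgroup ↥(Subgroup.normalizer (Q : Set G))) (hK : IsPComponent 2 K) :
    K.map (Subgroup.normalizer (Q : Set G)).subtype ≤ layer G := by
  revert K hK
  set M := Subgroup.normalizer (Q : Set G) with hM
  intro K hK
  haveI : (pCore 2 G).Normal := Subgroup.sSup_normal _ (fun _ h => h.1)
  set Q' := Q ⊔ pCore 2 G with hQ'
  have hQ'p : IsPGroup 2 Q' := hQ.to_sup_of_normal_right (isPGroup_pCore 2)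
  set M' := Subgroup.normalizer (Q' : Set G) with hM'
  set C := Subgroup.centralizer (Q' : Set G) with hC
  set L := K.map M.subtype with hL
  have hLP : L ≤ Subgroup.centralizer (pCore 2 G : Set G) := by
    refine le_trans (Subgroup.map_mono ?_) (layer_preimage_centralizes Q hQ)
    rw [← Subgroup.map_le_iff_le_comap]
    exact le_layer hK.2.1
  have hLC : L ≤ C := by
    rw [hC, Subgroup.le_centralizer_iff]
    refine sup_le ?_ (Subgroup.le_centralizer_iff.mp hLP)
    rw [Subgroup.le_centralizer_iff]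
    rintro _ ⟨k, hk, rfl⟩ q hq
    haveI : (Q.subgroupOf M).Normal :=
      (Subgroup.normal_subgroupOf_iff_le_normalizer Subgroup.le_normalizer).mpr le_rfl
    have hle : Q.subgroupOf M ≤ pCore 2 ↥M :=
      le_pCore (hQ.of_equiv (Subgroup.subgroupOfEquivOfLe Subgroup.le_normalizer).symm)
    exact congrArg Subtype.val
      (pcomp_centralizes_pCore hK hk ⟨q, Subgroup.le_normalizer hq⟩ (hle hq))
  have hMM' : M ≤ M' := fun g hg => mem_normalizer_of_maps fun x hx => by
    have hle : Q' ≤ Q'.comap (MulAut.conj g).toMonoidHom := sup_le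
      (fun y hy => Subgroup.mem_sup_left ((Subgroup.mem_normalizer_iff.mp hg y).mp hy))
      (fun y hy => Subgroup.mem_sup_right ((inferInstance : (pCore 2 G).Normal).conj_mem y hy g))
    exact hle hx
  have hCM : C ≤ M :=
    (Subgroup.centralizer_le (le_sup_left : Q ≤ Q')).trans (centralizer_le_normalizer' Q)
  have hCM' : C ≤ M' := centralizer_le_normalizer' Q'
  haveI hn' : (C.subgroupOf M').Normal := by
    refine ⟨fun c hc g => ?_⟩
    intro y hy
    show y * ((g : G) * c * (g : G)⁻¹) = (g : G) * c * (g : G)⁻¹ * y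
    have h1 := hc ((g : G)⁻¹ * y * g) (by
      simpa using (Subgroup.mem_normalizer_iff.mp (Subgroup.inv_mem _ g.2) y).mp hy)
    calc y * ((g : G) * c * (g : G)⁻¹) = (g : G) * ((g : G)⁻¹ * y * g * c) * (g : G)⁻¹ := by group
      _ = (g : G) * ((c : G) * ((g : G)⁻¹ * y * g)) * (g : G)⁻¹ := by
        rw [show ((g : G)⁻¹ * y * g) * (c : G) = c * ((g : G)⁻¹ * y * g) from h1]
      _ = (g : G) * c * (g : G)⁻¹ * y := by group
  haveI hn : (C.subgroupOf M).Normal :=
    (Subgroup.normal_subgroupOf_iff_le_normalizer hCM).mpr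
      (hMM'.trans ((Subgroup.normal_subgroupOf_iff_le_normalizer hCM').mp hn'))
  have h1 : IsPComponent 2 (K.subgroupOf (C.subgroupOf M)) :=
    (isPComponent_subgroupOf_iff (C.subgroupOf M) (fun k hk => hLC ⟨k, hk, rfl⟩)).mpr hK
  let e : ↥(C.subgroupOf M) ≃* ↥(C.subgroupOf M') :=
    (Subgroup.subgroupOfEquivOfLe hCM).trans (Subgroup.subgroupOfEquivOfLe hCM').symm
  have h2 := isPComponent_map_surjective e.toMonoidHom e.surjective
    (by rw [(MonoidHom.ker_eq_bot_iff e.toMonoidHom).mpr e.injective]; exact bot_le) h1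
  set K' : Subgroup ↥M' := L.subgroupOf M' with hK'
  have hle' : K' ≤ C.subgroupOf M' := fun x hx => hLC hx
  have h3 : (K.subgroupOf (C.subgroupOf M)).map e.toMonoidHom = K'.subgroupOf (C.subgroupOf M') := by
    ext ⟨⟨x, hxM⟩, hxC⟩
    rw [Subgroup.mem_map_equiv]
    constructor
    · intro hx; exact ⟨_, hx, rfl⟩
    · rintro ⟨k, hk, hkx⟩
      have : ((e.symm ⟨⟨x, hxM⟩, hxC⟩ : ↥(C.subgroupOf M)) : ↥M) = k := Subtype.ext hkx.symm
      show ((e.symm ⟨⟨x, hxM⟩, hxC⟩ : ↥(C.subgroupOf M)) : ↥M) ∈ K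
      rw [this]; exact hk
  rw [h3] at h2
  have h4 := balance_core_two hO Q' hQ'p le_sup_right K' ((isPComponent_subgroupOf_iff (C.subgroupOf M') hle').mp h2)
  rwa [hK', Subgroup.map_subgroupOf_eq_of_le (hLC.trans hCM')] at h4

/-- `L_{p'}`-balance. -/
theorem pLayer_balance_two
    (R : Subgroup G) (hR : IsPGroup 2 R) :
    (pLayer 2 ↥(Subgroup.normalizer (R : Set G))).map (Subgroup.normalizer (R : Set G)).subtype ≤ pLayer 2 G := by
  set N := Subgroup.normalizer (R : Set G) with hN
  set Rb := R.map (bar 2 G) with hRb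
  set Nb := Subgroup.normalizer (Rb : Set (G ⧸ pPrimeCore 2 G)) with hNb
  have hNN : N.map (bar 2 G) = Nb := by
    refine le_antisymm ?_ ?_
    · rintro _ ⟨y, hy, rfl⟩
      refine mem_normalizer_of_maps ?_
      rintro _ ⟨x, hx, rfl⟩
      exact ⟨_, (Subgroup.mem_normalizer_iff.mp hy x).mp hx, by rw [map_mul, map_mul, map_inv]⟩
    · intro z hz
      obtain ⟨y, rfl⟩ := bar_surjective 2 z
      obtain ⟨y', hy', e⟩ := exists_centralizing_lift hR y hz
      exact ⟨y', hy', e⟩
  let f : N →* Nb := ((bar 2 G).comp N.subtype).codRestrict Nb (fun h => hNN ▸ Subgroup.mem_map_of_mem _ h.2)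
  have hf : Function.Surjective f := by
    rintro ⟨z, hz⟩
    rw [← hNN] at hz
    obtain ⟨y, hy, rfl⟩ := hz
    exact ⟨⟨y, hy⟩, rfl⟩
  have hker : f.ker ≤ pPrimeCore 2 ↥N := by
    refine le_pPrimeCore ?_
    rw [← Subgroup.card_map_of_injective N.subtype_injective]
    refine Nat.Coprime.coprime_dvd_left (Subgroup.card_dvd_of_le ?_) (card_pPrimeCore_coprime (G := G) 2)
    rintro _ ⟨x, hx, rfl⟩
    rw [← QuotientGroup.eq_one_iff]
    exact congrArg Subtype.val (MonoidHom.mem_ker.mp hx)
  rw [Subgroup.map_le_iff_le_comap]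
  refine sSup_le fun K hK => ?_
  rw [← Subgroup.map_le_iff_le_comap]
  have h1 := balance_reduced_two (pPrimeCore_quotient_eq_bot 2) Rb (hR.map _) (K.map f)
    (isPComponent_map_surjective f hf hker hK)
  have h2 : K.map N.subtype ≤ pLayer 2 G ⊔ pPrimeCore 2 G := by
    rw [← QuotientGroup.ker_mk' (pPrimeCore 2 G), ← Subgroup.comap_map_eq, map_pLayer,
      ← Subgroup.map_le_iff_le_comap, Subgroup.map_map]
    refine le_trans (le_of_eq ?_) h1
    rw [Subgroup.map_map]
    rfl
  calc K.map N.subtype = pEl 2 (K.map N.subtype) := by rw [pEl_map_subtype, pcomp_pEl hK]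
    _ ≤ pEl 2 (pLayer 2 G ⊔ pPrimeCore 2 G) := pEl_mono h2
    _ ≤ pLayer 2 G := pEl_sup_core_le _


/-- `L_{2'}`-balance for centralizers. -/
theorem pLayer_balance_two_centralizer (R : Subgroup G) (hR : IsPGroup 2 R) :
    (pLayer 2 ↥(Subgroup.centralizer (R : Set G))).map (Subgroup.centralizer (R : Set G)).subtype ≤ pLayer 2 G := by
  refine le_trans ?_ (pLayer_balance_two R hR)
  set N := Subgroup.normalizer (R : Set G) with hN
  set C := Subgroup.centralizer (R : Set G) with hC
  have hCN : C ≤ N := centralizer_le_normalizer' R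
  haveI : (C.subgroupOf N).Normal := by
    refine ⟨fun c hc g => ?_⟩
    intro y hy
    show y * ((g : G) * c * (g : G)⁻¹) = (g : G) * c * (g : G)⁻¹ * y
    have h1 := hc ((g : G)⁻¹ * y * g) (by
      simpa using (Subgroup.mem_normalizer_iff.mp (Subgroup.inv_mem _ g.2) y).mp hy)
    calc y * ((g : G) * c * (g : G)⁻¹) = (g : G) * ((g : G)⁻¹ * y * g * c) * (g : G)⁻¹ := by group
      _ = (g : G) * ((c : G) * ((g : G)⁻¹ * y * g)) * (g : G)⁻¹ := by
        rw [show ((g : G)⁻¹ * y * g) * (c : G) = c * ((g : G)⁻¹ * y * g) from h1]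
      _ = (g : G) * c * (g : G)⁻¹ * y := by group
  rw [Subgroup.map_le_iff_le_comap]
  refine sSup_le fun K hK => ?_
  let e := (Subgroup.subgroupOfEquivOfLe hCN).symm
  have hK1 := isPComponent_map_surjective e.toMonoidHom e.surjective
    (by rw [(MonoidHom.ker_eq_bot_iff e.toMonoidHom).mpr e.injective]; exact bot_le) hK
  set K' := (K.map e.toMonoidHom).map (C.subgroupOf N).subtype with hK'
  have e1 : K'.subgroupOf (C.subgroupOf N) = K.map e.toMonoidHom :=
    Subgroup.comap_map_eq_self_of_injective (Subgroup.subtype_injective _) _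
  have hK'c : IsPComponent 2 K' :=
    (isPComponent_subgroupOf_iff _ (Subgroup.map_subtype_le _)).mp (by rw [e1]; exact hK1)
  intro k hk
  exact ⟨_, le_sSup (a := K') hK'c ⟨_, ⟨k, hk, rfl⟩, rfl⟩, rfl⟩

end CfsgLib.Comp
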