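import Cfsg.Agent.Lib.Comp.BalanceLocal

/-!
The preimage of `E(N/O_{p'}(N))`, `N` the normalizer of a `p`-subgroup, normalises every component.
-/

set_option autoImplicit false
set_option linter.unusedSectionVars false

namespace CfsgLib.Comp

open Cfsg Subgroup
open scoped commutatorElement

universe u
variable {G : Type u} [Group G] [Finite G] {p : ℕ} [Fact p.Prime]

theorem layer_le_normalizer_component {J : Subgroup G} (hJ : IsComponent J) :
    layer G ≤ Subgroup.normalizer (J : Set G) := sSup_le fun K hK => by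
  rcases components_eq_or_commute hK hJ with rfl | h
  · exact Subgroup.le_normalizer
  · exact (Subgroup.commutator_eq_bot_iff_le_centralizer.mp h).trans (centralizer_le_normalizer' J)

/-- A `p`-component of `N(Q)`, `Q ≥ O_p(G)`, normalises every component. -/
theorem pcomp_normalizes_component (hO : pPrimeCore p G = ⊥) {Q : Subgroup G} (hQ : IsPGroup p Q)
    (hPQ : pCore p G ≤ Q) {J : Subgroup G} (hJ : IsComponent J)
    {K : Subgroup ↥(Subgroup.normalizer (Q : Set G))} (hK : IsPComponent p K) :
    K.map (Subgroup.normalizer (Q : Set G)).subtype ≤ Subgroup.normalizer (J : Set G) := by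
  revert K hK
  set M := Subgroup.normalizer (Q : Set G) with hM
  intro K hK
  set L := K.map M.subtype with hL
  by_cases hLE : L ≤ layer G
  · exact hLE.trans (layer_le_normalizer_component hJ)
  have hLperf : ⁅L, L⁆ = L := by
    have hperf : ⁅K, K⁆ = K := pcomp_perfect (p := p) hK
    rw [hL, ← Subgroup.map_commutator, hperf]
  have hLQ : ∀ k ∈ L, ∀ q ∈ Q, k * q = q * k := by
    rintro _ ⟨k, hk, rfl⟩ q hq
    haveI : (Q.subgroupOf M).Normal :=
      (Subgroup.normal_subgroupOf_iff_le_normalizer Subgroup.le_normalizer).mpr le_rfl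
    have hle : Q.subgroupOf M ≤ pCore p ↥M :=
      le_pCore (hQ.of_equiv (Subgroup.subgroupOfEquivOfLe Subgroup.le_normalizer).symm)
    exact (congrArg Subtype.val (pcomp_centralizes_pCore hK hk ⟨q, Subgroup.le_normalizer hq⟩ (hle hq))).symm
  have hKN : ⁅K, (layer G).subgroupOf M⁆ ≤ pPrimeCore p ↥M :=
    (pcomp_le_or_commutator hK ((layer G).subgroupOf M)).resolve_left fun h =>
      hLE ((Subgroup.map_mono h).trans (by rw [Subgroup.subgroupOf_map_subtype]; exact inf_le_left))
  refine le_normalizer_of_orbit hQ hLperf hLQ ?_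
  rintro _ ⟨k, hk, rfl⟩
  exact cj_mem_orbit hO hQ hPQ hJ k (hLQ _ ⟨k, hk, rfl⟩)
    fun x hx => hKN (Subgroup.commutator_mem_commutator hk hx)

/-- The preimage of `E(N(P)/O_{p'})` normalises every component. -/
theorem layer_preimage_normalizes (hO : pPrimeCore p G = ⊥) {P : Subgroup G} (hP : IsPGroup p P)
    {J : Subgroup G} (hJ : IsComponent J) :
    ((layer (↥(Subgroup.normalizer (P : Set G)) ⧸ pPrimeCore p ↥(Subgroup.normalizer (P : Set G)))).comap
      (bar p ↥(Subgroup.normalizer (P : Set G)))).map (Subgroup.normalizer (P : Set G)).subtype ≤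
      Subgroup.normalizer (J : Set G) := by
  set N := Subgroup.normalizer (P : Set G) with hN
  haveI : (pCore p G).Normal := Subgroup.sSup_normal _ (fun _ h => h.1)
  set Q := P ⊔ pCore p G with hQ
  have hQp : IsPGroup p Q := hP.to_sup_of_normal_right (isPGroup_pCore p)
  set M := Subgroup.normalizer (Q : Set G) with hM
  set C := Subgroup.centralizer (Q : Set G) with hC
  set Pre := (layer (↥N ⧸ pPrimeCore p ↥N)).comap (bar p ↥N) with hPre
  have hPreP : ∀ k ∈ Pre, (k : G) ∈ Subgroup.centralizer (pCore p G : Set G) :=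
    fun k hk => layer_preimage_centralizes P hP ⟨k, hk, rfl⟩
  have hCN : C ≤ N := (Subgroup.centralizer_le (le_sup_left : P ≤ Q)).trans (centralizer_le_normalizer' P)
  have hCM : C ≤ M := centralizer_le_normalizer' Q
  haveI hn' : (C.subgroupOf M).Normal := centralizer_subgroupOf_normalizer_normal Q
  have hNM : N ≤ M := fun g hg => mem_normalizer_of_maps fun x hx => by
    have hle : Q ≤ Q.comap (MulAut.conj g).toMonoidHom := sup_le
      (fun y hy => Subgroup.mem_sup_left ((Subgroup.mem_normalizer_iff.mp hg y).mp hy))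
      (fun y hy => Subgroup.mem_sup_right ((inferInstance : (pCore p G).Normal).conj_mem y hy g))
    exact hle hx
  haveI hn : (C.subgroupOf N).Normal :=
    (Subgroup.normal_subgroupOf_iff_le_normalizer hCN).mpr
      (hNM.trans ((Subgroup.normal_subgroupOf_iff_le_normalizer hCM).mp hn'))
  have hcentP : ∀ k ∈ Pre, (∀ q ∈ P, (k : G) * q = q * k) → (k : G) ∈ C := by
    intro k hk hkP
    rw [hC]
    refine Subgroup.le_centralizer_iff.mp (show Q ≤ Subgroup.centralizer (Subgroup.zpowers (k : G) : Set G) from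
      sup_le ?_ ?_) (Subgroup.mem_zpowers (k : G))
    · refine Subgroup.le_centralizer_iff.mp (Subgroup.zpowers_le.mpr ?_)
      exact fun q hq => (hkP q hq).symm
    · exact Subgroup.le_centralizer_iff.mp (Subgroup.zpowers_le.mpr (hPreP k hk))
  have hPn : (P.subgroupOf N).Normal :=
    (Subgroup.normal_subgroupOf_iff_le_normalizer Subgroup.le_normalizer).mpr le_rfl
  have hPcore : P.subgroupOf N ≤ pCore p ↥N :=
    le_pCore (hP.of_equiv (Subgroup.subgroupOfEquivOfLe (Subgroup.le_normalizer : P ≤ N)).symm)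
  have hpre : Pre = pLayer p ↥N ⊔ pPrimeCore p ↥N := by
    rw [hPre, ← map_pLayer, Subgroup.comap_map_eq, QuotientGroup.ker_mk']
  rw [Subgroup.map_le_iff_le_comap, hpre]
  refine sup_le (sSup_le fun K hK => ?_) ?_
  · have hKC : K ≤ C.subgroupOf N := fun k hk => hcentP k
      (hpre.ge (Subgroup.mem_sup_left ((le_sSup hK : K ≤ pLayer p ↥N) hk)))
      fun q hq => (congrArg Subtype.val
        (pcomp_centralizes_pCore hK hk ⟨q, Subgroup.le_normalizer hq⟩ (hPcore hq))).symm
    have h1 := (isPComponent_subgroupOf_iff (C.subgroupOf N) hKC).mpr hK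
    let e : ↥(C.subgroupOf N) ≃* ↥(C.subgroupOf M) :=
      (Subgroup.subgroupOfEquivOfLe hCN).trans (Subgroup.subgroupOfEquivOfLe hCM).symm
    have h2 := isPComponent_map_surjective e.toMonoidHom e.surjective
      (by rw [(MonoidHom.ker_eq_bot_iff e.toMonoidHom).mpr e.injective]; exact bot_le) h1
    set K1 := (K.subgroupOf (C.subgroupOf N)).map e.toMonoidHom with hK1
    set K' := K1.map (C.subgroupOf M).subtype with hK'
    have hK'c : IsPComponent p K' := (isPComponent_subgroupOf_iff _ (Subgroup.map_subtype_le _)).mp (by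
      rw [show K'.subgroupOf (C.subgroupOf M) = K1 from
        Subgroup.comap_map_eq_self_of_injective (Subgroup.subtype_injective _) _]
      exact h2)
    intro k hk
    exact pcomp_normalizes_component hO hQp le_sup_right hJ hK'c
      ⟨_, ⟨_, ⟨⟨k, hKC hk⟩, hk, rfl⟩, rfl⟩, rfl⟩
  · intro k hk
    have hkP : ∀ q ∈ P, (k : G) * q = q * k := by
      intro q hq
      have hmem : ⁅k, (⟨q, Subgroup.le_normalizer hq⟩ : ↥N)⁆ ∈ pPrimeCore p ↥N ⊓ P.subgroupOf N :=
        Subgroup.commutator_le_inf _ _ (Subgroup.commutator_mem_commutator hk hq)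
      obtain ⟨a, ha⟩ := IsPGroup.iff_card.mp
        (hP.of_equiv (Subgroup.subgroupOfEquivOfLe (Subgroup.le_normalizer : P ≤ N)).symm)
      rw [Subgroup.inf_eq_bot_of_coprime (by rw [ha]; exact (card_pPrimeCore_coprime p).pow_right a),
        Subgroup.mem_bot, commutatorElement_eq_one_iff_mul_comm] at hmem
      exact congrArg Subtype.val hmem
    set O := (pPrimeCore p ↥N).map N.subtype with hOdef
    have hOC : O ≤ C := by
      rintro _ ⟨y, hy, rfl⟩
      refine hcentP y (hpre.ge (Subgroup.mem_sup_right hy)) fun q hq => ?_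
      have hmem : ⁅y, (⟨q, Subgroup.le_normalizer hq⟩ : ↥N)⁆ ∈ pPrimeCore p ↥N ⊓ P.subgroupOf N :=
        Subgroup.commutator_le_inf _ _ (Subgroup.commutator_mem_commutator hy hq)
      obtain ⟨a, ha⟩ := IsPGroup.iff_card.mp
        (hP.of_equiv (Subgroup.subgroupOfEquivOfLe (Subgroup.le_normalizer : P ≤ N)).symm)
      rw [Subgroup.inf_eq_bot_of_coprime (by rw [ha]; exact (card_pPrimeCore_coprime p).pow_right a),
        Subgroup.mem_bot, commutatorElement_eq_one_iff_mul_comm] at hmem
      exact congrArg Subtype.val hmem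
    have hsn : (O.subgroupOf M).IsSubnormal := by
      refine Subgroup.IsSubnormal.step _ (C.subgroupOf M) (fun z hz => hOC hz)
        (Subgroup.Normal.isSubnormal inferInstance) ?_
      refine (Subgroup.normal_subgroupOf_iff_le_normalizer
        (show O.subgroupOf M ≤ C.subgroupOf M from fun z hz => hOC hz)).mpr fun g hg => ?_
      refine mem_normalizer_of_maps fun z hz => ?_
      obtain ⟨w, hw, e⟩ := hz
      refine ⟨⟨(g : G), hCN hg⟩ * w * ⟨(g : G), hCN hg⟩⁻¹,
        (inferInstance : (pPrimeCore p ↥N).Normal).conj_mem w hw _, ?_⟩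
      show ((g : G) * (w : G) * (g : G)⁻¹) = ((g * z * g⁻¹ : ↥M) : G)
      push_cast
      rw [show (w : G) = z from e]
    have hle := subnormal_coprime_le (p := p) hsn (by
      rw [Nat.card_congr (Subgroup.subgroupOfEquivOfLe (hOC.trans hCM)).toEquiv, hOdef,
        Subgroup.card_map_of_injective N.subtype_injective]
      exact card_pPrimeCore_coprime p)
    exact core_normalizer_normalizes hO hQp le_sup_right hJ
      ⟨⟨k, hCM (hOC ⟨k, hk, rfl⟩)⟩, hle (show (k : G) ∈ O from ⟨k, hk, rfl⟩), rfl⟩

end CfsgLib.Comp
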