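import Cfsg.Agent.Lib.Comp.PTerminalBase

/-!
Existence of `p`-terminal `p`-components under the Schreier property.
-/

set_option autoImplicit false
set_option linter.unusedSectionVars false
set_option maxHeartbeats 800000

namespace CfsgLib.Comp

open Cfsg Subgroup
open scoped commutatorElement

universe u

variable {X : Type u} [Group X] [Finite X] {p : ℕ} [Fact p.Prime]

/-! ### `p`-subgroups of maximal order inside a subgroup -/

theorem card_le_pv {D P : Subgroup X} (hle : P ≤ D) (hP : IsPGroup p ↥P) : Nat.card P ≤ pv p D := by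
  obtain ⟨k, hk⟩ := IsPGroup.iff_card.mp hP
  have h1 : p ^ k ∣ Nat.card D := hk ▸ Subgroup.card_dvd_of_le hle
  rw [hk]
  exact Nat.pow_le_pow_right (Fact.out : p.Prime).pos
    (((Fact.out : p.Prime).pow_dvd_iff_le_factorization Nat.card_pos.ne').mp h1)

theorem exists_maxP {D P : Subgroup X} (hle : P ≤ D) (hP : IsPGroup p ↥P) :
    ∃ Q ≤ D, IsPGroup p ↥Q ∧ Nat.card Q = pv p D ∧ P ≤ Q := by
  obtain ⟨S, hS⟩ := (hP.of_equiv (Subgroup.subgroupOfEquivOfLe hle).symm).exists_le_sylow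
  refine ⟨(S : Subgroup ↥D).map D.subtype, Subgroup.map_subtype_le _, S.2.map _, ?_, ?_⟩
  · rw [Subgroup.card_map_of_injective D.subtype_injective, S.card_eq_multiplicity]
  · calc P = (P.subgroupOf D).map D.subtype := (Subgroup.map_subgroupOf_eq_of_le hle).symm
      _ ≤ _ := Subgroup.map_mono hS

theorem exists_conj_into {D Q : Subgroup X} (hQD : Q ≤ D) (hQ : IsPGroup p ↥Q) (hc : Nat.card Q = pv p D)
    {k : X} (hk : k ∈ D) {n : ℕ} (hn : k ^ p ^ n = 1) : ∃ d ∈ D, d * k * d⁻¹ ∈ Q := by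
  obtain ⟨S, hS⟩ := (hQ.of_equiv (Subgroup.subgroupOfEquivOfLe hQD).symm).exists_le_sylow
  have hSQ : (S : Subgroup ↥D) = Q.subgroupOf D := (Subgroup.eq_of_le_of_card_ge hS (by
    rw [Nat.card_congr (Subgroup.subgroupOfEquivOfLe hQD).toEquiv, hc, S.card_eq_multiplicity])).symm
  obtain ⟨S', hS'⟩ := (zpowers_isPGroup (p := p) (x := (⟨k, hk⟩ : ↥D)) (n := n)
    (Subtype.ext (by push_cast; exact hn))).exists_le_sylow
  obtain ⟨g, hg⟩ := MulAction.exists_smul_eq D S' S
  refine ⟨g, g.2, ?_⟩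
  have h1 : (MulAut.conj g) ⟨k, hk⟩ ∈ (S : Subgroup ↥D) := by
    rw [← hg, Sylow.coe_subgroup_smul]
    exact Subgroup.smul_mem_pointwise_smul _ _ _ (hS' (Subgroup.mem_zpowers _))
  rw [hSQ] at h1
  exact h1

theorem exists_orderOf_eq_prime_zpowers {z : X} (hz1 : z ≠ 1) {n : ℕ} (hn : z ^ p ^ n = 1) :
    ∃ w ∈ Subgroup.zpowers z, orderOf w = p := by
  obtain ⟨k, hk⟩ := IsPGroup.iff_card.mp (zpowers_isPGroup (p := p) hn)
  obtain ⟨w, hw⟩ := exists_prime_orderOf_dvd_card' (G := ↥(Subgroup.zpowers z)) p (by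
    rw [hk]
    refine dvd_pow_self p fun h0 => hz1 ?_
    rw [h0, pow_zero, Nat.card_zpowers, orderOf_eq_one_iff] at hk
    exact hk)
  exact ⟨w, w.2, by rw [Subgroup.orderOf_coe]; exact hw⟩

theorem exists_central_in_normal {Q M : Subgroup X} (hQ : IsPGroup p ↥Q) (hMQ : M ≤ Q)
    (hQM : Q ≤ Subgroup.normalizer (M : Set X)) (hne : M ≠ ⊥) :
    ∃ z ∈ M, orderOf z = p ∧ ∀ q ∈ Q, q * z = z * q := by
  haveI : Group.IsNilpotent ↥Q := hQ.isNilpotent
  haveI : (M.subgroupOf Q).Normal := (Subgroup.normal_subgroupOf_iff_le_normalizer hMQ).mpr hQM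
  have hne' : M.subgroupOf Q ≠ ⊥ := fun e => hne (by
    rw [← Subgroup.map_subgroupOf_eq_of_le hMQ, e, Subgroup.map_bot])
  obtain ⟨z, hz, hz1⟩ := (Subgroup.bot_or_exists_ne_one _).resolve_left (inf_center_ne_bot_of_nilpotent hne')
  obtain ⟨hzM, hzc⟩ := Subgroup.mem_inf.mp hz
  obtain ⟨n, hn⟩ := hQ z
  obtain ⟨w, hw, hwp⟩ := exists_orderOf_eq_prime_zpowers (p := p) (z := (z : X))
    (fun e => hz1 (Subtype.ext e)) (n := n) (congrArg Subtype.val hn)
  refine ⟨w, (Subgroup.zpowers_le.mpr (show (z : X) ∈ M from hzM)) hw, hwp, fun q hq => ?_⟩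
  obtain ⟨i, rfl⟩ := Subgroup.mem_zpowers_iff.mp hw
  exact ((show Commute q (z : X) from
    congrArg Subtype.val (Subgroup.mem_center_iff.mp hzc ⟨q, hq⟩)).zpow_right i).eq

theorem eq_one_of_central_sSup {G : Type u} [Group G] [Finite G] (s : Set (Subgroup G))
    (hc : ∀ K ∈ s, IsComponent K) (hz : ∀ K ∈ s, Subgroup.center ↥K = ⊥)
    {x : G} (hx : x ∈ sSup s) (hcom : ∀ g : G, x * g = g * x) : x = 1 := by
  induction s, s.toFinite using Set.Finite.induction_on generalizing x with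
  | empty => simpa using hx
  | @insert K T hKT _ ih =>
    rw [sSup_insert] at hx
    have hKc := hc K (Set.mem_insert _ _)
    have hcomm : ⁅K, sSup T⁆ = ⊥ := by
      rw [Subgroup.commutator_comm, Subgroup.commutator_eq_bot_iff_le_centralizer]
      refine sSup_le fun L hL => ?_
      rw [← Subgroup.commutator_eq_bot_iff_le_centralizer]
      exact (components_eq_or_commute (hc L (Set.mem_insert_of_mem _ hL)) hKc).resolve_left
        (fun e => hKT (e ▸ hL))
    obtain ⟨k, hk, m, hm, rfl⟩ := mem_sup_of_commutator_eq_bot hcomm hx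
    have hk1 : k = 1 := by
      have hkc : (⟨k, hk⟩ : ↥K) ∈ Subgroup.center ↥K := Subgroup.mem_center_iff.mpr fun b => Subtype.ext (by
        show (b : G) * k = k * b
        have h2 := comm_of_commutator_eq_bot hcomm b.2 hm
        refine mul_right_cancel (b := m) ?_
        rw [mul_assoc, ← hcom, mul_assoc, ← h2, mul_assoc])
      rw [hz K (Set.mem_insert _ _), Subgroup.mem_bot] at hkc
      exact congrArg Subtype.val hkc
    subst hk1
    rw [one_mul] at hcom ⊢
    exact ih (fun L hL => hc L (Set.mem_insert_of_mem _ hL)) (fun L hL => hz L (Set.mem_insert_of_mem _ hL))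
      hm hcom

theorem bar_Om_image {y : X} {M H : Subgroup X} (hM : IsPC p M H) (hH : H ≤ cen y)
    (hO : pPrimeCore p ↥(imY p y M) = ⊥) {o : X} (ho : o ∈ Om p M) :
    bar p ↥(cen y) ⟨o, (hM.le.trans hH) (Om_le M ho)⟩ = 1 := by
  have hle : imY p y (Om p M) ≤ Om p (imY p y M) := by
    refine le_Om (Subgroup.map_mono (Subgroup.comap_mono (Om_le M))) ?_ ?_
    · rintro _ ⟨l, hl, rfl⟩
      refine mem_normalizer_of_maps ?_
      rintro _ ⟨q, hq, rfl⟩
      exact ⟨l * q * l⁻¹, (Subgroup.mem_normalizer_iff.mp (le_normalizer_Om M hl) q).mp hq,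
        by rw [map_mul, map_mul, map_inv]⟩
    · refine Nat.Coprime.coprime_dvd_left (Subgroup.card_map_dvd _ _) ?_
      rw [Nat.card_congr (Subgroup.subgroupOfEquivOfLe ((Om_le M).trans (hM.le.trans hH))).toEquiv]
      exact card_Om_coprime M
  rw [Om_bot_of_core_bot hO] at hle
  exact Subgroup.mem_bot.mp (hle ⟨⟨o, (hM.le.trans hH) (Om_le M ho)⟩, ho, rfl⟩)

/-! ### Maximal pairs -/

/-- A pair `(x, K)` maximal first in `|K / O_{p'}(K)|`, then in the `p`-part of its centralizer. -/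
structure MaxPair (p : ℕ) (x : X) (K : Subgroup X) : Prop where
  hx : orderOf x = p
  hK : IsPC p K (cen x)
  hq : ∀ (y : X) (M : Subgroup X), orderOf y = p → IsPC p M (cen y) → qc p M ≤ qc p K
  hv : ∀ (y : X) (M : Subgroup X), orderOf y = p → IsPC p M (cen y) → qc p M = qc p K →
    pv p (centralizerOfPComponent p y M) ≤ pv p (centralizerOfPComponent p x K)

variable (hS : ∀ z : X, orderOf z = p →
  ∀ J : Subgroup (↥(cen z) ⧸ pPrimeCore p ↥(cen z)), IsComponent J →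
    Group.IsSolvable (Cfsg.Out (↥J ⧸ Subgroup.center ↥J)))

include hS

/-- `z` fixing the orbit of `(x, K)` at `y` is never trivially pumped up. -/
theorem no_triv_in_orbit_fixer {x : X} {K : Subgroup X} (hmax : MaxPair p x K) {y z : X}
    (d : PumpData p x K y) (dz : PumpData p x K z) (hyz : z * y = y * z) (htz : dz.Triv)
    (J : Subgroup (↥(cen y) ⧸ pPrimeCore p ↥(cen y))) (h : Moves p d.a J) (hinj : Function.Injective h.delta)
    (hL : imY p y (fixPC p K y) = h.delta.range)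
    (hzA : bar p ↥(cen y) ⟨z, mem_cen.mpr hyz⟩ ∈
      Subgroup.centralizer ((orbitSup (Subgroup.zpowers d.a) J : Subgroup _) : Set _)) : False := by
  obtain ⟨Mz, hMz, hLMz, -, hDz, -⟩ := dz.triv_data htz
  have hyz' : y ∈ cen z := mem_cen.mpr hyz.symm
  have hxz' : x ∈ cen z := mem_cen.mpr dz.comm
  have hyD : y ∈ centralizerOfPComponent p z Mz := hDz (Subgroup.mem_inf.mpr ⟨d.hy, hyz'⟩)
  have hxD : x ∈ centralizerOfPComponent p z Mz := hDz (Subgroup.mem_inf.mpr ⟨self_mem_centralizerOf K, hxz'⟩)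
  set W := cen z ⊓ cen y with hW
  set m := fixPC p Mz y with hm
  have hmPC : IsPC p m W := (hMz.fix d.hyo ((mem_centralizerOf hMz).mp hyD).2).1
  -- the component `J` seen in `W`
  obtain ⟨hM, hMim⟩ := liftPC_isPC (p := p) y h.comp
  set M := liftPC p y J with hMdef
  have hzM : z ∈ centralizerOfPComponent p y M := by
    refine mem_centralizerOf_iff.mpr ⟨mem_cen.mpr hyz, ?_⟩
    rw [hMim]
    exact (Subgroup.centralizer_le (self_le_orbitSup _ J)) hzA
  set I := fixPC p M z with hI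
  obtain ⟨hI0, hMI, -, -⟩ := hM.fix dz.hyo ((mem_centralizerOf hM).mp hzM).2
  have hIW : IsPC p I W := by rwa [inf_comm] at hI0
  have hIy : I ≤ cen y := hIW.le.trans inf_le_right
  have hJI : J ≤ imY p y I := by
    intro w hw
    rw [← hMim] at hw
    obtain ⟨g, hg, rfl⟩ := hw
    have hIM : I ≤ M := (pEl_le _).trans inf_le_left
    obtain ⟨o, ho, i, hi, e⟩ := mem_sup_of_le_normalizer (hIM.trans (le_normalizer_Om M))
      (show (g : X) ∈ Om p M ⊔ I from sup_comm I (Om p M) ▸ hMI hg)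
    have hob := bar_Om_image hM le_rfl (by
      rw [hMim]; exact component_core_bot (pPrimeCore_quotient_eq_bot (G := ↥(cen y)) p) h.comp) ho
    refine ⟨⟨i, hIy hi⟩, hi, ?_⟩
    have e' : g = (⟨o, hM.le (Om_le M ho)⟩ : ↥(cen y)) * ⟨i, hIy hi⟩ := Subtype.ext e.symm
    rw [e', map_mul, hob, one_mul]
  -- the diagonal lies in the image of `m`
  set L := fixPC p K y with hLdef
  have hLyz := d.fix.1.fix dz.hyo fun l hl => d.commutator_mem_Om dz.hy (mem_cen.mpr hyz) hl
  have hLzm : fixPC p L z ≤ m := by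
    calc fixPC p L z = pEl p (fixPC p L z) := (hLyz.1.pel).symm
      _ ≤ m := pEl_mono fun g hg => by
        have hg' := pEl_le _ hg
        obtain ⟨hgL, hgz⟩ := Subgroup.mem_inf.mp hg'
        refine Subgroup.mem_inf.mpr ⟨hLMz ?_, d.fix_le_cen hgL⟩
        have hle : fixPC p L z ≤ fixPC p K z := by
          refine pEl_mono (inf_le_inf ?_ le_rfl)
          exact (pEl_le _).trans inf_le_left
        exact hle hg
  have hLm : imY p y L ≤ imY p y m := by
    intro w hw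
    obtain ⟨g, hg, rfl⟩ := hw
    have hIM : fixPC p L z ≤ L := (pEl_le _).trans inf_le_left
    obtain ⟨o, ho, i, hi, e⟩ := mem_sup_of_le_normalizer (hIM.trans (le_normalizer_Om L))
      (show (g : X) ∈ Om p L ⊔ fixPC p L z from sup_comm (fixPC p L z) (Om p L) ▸ hLyz.2.1 hg)
    have hLO : pPrimeCore p ↥(imY p y L) = ⊥ := by
      rw [hL]
      have hJO : pPrimeCore p ↥J = ⊥ := component_core_bot (pPrimeCore_quotient_eq_bot (G := ↥(cen y)) p) h.comp
      rw [← pPrimeCore_map_equiv p (MonoidHom.ofInjective hinj), hJO, Subgroup.map_bot]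
    have hob := bar_Om_image d.fix.1 inf_le_right hLO ho
    have hiy : i ∈ cen y := d.fix_le_cen (hIM hi)
    refine ⟨⟨i, hiy⟩, hLzm hi, ?_⟩
    have e' : g = (⟨o, d.fix_le_cen (Om_le L ho)⟩ : ↥(cen y)) * ⟨i, hiy⟩ := Subtype.ext e.symm
    rw [e', map_mul, hob, one_mul]
  have hIJ : imY p y I ≤ J := by
    rw [← hMim]
    exact Subgroup.map_mono (Subgroup.comap_mono ((pEl_le _).trans inf_le_left))
  have hJeq : imY p y I = J := le_antisymm hIJ hJI
  -- `x` fixes `m`, so `m ≠ I`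
  have hne : m ≠ I := by
    intro hmI
    refine h.ne (cj_of_mem_normalizer ?_)
    have hxm : x ∈ Subgroup.normalizer (m : Set X) :=
      normalizer_le_normalizer_pEl _ (mem_normalizer_of_maps fun w hw => by
        obtain ⟨hwM, hwy⟩ := Subgroup.mem_inf.mp hw
        exact Subgroup.mem_inf.mpr ⟨(Subgroup.mem_normalizer_iff.mp (normalizes_of_mem hMz hxD) w).mp hwM,
          Subgroup.mul_mem _ (Subgroup.mul_mem _ d.x_mem hwy) (Subgroup.inv_mem _ d.x_mem)⟩)
    rw [← hJeq, ← hmI]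
    refine mem_normalizer_of_maps ?_
    rintro _ ⟨w, hw, rfl⟩
    exact ⟨⟨x, d.x_mem⟩ * w * (⟨x, d.x_mem⟩ : ↥(cen y))⁻¹, (Subgroup.mem_normalizer_iff.mp hxm w).mp hw,
      by rw [map_mul, map_mul, map_inv]; rfl⟩
  have hcomm := IsPC.commutator_le hmPC hIW hne
  set OW := (pPrimeCore p ↥W).map W.subtype with hOW
  have hOWy : OW ≤ cen y := (Subgroup.map_subtype_le _).trans inf_le_right
  have hcop : (Nat.card (imY p y OW)).Coprime p := by
    refine Nat.Coprime.coprime_dvd_left (Subgroup.card_map_dvd _ _) ?_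
    rw [Nat.card_congr (Subgroup.subgroupOfEquivOfLe hOWy).toEquiv, hOW,
      Subgroup.card_map_of_injective W.subtype_injective]
    exact card_pPrimeCore_coprime p
  have hmy : m ≤ cen y := (pEl_le _).trans inf_le_right
  have h2 : ⁅imY p y L, imY p y I⁆ ≤ imY p y OW := by
    refine (Subgroup.commutator_mono hLm le_rfl).trans ?_
    rw [← Subgroup.map_commutator]
    refine Subgroup.map_mono ?_
    rw [Subgroup.commutator_le]
    intro g hg q hq
    exact hcomm (Subgroup.commutator_mem_commutator hg hq)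
  have h3 : J ≤ imY p y OW := by
    calc J = ⁅J, J⁆ := (isComponent_commutator_self h.comp).symm
      _ ≤ ⁅imY p y L, imY p y I⁆ := by
        rw [Subgroup.commutator_le]
        intro j hj b hb
        have e : ⁅h.delta ⟨j, hj⟩, b⁆ = ⁅j, b⁆ := by
          rw [commutatorElement_def, commutatorElement_def, h.delta_acts ⟨j, hj⟩ hb]
        rw [← e]
        refine Subgroup.commutator_mem_commutator ?_ (hJI hb)
        rw [hL]
        exact ⟨⟨j, hj⟩, rfl⟩
      _ ≤ _ := h2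
  have h4 : pEl p J = ⊥ := pEl_eq_bot_of_coprime (Nat.Coprime.coprime_dvd_left (Subgroup.card_dvd_of_le h3) hcop)
  rw [component_pEl_self (pPrimeCore_quotient_eq_bot (G := ↥(cen y)) p) h.comp] at h4
  exact isComponent_ne_bot h.comp h4

/-- The central statement: at a maximal pair every `y` is pumped up trivially. -/
theorem triv_of_maxPair {x : X} {K : Subgroup X} (hmax : MaxPair p x K) {y : X}
    (d : PumpData p x K y) : d.Triv := by
  by_contra hnt
  set D := centralizerOfPComponent p x K with hD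
  have mkd : ∀ z : X, z ∈ D → orderOf z = p → PumpData p x K z := fun z hz ho => ⟨hmax.hx, hmax.hK, hz, ho⟩
  have hDx : ∀ e ∈ D, e * x = x * e := fun e he => mem_cen.mp (centralizerOf_le x K he)
  have hpow : ∀ {z : X}, orderOf z = p → z ^ p ^ 1 = 1 := fun {z} hz => by
    rw [pow_one, ← hz, pow_orderOf_eq_one]
  -- bad pairs
  let Bad : Set (Subgroup X × X) := {P | P.1 ≤ D ∧ IsPGroup p ↥P.1 ∧ Nat.card P.1 = pv p D ∧ P.2 ∈ P.1 ∧
    ∃ e : PumpData p x K P.2, ¬ e.Triv}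
  obtain ⟨Q₁, hQ₁, hQ₁p, hQ₁c, hyQ₁⟩ := exists_maxP (p := p) (Subgroup.zpowers_le.mpr d.hy)
    (zpowers_isPGroup (hpow d.hyo))
  obtain ⟨⟨Q, y⟩, ⟨hQD, hQp, hQc, hyQ, d, hnt⟩, hmaxR⟩ := (Set.toFinite Bad).exists_maximalFor
    (fun P => Nat.card ↥(P.1 ⊓ cen P.2)) Bad
    ⟨(Q₁, y), hQ₁, hQ₁p, hQ₁c, hyQ₁ (Subgroup.mem_zpowers y), d, hnt⟩
  simp only at hQD hQp hQc hyQ hmaxR
  -- the orbit
  obtain ⟨J, h, hinj, hL, hLO, ⟨eJ⟩⟩ := d.diag_data (hS y d.hyo) (fun M hM => hmax.hq y M d.hyo hM) hnt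
  set A := orbitSup (Subgroup.zpowers d.a) J with hA
  have hJO : pPrimeCore p (↥(cen y) ⧸ pPrimeCore p ↥(cen y)) = ⊥ := pPrimeCore_quotient_eq_bot p
  set R := Q ⊓ cen y with hR
  have hRD : R ≤ D := inf_le_left.trans hQD
  have hRy : R ≤ cen y := inf_le_right
  set R₀ := R ⊓ ((Subgroup.centralizer (A : Set _)).comap (bar p ↥(cen y))).map (cen y).subtype with hR₀
  have hR₀mem : ∀ {e : X} (he : e ∈ R), e ∈ R₀ ↔
      bar p ↥(cen y) ⟨e, hRy he⟩ ∈ Subgroup.centralizer (A : Set _) := by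
    intro e he
    constructor
    · intro h0
      obtain ⟨z, hz, hze⟩ := (Subgroup.mem_inf.mp h0).2
      exact (Subtype.ext hze : z = ⟨e, hRy he⟩) ▸ hz
    · intro h0
      exact Subgroup.mem_inf.mpr ⟨he, ⟨_, h0, rfl⟩⟩
  have hxQ : x ∈ Q := by
    have hn : Subgroup.zpowers x ≤ Subgroup.normalizer (Q : Set X) := by
      rw [Subgroup.zpowers_le]
      exact mem_normalizer_of_maps fun q hq => by rw [← hDx q (hQD hq), mul_inv_cancel_right]; exact hq
    have hp' := hQp.to_sup_of_normal_left' (zpowers_isPGroup (hpow hmax.hx)) hn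
    have hle : Q ⊔ Subgroup.zpowers x ≤ D := sup_le hQD (Subgroup.zpowers_le.mpr (self_mem_centralizerOf K))
    have heq : Q = Q ⊔ Subgroup.zpowers x :=
      Subgroup.eq_of_le_of_card_ge le_sup_left (hQc ▸ card_le_pv hle hp')
    exact heq ▸ Subgroup.mem_sup_right (Subgroup.mem_zpowers x)
  have hxR : x ∈ R := Subgroup.mem_inf.mpr ⟨hxQ, d.x_mem⟩
  have hxiR : ∀ i : ℕ, x ^ i ∈ R := fun i => Subgroup.pow_mem _ hxR i
  have hbarpow : ∀ i : ℕ, bar p ↥(cen y) ⟨x ^ i, hRy (hxiR i)⟩ = d.a ^ i := fun i => by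
    rw [PumpData.a, ← map_pow]; rfl
  have hdec : ∀ e ∈ R, ∃ i : ℕ, (x ^ i)⁻¹ * e ∈ R₀ := by
    intro e he
    have hea : bar p ↥(cen y) ⟨e, hRy he⟩ * d.a = d.a * bar p ↥(cen y) ⟨e, hRy he⟩ := by
      rw [PumpData.a, ← map_mul, ← map_mul]
      exact congrArg _ (Subtype.ext (hDx e (hRD he)))
    have hed : ∀ j : ↥J, bar p ↥(cen y) ⟨e, hRy he⟩ * h.delta j = h.delta j * bar p ↥(cen y) ⟨e, hRy he⟩ := by
      intro j
      exact ((d.bar_centralizes hLO (hRD he) (hRy he)) (h.delta j) (by rw [hL]; exact ⟨j, rfl⟩)).symm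
    obtain ⟨i, hi⟩ := h.exists_pow_centralizing hinj hea hed
    refine ⟨i, (hR₀mem (Subgroup.mul_mem _ (Subgroup.inv_mem _ (hxiR i)) he)).mpr ?_⟩
    rw [← hbarpow, ← map_inv, ← map_mul] at hi
    exact hi
  have hxR₀ : ∀ i : ℕ, x ^ i ∈ R₀ → x ^ i = 1 := by
    intro i hi
    have h1 := (hR₀mem (hxiR i)).mp hi
    rw [hbarpow] at h1
    have h2 : cj (d.a ^ i) J = cj (d.a ^ 0) J := by
      rw [pow_zero, cj_one]
      refine cj_of_mem_normalizer (centralizer_le_normalizer' J ?_)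
      exact Subgroup.centralizer_le (self_le_orbitSup _ J) h1
    have h3 := h.pow_eq_of_cj_eq h2
    rw [pow_zero] at h3
    have h4 : orderOf d.a ∣ i := orderOf_dvd_of_pow_eq_one h3
    rw [h.orderOf_eq, ← hmax.hx] at h4
    exact orderOf_dvd_iff_pow_eq_one.mp h4
  -- `R < Q`
  have hRQ : R ≠ Q := by
    intro hRQ
    have hcard : Nat.card R ≤ p * Nat.card R₀ := by
      rw [← hmax.hx, ← Nat.card_zpowers, ← Nat.card_prod]
      refine Nat.card_le_card_of_surjective
        (fun w : ↥(Subgroup.zpowers x) × ↥R₀ => (⟨(w.1 : X) * w.2,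
          Subgroup.mul_mem _ ((Subgroup.zpowers_le.mpr hxR) w.1.2) (Subgroup.mem_inf.mp w.2.2).1⟩ : ↥R)) ?_
      intro e
      obtain ⟨i, hi⟩ := hdec e e.2
      exact ⟨(⟨x ^ i, Subgroup.pow_mem _ (Subgroup.mem_zpowers x) i⟩, ⟨_, hi⟩),
        Subtype.ext (mul_inv_cancel_left _ _)⟩
    set P := imY p y R₀ with hP
    have hR₀p : IsPGroup p ↥R₀ := hQp.to_le (inf_le_left.trans inf_le_left)
    have hR₀y : R₀ ≤ cen y := inf_le_left.trans hRy
    have hPc : Nat.card P = Nat.card R₀ := by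
      refine (Nat.card_congr ?_).symm
      refine Equiv.ofBijective (fun e : ↥R₀ => (⟨bar p ↥(cen y) ⟨e, hR₀y e.2⟩, ⟨_, e.2, rfl⟩⟩ : ↥P)) ⟨?_, ?_⟩
      · intro e e' hee
        have h1 : bar p ↥(cen y) ⟨((e⁻¹ * e' : ↥R₀) : X), hR₀y (e⁻¹ * e').2⟩ = 1 := by
          have h2 := congrArg Subtype.val hee
          show bar p ↥(cen y) ((⟨e, hR₀y e.2⟩ : ↥(cen y))⁻¹ * ⟨e', hR₀y e'.2⟩) = 1
          rw [map_mul, map_inv]
          exact inv_mul_eq_one.mpr h2
        obtain ⟨n, hn⟩ := hR₀p (e⁻¹ * e')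
        have h3 := bar_injOn_pElement (p := p) (n := n) (Subtype.ext (by
          push_cast; exact congrArg Subtype.val hn)) h1
        exact Subtype.ext (inv_mul_eq_one.mp (congrArg Subtype.val h3))
      · rintro ⟨_, ⟨e, he, rfl⟩⟩
        exact ⟨⟨e, he⟩, rfl⟩
    have hPp : IsPGroup p ↥P :=
      (hR₀p.of_equiv (Subgroup.subgroupOfEquivOfLe hR₀y).symm).map _
    have hPA : P ≤ Subgroup.centralizer (A : Set _) := by
      rintro _ ⟨e, he, rfl⟩
      exact (hR₀mem (Subgroup.mem_inf.mp he).1).mp he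
    obtain ⟨P', hP'p, hP'J, hP'c⟩ := exists_bigger_centralizer hJO h P hPp hPA
    obtain ⟨hM, hMim⟩ := liftPC_isPC (p := p) y h.comp
    set M := liftPC p y J with hMdef
    have hqM : qc p M = qc p K := by
      obtain ⟨-, ⟨eM⟩⟩ := hM.imY_isPC (y := y) le_rfl
      rw [qc, Nat.card_congr eM.toEquiv, hMim,
        card_quot_of_core_bot (component_core_bot hJO h.comp), Nat.card_congr eJ.toEquiv]
    have hdvd : Nat.card P' ∣ Nat.card (centralizerOfPComponent p y M) := by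
      have e1 : centralizerOfPComponent p y M =
          ((Subgroup.centralizer (J : Set _)).comap (bar p ↥(cen y))).map (cen y).subtype := by
        ext e
        rw [mem_centralizerOf_iff, hMim]
        exact ⟨fun ⟨he, h⟩ => ⟨⟨e, he⟩, h, rfl⟩, fun ⟨z, hz, hze⟩ => hze ▸ ⟨z.2, hz⟩⟩
      rw [e1, Subgroup.card_map_of_injective (cen y).subtype_injective]
      refine (Subgroup.card_dvd_of_le hP'J).trans ?_
      have h5 := Subgroup.card_map_dvd (f := bar p ↥(cen y)) ((Subgroup.centralizer (J : Set _)).comap (bar p ↥(cen y)))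
      rwa [Subgroup.map_comap_eq_self_of_surjective (bar_surjective p)] at h5
    obtain ⟨k, hk⟩ := IsPGroup.iff_card.mp hP'p
    have hle : Nat.card P' ≤ pv p D := by
      refine le_trans ?_ (hmax.hv y M d.hyo hM hqM)
      rw [hk] at hdvd ⊢
      exact Nat.pow_le_pow_right (Fact.out : p.Prime).pos
        (((Fact.out : p.Prime).pow_dvd_iff_le_factorization Nat.card_pos.ne').mp hdvd)
    rw [← hQc, ← hRQ] at hle
    rw [hPc] at hP'c
    have h6 : p * Nat.card R₀ < p ^ 2 * Nat.card R₀ := by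
      rw [pow_two, mul_assoc]
      exact lt_mul_of_one_lt_left (Nat.mul_pos (Fact.out : p.Prime).pos Nat.card_pos) (Fact.out : p.Prime).one_lt
    omega
  have hRlt : R < Q := lt_of_le_of_ne inf_le_left hRQ
  -- a trivially pumped element fixing the orbit is impossible
  have hnofix : ∀ (z : X) (hz : z ∈ R₀) (ho : orderOf z = p), ¬ (mkd z (hRD (Subgroup.mem_inf.mp hz).1) ho).Triv := by
    intro z hz ho ht
    exact no_triv_in_orbit_fixer hS hmax d _ (mem_cen.mp (hRy (Subgroup.mem_inf.mp hz).1)) ht J h hinj hL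
      ((hR₀mem (Subgroup.mem_inf.mp hz).1).mp hz)
  have hbigger : ∀ (z : X) (hz : z ∈ Q) (ho : orderOf z = p) {S : Subgroup X}, R < S → S ≤ Q ⊓ cen z →
      (mkd z (hQD hz) ho).Triv := by
    intro z hz ho S hRS hSz
    by_contra ht
    have h1 := hmaxR (j := (Q, z)) ⟨hQD, hQp, hQc, hz, _, ht⟩
    have hlt : Nat.card R < Nat.card ↥(Q ⊓ cen z) := by
      refine lt_of_lt_of_le ?_ (Subgroup.card_le_of_le hSz)
      by_contra hle
      exact hRS.ne (Subgroup.eq_of_le_of_card_ge hRS.le (not_lt.mp hle))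
    have h2 := h1 hlt.le
    exact absurd h2 (not_le.mpr hlt)
  -- central elements of order `p`
  have hcentral : ∀ z ∈ Q, orderOf z = p → (∀ q ∈ Q, q * z = z * q) → z ∈ Subgroup.zpowers x := by
    intro z hz ho hc
    have hzR : z ∈ R := Subgroup.mem_inf.mpr ⟨hz, mem_cen.mpr (hc y hyQ).symm⟩
    obtain ⟨i, hi⟩ := hdec z hzR
    set r := (x ^ i)⁻¹ * z with hr
    have hrQ : r ∈ Q := Subgroup.mul_mem _ (Subgroup.inv_mem _ (Subgroup.pow_mem _ hxQ i)) hz
    have hrc : ∀ q ∈ Q, Commute q r := fun q hq =>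
      (((show Commute q x from hDx q (hQD hq)).pow_right i).inv_right).mul_right (hc q hq)
    have hcx : Commute ((x ^ i)⁻¹) z := ((show Commute z x from hDx z (hQD hz)).pow_right i).inv_right.symm
    have hrp : r ^ p = 1 := by
      rw [hr, hcx.mul_pow, inv_pow, ← pow_mul, mul_comm, pow_mul,
        show x ^ p = 1 from by rw [← hmax.hx, pow_orderOf_eq_one],
        show z ^ p = 1 from by rw [← ho, pow_orderOf_eq_one], one_pow, inv_one, one_mul]
    rcases eq_or_ne r 1 with hr1 | hr1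
    · rw [hr, inv_mul_eq_one] at hr1
      exact hr1 ▸ Subgroup.pow_mem _ (Subgroup.mem_zpowers x) i
    · exfalso
      have hro := orderOf_eq_prime hrp hr1
      exact hnofix r hi hro (hbigger r hrQ hro hRlt (fun q hq =>
        Subgroup.mem_inf.mpr ⟨hq, mem_cen.mpr (hrc q hq).eq⟩))
  have hnormal_mem : ∀ V : Subgroup X, V ≤ Q → Q ≤ Subgroup.normalizer (V : Set X) → V ≠ ⊥ → x ∈ V := by
    intro V hVQ hQV hne
    obtain ⟨z, hz, ho, hc⟩ := exists_central_in_normal hQp hVQ hQV hne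
    have hzx := hcentral z (hVQ hz) ho hc
    have heq : Subgroup.zpowers z = Subgroup.zpowers x :=
      Subgroup.eq_of_le_of_card_ge (Subgroup.zpowers_le.mpr hzx) (by rw [Nat.card_zpowers, Nat.card_zpowers, ho, hmax.hx])
    exact (Subgroup.zpowers_le.mpr hz) (heq ▸ Subgroup.mem_zpowers x)
  -- `x ∉ K`
  have hxK : x ∉ K := by
    intro hxK
    have hxL : x ∈ fixPC p K y :=
      Subgroup.subset_closure ⟨Subgroup.mem_inf.mpr ⟨hxK, d.x_mem⟩, 1, hpow hmax.hx⟩
    have haL : d.a ∈ imY p y (fixPC p K y) := ⟨⟨x, d.x_mem⟩, hxL, rfl⟩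
    rw [hL] at haL
    obtain ⟨j, hj⟩ := haL
    refine h.ne (cj_of_mem_normalizer (mem_normalizer_of_maps fun b hb => ?_))
    rw [← hj, h.delta_acts j hb]
    exact Subgroup.mul_mem J (Subgroup.mul_mem J j.2 hb) (Subgroup.inv_mem J j.2)
  have hKD : ∀ k ∈ K, k ∈ D → ∀ n : ℕ, k ^ p ^ n = 1 → k = 1 := by
    intro k hk hkD n hn
    by_contra hk1
    obtain ⟨e, he, hek⟩ := exists_conj_into hQD hQp hQc hkD hn
    refine hxK (Subgroup.mem_inf.mp (hnormal_mem (Q ⊓ K) inf_le_left ?_ ?_)).2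
    · exact fun q hq => mem_normalizer_of_maps fun v hv => Subgroup.mem_inf.mpr
        ⟨Subgroup.mul_mem _ (Subgroup.mul_mem _ hq (Subgroup.mem_inf.mp hv).1) (Subgroup.inv_mem _ hq),
          (Subgroup.mem_normalizer_iff.mp (normalizes_of_mem hmax.hK (hQD hq)) v).mp (Subgroup.mem_inf.mp hv).2⟩
    · intro hbot
      have h1 : e * k * e⁻¹ ∈ Q ⊓ K := Subgroup.mem_inf.mpr
        ⟨hek, (Subgroup.mem_normalizer_iff.mp (normalizes_of_mem hmax.hK he) k).mp hk⟩
      rw [hbot, Subgroup.mem_bot] at h1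
      exact hk1 (conj_eq_one_iff.mp h1)
  -- `K / O_{p'}(K)` has trivial centre
  set Kb := imY p x K with hKb
  have hKbc : IsComponent Kb := hmax.hK.image_component
  have hOx : pPrimeCore p (↥(cen x) ⧸ pPrimeCore p ↥(cen x)) = ⊥ := pPrimeCore_quotient_eq_bot p
  have hKbZ : Subgroup.center ↥Kb = ⊥ := by
    rw [eq_bot_iff]
    intro z hz
    rw [Subgroup.mem_bot]
    by_contra hz1
    have hzP : (z : ↥(cen x) ⧸ pPrimeCore p ↥(cen x)) ∈ pCore p (↥(cen x) ⧸ pPrimeCore p ↥(cen x)) := by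
      rw [← fitting_eq_pCore Fact.out hOx]
      have h1 : (z : ↥(cen x) ⧸ pPrimeCore p ↥(cen x)) ∈
          (Subgroup.center ↥(layer (↥(cen x) ⧸ pPrimeCore p ↥(cen x)))).map (layer _).subtype := by
        rw [center_layer]
        exact Subgroup.mem_iSup_of_mem (⟨Kb, hKbc⟩ : {K : Subgroup _ // IsComponent K}) ⟨z, hz, rfl⟩
      rw [center_layer_eq_inf] at h1
      exact h1.1
    obtain ⟨n, hn⟩ := isPGroup_pCore (G := ↥(cen x) ⧸ pPrimeCore p ↥(cen x)) p ⟨_, hzP⟩
    obtain ⟨k, hk, ⟨j, hj⟩, hkz⟩ := exists_lift (bar p ↥(cen x)) (K.subgroupOf (cen x)) (y := (z : _)) z.2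
      (congrArg Subtype.val hn)
    have hkD : (k : X) ∈ D := by
      refine mem_centralizerOf_iff.mpr ⟨k.2, fun w hw => ?_⟩
      rw [show bar p ↥(cen x) ⟨(k : X), k.2⟩ = z from hkz]
      exact congrArg Subtype.val (Subgroup.mem_center_iff.mp hz ⟨w, hw⟩)
    have := hKD k hk hkD j (congrArg Subtype.val hj)
    refine hz1 (Subtype.ext ?_)
    rw [← hkz, show k = 1 from Subtype.ext this, map_one]
    rfl
  have hJZ : Subgroup.center ↥J = ⊥ := by
    obtain ⟨-, ⟨eK⟩⟩ := hmax.hK.imY_isPC (y := x) le_rfl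
    have e : ↥J ≃* ↥Kb := eJ.trans (eK.trans ((QuotientGroup.quotientMulEquivOfEq
      (component_core_bot hOx hKbc)).trans QuotientGroup.quotientBot))
    rw [eq_bot_iff]
    intro z hz
    have h1 : e z ∈ Subgroup.center ↥Kb := Subgroup.mem_center_iff.mpr fun w => by
      obtain ⟨w, rfl⟩ := e.surjective w
      rw [← map_mul, ← map_mul, Subgroup.mem_center_iff.mp hz w]
    rw [hKbZ, Subgroup.mem_bot] at h1
    exact Subgroup.mem_bot.mpr (e.injective (h1.trans (map_one e).symm))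
  -- an element moving `y` out of the kernel of the orbit
  obtain ⟨t₀, ht₀Q, ht₀R, ht₀N⟩ : ∃ t₀ ∈ Q, t₀ ∉ R ∧ t₀ ∈ Subgroup.normalizer (R : Set X) := by
    haveI : Group.IsNilpotent ↥Q := hQp.isNilpotent
    have hlt : R.subgroupOf Q < ⊤ := lt_top_iff_ne_top.mpr fun he =>
      hRQ (le_antisymm inf_le_left (Subgroup.subgroupOf_eq_top.mp he))
    obtain ⟨w, hwN, hwR⟩ := SetLike.exists_of_lt (Group.normalizerCondition_of_isNilpotent (G := ↥Q) _ hlt)
    refine ⟨w, w.2, hwR, mem_normalizer_of_maps fun v hv => ?_⟩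
    exact (Subgroup.mem_normalizer_iff.mp hwN ⟨v, (Subgroup.mem_inf.mp hv).1⟩).mp hv
  set N := Q ⊓ Subgroup.normalizer (R : Set X) with hN
  have hyR : y ∈ R := Subgroup.mem_inf.mpr ⟨hyQ, mem_cen.mpr rfl⟩
  obtain ⟨t, htN, hty⟩ : ∃ t ∈ N, t * y * t⁻¹ ∉ R₀ := by
    by_contra hall
    push Not at hall
    set M₀ := Subgroup.closure {w : X | ∃ t ∈ N, w = t * y * t⁻¹} with hM₀
    have hM₀R : M₀ ≤ R₀ := (Subgroup.closure_le _).mpr (by
      rintro _ ⟨t, ht, rfl⟩; exact hall t ht)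
    have hyM : y ∈ M₀ := Subgroup.subset_closure ⟨1, one_mem _, by group⟩
    have hN' : N ≤ Subgroup.normalizer (M₀ : Set X) := fun u hu => mem_normalizer_of_maps fun v hv => by
      have hle : M₀ ≤ M₀.comap (MulAut.conj u).toMonoidHom := (Subgroup.closure_le _).mpr (by
        rintro _ ⟨t, ht, rfl⟩
        exact Subgroup.subset_closure ⟨u * t, Subgroup.mul_mem _ hu ht, by simp [mul_assoc]⟩)
      exact hle hv
    obtain ⟨z, hz, ho, hc⟩ := exists_central_in_normal (hQp.to_le inf_le_left)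
      (hM₀R.trans (inf_le_left.trans (le_inf inf_le_left Subgroup.le_normalizer))) hN'
      (fun hb => by
        rw [hb, Subgroup.mem_bot] at hyM
        have := d.hyo
        rw [hyM, orderOf_one] at this
        exact (Fact.out : p.Prime).one_lt.ne this)
    have hzR₀ := hM₀R hz
    refine hnofix z hzR₀ ho (hbigger z (Subgroup.mem_inf.mp (Subgroup.mem_inf.mp hzR₀).1).1 ho
      (lt_of_le_of_ne (le_inf inf_le_left Subgroup.le_normalizer) fun e => ht₀R ?_)
      (fun q hq => Subgroup.mem_inf.mpr ⟨(Subgroup.mem_inf.mp hq).1, mem_cen.mpr (hc q hq)⟩))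
    exact e ▸ Subgroup.mem_inf.mpr ⟨ht₀Q, ht₀N⟩
  obtain ⟨htQ, htR⟩ := Subgroup.mem_inf.mp htN
  set y' := t * y * t⁻¹ with hy'
  have hy'R : y' ∈ R := (Subgroup.mem_normalizer_iff.mp htR y).mp hyR
  obtain ⟨i, hr₀⟩ := hdec y' hy'R
  have hxi : x ^ i ≠ 1 := fun e => hty (by rw [e, inv_one, one_mul] at hr₀; exact hr₀)
  -- a lift of `δ(j)` fixed by `Q`
  obtain ⟨j, hjp⟩ : ∃ j : ↥J, orderOf j = p := by
    obtain ⟨s, hs, ⟨n, hn⟩, hsc⟩ := exists_noncentral_pElement (p := p) hJO h.comp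
    have hs1 : (⟨s, hs⟩ : ↥J) ≠ 1 := fun e => hsc (by
      rw [show s = 1 from congrArg Subtype.val e]; exact one_mem _)
    obtain ⟨w, -, hw⟩ := exists_orderOf_eq_prime_zpowers (p := p) hs1 (n := n)
      (Subtype.ext (by push_cast; exact hn))
    exact ⟨w, hw⟩
  have hjp' : j ^ p = 1 := orderOf_dvd_iff_pow_eq_one.mp (dvd_of_eq hjp)
  have hj1 : j ≠ 1 := fun e => by
    rw [e, orderOf_one] at hjp
    exact (Fact.out : p.Prime).one_lt.ne hjp
  set c := h.delta j with hc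
  have hcp : c ^ p ^ 1 = 1 := by rw [pow_one, hc, ← map_pow, hjp', map_one]
  have hcL : c ∈ ((fixPC p K y).subgroupOf (cen y)).map (bar p ↥(cen y)) := by
    show c ∈ imY p y (fixPC p K y)
    rw [hL]; exact ⟨j, rfl⟩
  obtain ⟨l, hl, ⟨nl, hnl⟩, hlc⟩ := exists_lift (bar p ↥(cen y)) _ hcL hcp
  have hlK : (l : X) ∈ K := (Subgroup.mem_inf.mp (pEl_le _ hl)).1
  obtain ⟨u, huK, huQ, ⟨nu, hnu⟩, hul⟩ : ∃ u ∈ K, (∀ q ∈ Q, q * u = u * q) ∧ (∃ n, u ^ p ^ n = 1) ∧
      (l : X)⁻¹ * u ∈ Om p K := by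
    set C := (K ⊓ Subgroup.centralizer (Q : Set X)).subgroupOf K with hC
    obtain ⟨w, hw, hwc⟩ := exists_fixed_lift_group (Om_le K) (le_normalizer_Om K) (card_Om_coprime K) hQp
      (fun q hq k hk => ((mem_centralizerOf hmax.hK).mp (hQD hq)).2 k hk) hlK
    obtain ⟨w', hw', rfl⟩ := hw
    have hmem : bar p ↥K ⟨l, hlK⟩ ∈ C.map (bar p ↥K) :=
      ⟨⟨l, hlK⟩ * w', Subgroup.mem_inf.mpr ⟨Subgroup.mul_mem _ hlK w'.2, fun q hq => hwc q hq⟩,
        by rw [map_mul, show bar p ↥K w' = 1 from (QuotientGroup.eq_one_iff w').mpr hw', mul_one]⟩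
    obtain ⟨u, hu, ⟨nu, hnu⟩, hul⟩ := exists_lift (bar p ↥K) C hmem (k := nl) (by
      rw [← map_pow, show (⟨(l : X), hlK⟩ : ↥K) ^ p ^ nl = 1 from Subtype.ext (by
        push_cast; exact congrArg Subtype.val hnl), map_one])
    refine ⟨u, u.2, fun q hq => (Subgroup.mem_inf.mp hu).2 q hq, ⟨nu, congrArg Subtype.val hnu⟩, ?_⟩
    exact ⟨_, QuotientGroup.eq.mp hul.symm, rfl⟩
  have huy : u ∈ cen y := mem_cen.mpr (huQ y hyQ).symm
  have huL : u ∈ fixPC p K y := Subgroup.subset_closure ⟨Subgroup.mem_inf.mpr ⟨huK, huy⟩, nu, hnu⟩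
  have huc : bar p ↥(cen y) ⟨u, huy⟩ = c := by
    have h1 : (l : X)⁻¹ * u ∈ Om p (fixPC p K y) := by
      refine le_Om (W := fixPC p K y ⊓ Om p K) inf_le_left (fun g hg => mem_normalizer_of_maps fun w hw => ?_) ?_
        (Subgroup.mem_inf.mpr ⟨Subgroup.mul_mem _ (Subgroup.inv_mem _ hl) huL, hul⟩)
      · exact Subgroup.mem_inf.mpr ⟨Subgroup.mul_mem _ (Subgroup.mul_mem _ hg (Subgroup.mem_inf.mp hw).1)
          (Subgroup.inv_mem _ hg), (Subgroup.mem_normalizer_iff.mp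
          (le_normalizer_Om K (Subgroup.mem_inf.mp (pEl_le _ hg)).1) w).mp (Subgroup.mem_inf.mp hw).2⟩
      · exact Nat.Coprime.coprime_dvd_left (Subgroup.card_dvd_of_le inf_le_right) (card_Om_coprime K)
    have h2 := d.bar_Om hLO h1
    have h3 : bar p ↥(cen y) (l⁻¹ * ⟨u, huy⟩) = 1 := h2
    rw [map_mul, map_inv, inv_mul_eq_one, hlc] at h3
    exact h3.symm
  -- the conjugating element
  obtain ⟨V, hVA, hV, hcV⟩ := h.exists_conjugator j (congrArg Subtype.val hjp')
  obtain ⟨v₀, hv₀⟩ := bar_surjective p V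
  set xe : ↥(cen y) := ⟨x, d.x_mem⟩ with hxe
  set ue : ↥(cen y) := ⟨u, huy⟩ with hue
  have hux : Commute ue xe := Subtype.ext (huQ x hxQ).symm
  have hx1e : (v₀ * xe * v₀⁻¹) ^ p ^ 1 = 1 := by
    rw [conj_pow, show xe ^ p ^ 1 = 1 from Subtype.ext (by push_cast; exact hpow hmax.hx), mul_one, mul_inv_cancel]
  have hx2e : (ue * xe) ^ p ^ (nu + 1) = 1 := by
    rw [hux.mul_pow, show xe ^ p ^ (nu + 1) = 1 from Subtype.ext (by
      push_cast; rw [pow_succ' p nu, pow_mul, show x ^ p = 1 from by rw [← hmax.hx, pow_orderOf_eq_one], one_pow]),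
      show ue ^ p ^ (nu + 1) = 1 from Subtype.ext (by
        push_cast; rw [pow_succ p nu, pow_mul, hnu, one_pow]), one_mul]
  obtain ⟨o, ho, hoc⟩ := exists_conj_of_bar_eq hx1e hx2e (by
    rw [map_mul, map_mul, map_inv, map_mul, hv₀, huc]
    exact hV)
  set v := o * v₀ with hvdef
  have hvV : bar p ↥(cen y) v = V := by
    rw [hvdef, map_mul, show bar p ↥(cen y) o = 1 from (QuotientGroup.eq_one_iff o).mpr ho, one_mul, hv₀]
  have hvx : (v : X) * x * (v : X)⁻¹ = u * x := by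
    have : v * xe * v⁻¹ = ue * xe := by rw [← hoc, hvdef]; group
    exact congrArg Subtype.val this
  clear_value v
  set t' := (v : X)⁻¹ * t * v with ht'
  have ht'x : t' ∈ cen x := by
    refine mem_cen.mpr ?_
    have htux : Commute t (u * x) := (show Commute t u from huQ t htQ).mul_right (hDx t (hQD htQ))
    rw [← hvx] at htux
    calc t' * x = (v : X)⁻¹ * (t * ((v : X) * x * (v : X)⁻¹)) * v := by rw [ht']; group
      _ = (v : X)⁻¹ * ((v : X) * x * (v : X)⁻¹ * t) * v := by rw [htux.eq]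
      _ = x * t' := by rw [ht']; group
  set K₂ := cj t' K with hK₂
  have hK₂pc : IsPC p K₂ (cen x) := by
    have := hmax.hK.conj t'
    rwa [cj_of_mem_normalizer (show t' ∈ Subgroup.normalizer (cen x : Set X) from
      Subgroup.le_normalizer ht'x)] at this
  have hK₂ne : K₂ ≠ K := by
    intro heq
    have htN' := mem_normalizer_of_cj heq
    set e := t' * y * t'⁻¹ with he
    have hvy : (v : X) * y = y * v := mem_cen.mp v.2
    have he' : e = (v : X)⁻¹ * y' * v := by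
      rw [he, ht', hy']
      calc (v : X)⁻¹ * t * v * y * ((v : X)⁻¹ * t * v)⁻¹ = (v : X)⁻¹ * t * ((v : X) * y) * (v : X)⁻¹ * t⁻¹ * v := by group
        _ = (v : X)⁻¹ * t * (y * v) * (v : X)⁻¹ * t⁻¹ * v := by rw [hvy]
        _ = (v : X)⁻¹ * (t * y * t⁻¹) * v := by group
    have hey : e ∈ cen y := by
      rw [he']
      exact Subgroup.mul_mem _ (Subgroup.mul_mem _ (Subgroup.inv_mem _ v.2) (hRy hy'R)) v.2
    have heD : e ∈ D := by
      refine (mem_centralizerOf hmax.hK).mpr ⟨Subgroup.mul_mem _ (Subgroup.mul_mem _ ht'x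
        (centralizerOf_le x K d.hy)) (Subgroup.inv_mem _ ht'x), fun k hk => ?_⟩
      have hk' : t'⁻¹ * k * t' ∈ K := by
        simpa using (Subgroup.mem_normalizer_iff.mp (Subgroup.inv_mem _ htN') k).mp hk
      have h1 := (Subgroup.mem_normalizer_iff.mp (normalizer_le_normalizer_Om K htN') _).mp
        (((mem_centralizerOf hmax.hK).mp d.hy).2 _ hk')
      simpa [he, mul_assoc] using h1
    have hcen := d.bar_centralizes hLO heD hey
    -- the image of `e`
    set r := bar p ↥(cen y) ⟨(x ^ i)⁻¹ * y', hRy (Subgroup.mul_mem _ (Subgroup.inv_mem _ (hxiR i)) hy'R)⟩ with hr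
    have hrA : r ∈ Subgroup.centralizer (A : Set _) :=
      (hR₀mem (Subgroup.mul_mem _ (Subgroup.inv_mem _ (hxiR i)) hy'R)).mp hr₀
    have hebar : bar p ↥(cen y) ⟨e, hey⟩ = V⁻¹ * d.a ^ i * V * r := by
      have h1 : (⟨e, hey⟩ : ↥(cen y)) = v⁻¹ * (⟨x ^ i, hRy (hxiR i)⟩ *
          ⟨(x ^ i)⁻¹ * y', hRy (Subgroup.mul_mem _ (Subgroup.inv_mem _ (hxiR i)) hy'R)⟩) * v :=
        Subtype.ext (by push_cast; rw [mul_inv_cancel_left, he'])
      rw [h1, map_mul, map_mul, map_inv, map_mul, hbarpow, hvV]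
      calc V⁻¹ * (d.a ^ i * r) * V = V⁻¹ * d.a ^ i * (r * V) := by group
        _ = V⁻¹ * d.a ^ i * (V * r) := by rw [hrA V hVA]
        _ = V⁻¹ * d.a ^ i * V * r := by group
    have hai : d.a ^ i ≠ 1 := by
      intro e1
      have h4 := orderOf_dvd_of_pow_eq_one e1
      rw [h.orderOf_eq, ← hmax.hx] at h4
      exact hxi (orderOf_dvd_iff_pow_eq_one.mp h4)
    have hLA : ∀ b : ↥J, h.delta b ∈ A := fun b => h.delta_mem b
    have hconj : ∀ b : ↥J, Commute (V⁻¹ * d.a ^ i * V) (h.delta b) := fun b => by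
      have h1 : Commute (bar p ↥(cen y) ⟨e, hey⟩) (h.delta b) :=
        (hcen (h.delta b) (by rw [hL]; exact ⟨b, rfl⟩)).symm
      rw [hebar] at h1
      have h2 : Commute r⁻¹ (h.delta b) := (show Commute r (h.delta b) from (hrA _ (hLA b)).symm).inv_left
      have h3 := h1.mul_left h2
      rwa [mul_inv_cancel_right] at h3
    -- hence `a` itself centralises `V δ(J) V⁻¹`
    have hconj1 : ∀ b : ↥J, Commute (V⁻¹ * d.a * V) (h.delta b) := fun b => by
      have hz : Subgroup.zpowers (d.a ^ i) = Subgroup.zpowers d.a := by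
        refine Subgroup.eq_of_le_of_card_ge (Subgroup.zpowers_le.mpr (Subgroup.pow_mem _ (Subgroup.mem_zpowers _) i)) ?_
        rw [Nat.card_zpowers, Nat.card_zpowers, h.orderOf_eq]
        have h5 : orderOf (d.a ^ i) = p := orderOf_eq_prime (by
          rw [← pow_mul, mul_comm, pow_mul, h.pow, one_pow]) hai
        rw [h5]
      obtain ⟨k, hk⟩ := Subgroup.mem_zpowers_iff.mp (hz.symm ▸ Subgroup.mem_zpowers d.a : d.a ∈ Subgroup.zpowers (d.a ^ i))
      have h6 := (hconj b).zpow_left k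
      have e6 : (V⁻¹ * d.a ^ i * V) ^ k = V⁻¹ * d.a * V := by
        have := conj_zpow (i := k) (a := V⁻¹) (b := d.a ^ i)
        rw [inv_inv] at this
        rw [this, hk]
      rwa [e6] at h6
    refine hj1 ?_
    have hjc : j ∈ Subgroup.center ↥J := Subgroup.mem_center_iff.mpr fun b => hinj (by
      rw [map_mul, map_mul]
      have e7 : V⁻¹ * d.a * V = c⁻¹ * d.a := by
        calc V⁻¹ * d.a * V = V⁻¹ * (c⁻¹ * (c * d.a)) * V := by group
          _ = V⁻¹ * (c⁻¹ * (V * d.a * V⁻¹)) * V := by rw [hV]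
          _ = V⁻¹ * (c⁻¹ * V) * d.a := by group
          _ = V⁻¹ * (V * c⁻¹) * d.a := by rw [(hcV.inv_left).eq]
          _ = c⁻¹ * d.a := by group
      have h7 := hconj1 b
      rw [e7] at h7
      have h8 : Commute d.a (h.delta b) := mul_inv_eq_iff_eq_mul.mp (h.delta_fixed b)
      have h9 := h7.mul_left h8.inv_left
      rw [mul_inv_cancel_right] at h9
      have h10 := h9.inv_left
      rw [inv_inv] at h10
      exact h10.eq.symm)
    rw [hJZ, Subgroup.mem_bot] at hjc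
    exact hjc
  -- `K₂` centralises `K` modulo the core and yields the contradiction
  have hK₂D : K₂ ≤ D := by
    intro k₂ hk₂
    have hn : k₂ ∈ Subgroup.normalizer (K : Set X) := by
      have h1 := pcomp_normalizes hmax.hK.toPComp hK₂pc.toPComp
        (show (⟨k₂, hK₂pc.le hk₂⟩ : ↥(cen x)) ∈ K₂.subgroupOf (cen x) from hk₂)
      refine mem_normalizer_of_maps fun k hk => ?_
      exact (Subgroup.mem_normalizer_iff.mp h1 ⟨k, hmax.hK.le hk⟩).mp hk
    refine (mem_centralizerOf hmax.hK).mpr ⟨hK₂pc.le hk₂, fun k hk => ?_⟩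
    rw [hmax.hK.Om_eq]
    refine Subgroup.mem_inf.mpr ⟨Subgroup.mul_mem _ ((Subgroup.mem_normalizer_iff.mp hn k).mp hk)
      (Subgroup.inv_mem _ hk), ?_⟩
    exact IsPC.commutator_le hK₂pc hmax.hK hK₂ne (Subgroup.commutator_mem_commutator hk₂ hk)
  obtain ⟨k₂, hk₂, ⟨n₂, hn₂⟩, hk₂1⟩ : ∃ k₂ ∈ K₂, (∃ n : ℕ, k₂ ^ p ^ n = 1) ∧ k₂ ≠ 1 := by
    by_contra hall
    push Not at hall
    refine hK₂pc.not_le_coprime (A := ⊥) (by rw [Subgroup.card_bot]; exact Nat.coprime_one_left p) ?_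
    calc K₂ = pEl p K₂ := hK₂pc.pel.symm
      _ ≤ ⊥ := by
        rw [pEl, Subgroup.closure_le]
        rintro w ⟨hw, n, hn⟩
        exact hall w hw ⟨n, hn⟩
  set s : Set (Subgroup (↥(cen x) ⧸ pPrimeCore p ↥(cen x))) := Set.range fun g => cj g Kb with hs
  set Nb := sSup s with hNb
  set Npre := (Nb.comap (bar p ↥(cen x))).map (cen x).subtype with hNpre
  have hNconj : ∀ e ∈ cen x, e ∈ Subgroup.normalizer (Npre : Set X) := by
    intro e he
    refine mem_normalizer_of_maps ?_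
    rintro _ ⟨w, hw, rfl⟩
    refine ⟨⟨e, he⟩ * w * (⟨e, he⟩ : ↥(cen x))⁻¹, ?_, rfl⟩
    have hle : Nb ≤ Nb.comap (MulAut.conj (bar p ↥(cen x) ⟨e, he⟩)).toMonoidHom := sSup_le fun A hA => by
      obtain ⟨g, rfl⟩ := hA
      rw [← Subgroup.map_le_iff_le_comap]
      exact le_sSup ⟨bar p ↥(cen x) ⟨e, he⟩ * g, cj_mul _ _ _⟩
    have := hle hw
    show bar p ↥(cen x) (⟨e, he⟩ * w * (⟨e, he⟩ : ↥(cen x))⁻¹) ∈ Nb
    rw [map_mul, map_mul, map_inv]
    exact this
  have hk₂N : k₂ ∈ Npre := by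
    refine ⟨⟨k₂, hK₂pc.le hk₂⟩, ?_, rfl⟩
    obtain ⟨k, hk, rfl⟩ := hk₂
    refine le_sSup (show cj (bar p ↥(cen x) ⟨t', ht'x⟩) Kb ∈ s from ⟨_, rfl⟩) ?_
    refine ⟨bar p ↥(cen x) ⟨k, hmax.hK.le hk⟩, ⟨⟨k, hmax.hK.le hk⟩, hk, rfl⟩, ?_⟩
    show bar p ↥(cen x) ⟨t', ht'x⟩ * _ * _ = _
    rw [← map_inv, ← map_mul, ← map_mul]
    rfl
  obtain ⟨e, he, hek⟩ := exists_conj_into hQD hQp hQc (hK₂D hk₂) hn₂
  have hxN : x ∈ Npre := (Subgroup.mem_inf.mp (hnormal_mem (Q ⊓ Npre) inf_le_left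
    (fun q hq => mem_normalizer_of_maps fun v hv => Subgroup.mem_inf.mpr
      ⟨Subgroup.mul_mem _ (Subgroup.mul_mem _ hq (Subgroup.mem_inf.mp hv).1) (Subgroup.inv_mem _ hq),
        (Subgroup.mem_normalizer_iff.mp (hNconj q (centralizerOf_le x K (hQD hq))) v).mp (Subgroup.mem_inf.mp hv).2⟩)
    (fun hbot => by
      have h1 : e * k₂ * e⁻¹ ∈ Q ⊓ Npre := Subgroup.mem_inf.mpr
        ⟨hek, (Subgroup.mem_normalizer_iff.mp (hNconj e (centralizerOf_le x K he)) k₂).mp hk₂N⟩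
      rw [hbot, Subgroup.mem_bot] at h1
      exact hk₂1 (conj_eq_one_iff.mp h1)))).2
  obtain ⟨w, hw, hwx⟩ := hxN
  have hone : bar p ↥(cen x) w = 1 := by
    refine eq_one_of_central_sSup s ?_ ?_ hw fun g => ?_
    · rintro _ ⟨g, rfl⟩
      exact isComponent_map_equiv (MulAut.conj g) hKbc
    · rintro _ ⟨g, rfl⟩
      rw [eq_bot_iff]
      intro z hz
      obtain ⟨z', rfl⟩ := ((MulAut.conj g).subgroupMap Kb).surjective z
      have h1 : z' ∈ Subgroup.center ↥Kb := Subgroup.mem_center_iff.mpr fun b =>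
        ((MulAut.conj g).subgroupMap Kb).injective (by
          rw [map_mul, map_mul]; exact Subgroup.mem_center_iff.mp hz _)
      rw [hKbZ, Subgroup.mem_bot] at h1
      rw [h1, map_one]
      exact one_mem _
    · obtain ⟨g, rfl⟩ := bar_surjective p g
      rw [← map_mul, ← map_mul]
      refine congrArg _ (Subtype.ext ?_)
      have hwx' : (w : X) = x := hwx
      push_cast
      rw [hwx']
      exact (mem_cen.mp g.2).symm
  have hwx' : (w : X) = x := hwx
  have hw1 := bar_injOn_pElement (p := p) (n := 1) (e := w)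
    (Subtype.ext (by push_cast; rw [hwx']; exact hpow hmax.hx)) hone
  have hx1 : x = 1 := by rw [← hwx', hw1]; rfl
  have := hmax.hx
  rw [hx1, orderOf_one] at this
  exact (Fact.out : p.Prime).one_lt.ne this

omit hS in
/-- Maximal pairs exist. -/
theorem exists_maxPair (h : ∃ (x : X) (K : Subgroup X), orderOf x = p ∧ IsPComponentOf p K (cen x)) :
    ∃ (x : X) (K : Subgroup X), MaxPair p x K := by
  obtain ⟨x₀, K₀, hx₀, hK₀⟩ := h
  let S : Set (X × Subgroup X) := {P | orderOf P.1 = p ∧ IsPC p P.2 (cen P.1)}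
  obtain ⟨⟨x, K⟩, ⟨hx, hK⟩, hmax⟩ := (Set.toFinite S).exists_maximalFor
    (fun P => qc p P.2 * (Nat.card X + 1) + pv p (centralizerOfPComponent p P.1 P.2)) S
    ⟨(x₀, K₀), hx₀, IsPC.of_pcompOf hK₀⟩
  have hb : ∀ D : Subgroup X, pv p D ≤ Nat.card X := fun D =>
    (Nat.le_of_dvd Nat.card_pos (Nat.ordProj_dvd _ _)).trans (Subgroup.card_le_card_group D)
  have key : ∀ (y : X) (M : Subgroup X), orderOf y = p → IsPC p M (cen y) →
      qc p M * (Nat.card X + 1) + pv p (centralizerOfPComponent p y M) ≤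
        qc p K * (Nat.card X + 1) + pv p (centralizerOfPComponent p x K) := by
    intro y M hy hM
    by_contra hlt
    exact hlt (hmax (j := (y, M)) ⟨hy, hM⟩ (le_of_lt (not_le.mp hlt)))
  refine ⟨x, K, hx, hK, fun y M hy hM => ?_, fun y M hy hM he => ?_⟩
  · by_contra hlt
    have h1 := key y M hy hM
    have h2 : (qc p K + 1) * (Nat.card X + 1) ≤ qc p M * (Nat.card X + 1) :=
      Nat.mul_le_mul_right _ (not_le.mp hlt)
    rw [Nat.succ_mul] at h2
    have h3 := hb (centralizerOfPComponent p x K)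
    omega
  · have h1 := key y M hy hM
    rw [he] at h1
    omega

/-- Some pair is `p`-terminal. -/
theorem exists_pTerminal (h : ∃ (x : X) (K : Subgroup X), orderOf x = p ∧ IsPComponentOf p K (cen x)) :
    ∃ (x : X) (K : Subgroup X), IsPTerminal p x K := by
  obtain ⟨x, K, hmax⟩ := exists_maxPair h
  set D := centralizerOfPComponent p x K with hD
  refine ⟨x, K, hmax.hx, hmax.hK.toPComponentOf, fun y hy hyo => ?_, fun Q y hy hyc hyo J hJ hle => ?_⟩
  · have d : PumpData p x K y := ⟨hmax.hx, hmax.hK, hy, hyo⟩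
    obtain ⟨M, hM, hLM, hiso, -, -⟩ := d.triv_data (triv_of_maxPair hS hmax d)
    exact ⟨M, hM.toPComponentOf, d.fix.2.2.2 ▸ hLM, hiso⟩
  · have d : PumpData p x K y := ⟨hmax.hx, hmax.hK, Subgroup.map_subtype_le _ hy, hyo⟩
    obtain ⟨M, hM, hLM, ⟨eM⟩, hDM, huniq⟩ := d.triv_data (triv_of_maxPair hS hmax d)
    have hJM : J = M := huniq J (IsPC.of_pcompOf hJ) (d.fix.2.2.2.symm ▸ hle)
    subst hJM
    set Qi := (Q : Subgroup ↥D).map D.subtype with hQi
    have hQle : Qi ≤ centralizerOfPComponent p y J := fun q hq =>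
      hDM (Subgroup.mem_inf.mpr ⟨Subgroup.map_subtype_le _ hq, mem_cen.mpr (hyc q hq)⟩)
    refine ⟨hQle, ?_⟩
    intro hdvd
    have hQc : Nat.card Qi = pv p D := by
      rw [hQi, Subgroup.card_map_of_injective D.subtype_injective, Q.card_eq_multiplicity]
    have hv := hmax.hv y J hyo hM (Nat.card_congr eM.toEquiv)
    rw [← hD] at hv
    have h1 : Qi.relIndex (centralizerOfPComponent p y J) * Nat.card Qi =
        Nat.card (centralizerOfPComponent p y J) := by
      rw [Subgroup.relIndex, ← Nat.card_congr (Subgroup.subgroupOfEquivOfLe hQle).toEquiv, Subgroup.index_mul_card]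
    have h2 : p ^ ((Nat.card D).factorization p + 1) ∣ Nat.card (centralizerOfPComponent p y J) := by
      rw [← h1, hQc, pow_succ']
      exact Nat.mul_dvd_mul hdvd dvd_rfl
    have h3 := ((Fact.out : p.Prime).pow_dvd_iff_le_factorization Nat.card_pos.ne').mp h2
    have h4 := (Nat.pow_le_pow_iff_right (Fact.out : p.Prime).one_lt).mp hv
    omega

end CfsgLib.Comp
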