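import Cfsg.Agent.Lib.Comp.LayerMore

/-!
`p`-components and the `p`-layer: a `p`-component is generated by its elements of `p`-power order.
-/

set_option autoImplicit false
set_option linter.unusedSectionVars false

namespace CfsgLib.Comp

open Cfsg Subgroup
open scoped commutatorElement

universe u v
variable {G : Type u} [Group G] {p : ℕ}

instance pPrimeCore_normal' : (pPrimeCore p G).Normal :=
  Subgroup.sSup_normal _ (fun _ h => h.1)

/-- The subgroup generated by the elements of `p`-power order of `H`. -/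
def pEl (p : ℕ) (H : Subgroup G) : Subgroup G :=
  Subgroup.closure {x | x ∈ H ∧ ∃ k : ℕ, x ^ p ^ k = 1}

theorem pEl_le (H : Subgroup G) : pEl p H ≤ H := (Subgroup.closure_le H).mpr fun _ h => h.1

theorem pEl_mono {H K : Subgroup G} (h : H ≤ K) : pEl p H ≤ pEl p K :=
  Subgroup.closure_mono fun _ hx => ⟨h hx.1, hx.2⟩

theorem pEl_map_le {H : Type v} [Group H] (f : G →* H) (A : Subgroup G) : (pEl p A).map f ≤ pEl p (A.map f) := by
  rw [Subgroup.map_le_iff_le_comap, pEl, Subgroup.closure_le]
  rintro x ⟨hx, k, hk⟩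
  exact Subgroup.subset_closure ⟨⟨x, hx, rfl⟩, k, by rw [← map_pow, hk, map_one]⟩

theorem mem_normalizer_of_maps {A : Subgroup G} [Finite G] {g : G} (h : ∀ x ∈ A, g * x * g⁻¹ ∈ A) :
    g ∈ Subgroup.normalizer (A : Set G) := by
  have heq : A.map (MulAut.conj g).toMonoidHom = A := by
    refine Subgroup.eq_of_le_of_card_ge ?_ ?_
    · rintro _ ⟨x, hx, rfl⟩; exact h x hx
    · rw [Subgroup.card_map_of_injective (MulAut.conj g).injective]
  rw [Subgroup.mem_normalizer_iff]
  intro x
  refine ⟨h x, fun hx => ?_⟩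
  rw [← heq] at hx
  obtain ⟨y, hy, e⟩ := hx
  have : y = x := (MulAut.conj g).injective e
  exact this ▸ hy

theorem normalizer_le_normalizer_pEl [Finite G] (H : Subgroup G) :
    Subgroup.normalizer (H : Set G) ≤ Subgroup.normalizer (pEl p H : Set G) := by
  intro g hg
  refine mem_normalizer_of_maps fun x hx => ?_
  have hle : pEl p H ≤ (pEl p H).comap (MulAut.conj g).toMonoidHom := by
    conv_lhs => rw [pEl]
    rw [Subgroup.closure_le]
    rintro y ⟨hy, k, hk⟩
    exact Subgroup.subset_closure ⟨(Subgroup.mem_normalizer_iff.mp hg y).mp hy, k, by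
      rw [← map_pow, hk, map_one]⟩
  exact hle hx

theorem pow_eq_one_mem_of_subnormal [Finite G] [Fact p.Prime] {K : Subgroup G} (hK : K.IsSubnormal)
    (hidx : (K.index).Coprime p) {x : G} {k : ℕ} (hx : x ^ p ^ k = 1) : x ∈ K := by
  induction hn : Nat.card G using Nat.strong_induction_on generalizing G with
  | h n ih =>
    subst hn
    rcases hK.lt_normal with rfl | ⟨M, hM, hKM, hMlt⟩
    · trivial
    have hMidx : M.index.Coprime p := Nat.Coprime.coprime_dvd_left (Subgroup.index_dvd_of_le hKM) hidx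
    have hxM : x ∈ M := by
      rw [← QuotientGroup.eq_one_iff]
      refine orderOf_eq_one_iff.mp (Nat.eq_one_of_dvd_coprimes (hMidx.pow_right k) ?_ ?_)
      · rw [Subgroup.index_eq_card]; exact orderOf_dvd_natCard _
      · exact orderOf_dvd_of_pow_eq_one (by rw [← QuotientGroup.mk_pow, hx, QuotientGroup.mk_one])
    exact ih _ (card_lt_of_lt_top hMlt) (x := ⟨x, hxM⟩) (hK.subgroupOf (K := M))
      (Nat.Coprime.coprime_dvd_left (Subgroup.relIndex_dvd_index_of_le hKM) hidx) (Subtype.ext hx) rfl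

theorem exists_lift [Finite G] [Fact p.Prime] {H : Type v} [Group H] (f : G →* H) (A : Subgroup G) {y : H}
    (hy : y ∈ A.map f) {k : ℕ} (hk : y ^ p ^ k = 1) : ∃ x ∈ A, (∃ j : ℕ, x ^ p ^ j = 1) ∧ f x = y := by
  obtain ⟨a, ha, rfl⟩ := hy
  set o := orderOf a with ho
  have hpos : 0 < o := orderOf_pos a
  set e := o.factorization p with he
  have hcop : (o / p ^ e).Coprime (p ^ k) :=
    (Nat.coprime_ordCompl (Fact.out : p.Prime) hpos.ne').symm.pow_right k
  obtain ⟨c, hc0, hc1⟩ := Nat.chineseRemainder hcop 0 1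
  refine ⟨a ^ c, pow_mem ha _, ⟨e, ?_⟩, ?_⟩
  · rw [← pow_mul]
    refine orderOf_dvd_iff_pow_eq_one.mp ?_
    rw [← ho, ← Nat.div_mul_cancel (Nat.ordProj_dvd o p)]
    exact Nat.mul_dvd_mul (Nat.modEq_zero_iff_dvd.mp hc0) dvd_rfl
  · rw [map_pow]
    conv_rhs => rw [← pow_one (f a)]
    exact pow_eq_pow_iff_modEq.mpr (hc1.of_dvd (orderOf_dvd_of_pow_eq_one hk))

theorem le_map_pEl [Finite G] [Fact p.Prime] {H : Type v} [Group H] (f : G →* H) (A : Subgroup G) :
    pEl p (A.map f) ≤ (pEl p A).map f := by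
  conv_lhs => rw [pEl]
  rw [Subgroup.closure_le]
  rintro y ⟨hy, k, hk⟩
  obtain ⟨x, hx, hj, rfl⟩ := exists_lift f A hy hk
  exact ⟨x, Subgroup.subset_closure ⟨hx, hj⟩, rfl⟩

theorem subnormal_coprime_le [Finite G] {S : Subgroup G} (hS : S.IsSubnormal)
    (hs : (Nat.card S).Coprime p) : S ≤ pPrimeCore p G := by
  induction hn : Nat.card G using Nat.strong_induction_on generalizing G with
  | h n ih =>
    subst hn
    rcases hS.lt_normal with rfl | ⟨M, hM, hSM, hMlt⟩
    · exact le_pPrimeCore hs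
    have := ih _ (card_lt_of_lt_top hMlt) (hS.subgroupOf (K := M))
      (by rwa [Nat.card_congr (Subgroup.subgroupOfEquivOfLe hSM).toEquiv]) rfl
    refine le_trans ?_ (map_pPrimeCore_le p M)
    rw [← Subgroup.map_subgroupOf_eq_of_le hSM]
    exact Subgroup.map_mono this

variable (p)

/-- The canonical map to `G ⧸ O_{p'}(G)`. -/
abbrev bar (G : Type u) [Group G] : G →* G ⧸ pPrimeCore p G := QuotientGroup.mk' (pPrimeCore p G)

theorem bar_surjective : Function.Surjective (bar p G) := QuotientGroup.mk'_surjective _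

theorem component_pEl [Finite G] [Fact p.Prime] {K : Subgroup (G ⧸ pPrimeCore p G)} (hK : IsComponent K) :
    pEl p K = K := by
  refine le_antisymm (pEl_le K) ?_
  haveI : ((pEl p K).subgroupOf K).Normal :=
    (Subgroup.normal_subgroupOf_iff_le_normalizer (pEl_le K)).mpr
      (Subgroup.le_normalizer.trans (normalizer_le_normalizer_pEl K))
  rcases quasisimple_normal_le_center_or_eq_top hK.2 ((pEl p K).subgroupOf K) with h | h
  swap
  · exact Subgroup.subgroupOf_eq_top.mp h
  exfalso
  -- a central Sylow subgroup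
  obtain ⟨P⟩ : Nonempty (Sylow p K) := inferInstance
  have hPZ : (P : Subgroup K) ≤ Subgroup.center K := fun x hx => h (by
    rw [Subgroup.mem_subgroupOf]
    obtain ⟨k, hk⟩ := P.2 ⟨x, hx⟩
    exact Subgroup.subset_closure ⟨x.2, k, congrArg (fun z : (P : Subgroup K) => ((z : K) : G ⧸ pPrimeCore p G)) hk⟩)
  have hPC : Subgroup.normalizer ((P : Subgroup K) : Set K) ≤ Subgroup.centralizer ((P : Subgroup K) : Set K) :=
    fun g _ x hx => (Subgroup.mem_center_iff.mp (hPZ hx) g).symm
  have hN := MonoidHom.ker_transferSylow_isComplement' P hPC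
  set N := (MonoidHom.transferSylow P hPC).ker with hNdef
  rcases quasisimple_normal_le_center_or_eq_top hK.2 N with h1 | h1
  · refine isQuasisimple_not_isSolvable hK.2 (Group.isSolvable_of_comm fun a b => ?_)
    have htop : Subgroup.center K = ⊤ := top_le_iff.mp (hN.sup_eq_top ▸ sup_le h1 hPZ)
    exact (Subgroup.mem_center_iff.mp (htop ▸ Subgroup.mem_top a) b).symm
  · have hP1 : (P : Subgroup K) = ⊥ := by
      have := hN.disjoint
      rw [h1, top_disjoint] at this
      exact this
    have hcop : (Nat.card K).Coprime p := by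
      have h2 := P.not_dvd_index
      rw [hP1, Subgroup.index_bot] at h2
      exact ((Fact.out : p.Prime).coprime_iff_not_dvd.mpr h2).symm
    have h3 : K ≤ pPrimeCore p (G ⧸ pPrimeCore p G) := subnormal_coprime_le hK.1 hcop
    rw [pPrimeCore_quotient_eq_bot] at h3
    exact isComponent_ne_bot hK (le_bot_iff.mp h3)


/-! ### Structure of `p`-components -/

variable [Finite G] [Fact p.Prime]

theorem map_pEl_comap {Kb : Subgroup (G ⧸ pPrimeCore p G)} (hKb : IsComponent Kb) :
    (pEl p (Kb.comap (bar p G))).map (bar p G) = Kb := by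
  have hH : (Kb.comap (bar p G)).map (bar p G) = Kb :=
    Subgroup.map_comap_eq_self_of_surjective (bar_surjective p) _
  refine le_antisymm ?_ ?_
  · conv_rhs => rw [← hH]
    exact Subgroup.map_mono (pEl_le _)
  · have h := le_map_pEl (p := p) (bar p G) (Kb.comap (bar p G))
    rwa [hH, component_pEl p hKb] at h

/-- A subnormal subgroup with image `Kb` contains every element of `p`-power order of the preimage. -/
theorem pEl_comap_le {Kb : Subgroup (G ⧸ pPrimeCore p G)} {K : Subgroup G} (hK : K.IsSubnormal)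
    (hKle : K ≤ Kb.comap (bar p G)) (hKmap : K.map (bar p G) = Kb) : pEl p (Kb.comap (bar p G)) ≤ K := by
  set H := Kb.comap (bar p G) with hH
  have hcomp : (K.subgroupOf H).index.Coprime p := by
    have h1 : H = K ⊔ pPrimeCore p G := by
      rw [hH, ← hKmap, Subgroup.comap_map_eq, QuotientGroup.ker_mk']
    have h2 : Nat.card H ∣ Nat.card K * Nat.card (pPrimeCore p G) := by
      rw [h1]; exact card_sup_dvd_mul K (pPrimeCore p G)
    rw [← Subgroup.index_mul_card (K.subgroupOf H), Nat.card_congr (Subgroup.subgroupOfEquivOfLe hKle).toEquiv,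
      mul_comm (Nat.card K)] at h2
    exact Nat.Coprime.coprime_dvd_left (Nat.dvd_of_mul_dvd_mul_right Nat.card_pos h2) (card_pPrimeCore_coprime p)
  rw [pEl, Subgroup.closure_le]
  rintro x ⟨hx, k, hk⟩
  exact pow_eq_one_mem_of_subnormal (p := p) (G := H) (hK.subgroupOf (K := H)) hcomp (x := ⟨x, hx⟩)
    (Subtype.ext hk)

theorem pEl_comap_normal (Kb : Subgroup (G ⧸ pPrimeCore p G)) :
    Kb.comap (bar p G) ≤ Subgroup.normalizer (pEl p (Kb.comap (bar p G)) : Set G) :=
  Subgroup.le_normalizer.trans (normalizer_le_normalizer_pEl _)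

theorem pEl_comap_subnormal {Kb : Subgroup (G ⧸ pPrimeCore p G)} (hKb : Kb.IsSubnormal) :
    (pEl p (Kb.comap (bar p G))).IsSubnormal := by
  haveI := (Subgroup.normal_subgroupOf_iff_le_normalizer (pEl_le (p := p) (Kb.comap (bar p G)))).mpr
    (pEl_comap_normal p Kb)
  exact Subgroup.IsSubnormal.step _ _ (pEl_le _) (hKb.comap (bar p G)) this

theorem isPComponent_iff {K : Subgroup G} : IsPComponent p K ↔
    ∃ Kb : Subgroup (G ⧸ pPrimeCore p G), IsComponent Kb ∧ K = pEl p (Kb.comap (bar p G)) := by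
  constructor
  · rintro ⟨hsn, hc, hmin⟩
    refine ⟨_, hc, (hmin _ (pEl_comap_subnormal p hc.1) (pEl_comap_le p hsn (Subgroup.le_comap_map _ _) rfl) ?_).symm⟩
    exact map_pEl_comap p hc
  · rintro ⟨Kb, hKb, rfl⟩
    refine ⟨pEl_comap_subnormal p hKb.1, by rw [map_pEl_comap p hKb]; exact hKb, fun H hH hle hmap => ?_⟩
    rw [map_pEl_comap p hKb] at hmap
    exact le_antisymm hle (pEl_comap_le p hH (hle.trans (pEl_le _)) hmap)

variable {p}

theorem pcomp_eq {K : Subgroup G} (hK : IsPComponent p K) :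
    K = pEl p ((K.map (bar p G)).comap (bar p G)) := by
  obtain ⟨Kb, hKb, rfl⟩ := (isPComponent_iff p).mp hK
  rw [map_pEl_comap p hKb]

theorem pEl_idem (H : Subgroup G) : pEl p (pEl p H) = pEl p H := by
  refine le_antisymm (pEl_le _) ?_
  conv_lhs => rw [pEl]
  rw [Subgroup.closure_le]
  rintro x ⟨hx, k, hk⟩
  exact Subgroup.subset_closure ⟨Subgroup.subset_closure ⟨hx, k, hk⟩, k, hk⟩

theorem pcomp_pEl {K : Subgroup G} (hK : IsPComponent p K) : pEl p K = K := by
  obtain ⟨Kb, -, rfl⟩ := (isPComponent_iff p).mp hK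
  exact pEl_idem _

theorem pcomp_unique {K L : Subgroup G} (hK : IsPComponent p K) (hL : IsPComponent p L)
    (h : K.map (bar p G) = L.map (bar p G)) : K = L := by
  rw [pcomp_eq hK, pcomp_eq hL, h]

theorem core_le_normalizer {K : Subgroup G} (hK : IsPComponent p K) :
    pPrimeCore p G ≤ Subgroup.normalizer (K : Set G) := by
  obtain ⟨Kb, -, rfl⟩ := (isPComponent_iff p).mp hK
  refine le_trans ?_ (pEl_comap_normal p Kb)
  intro x hx
  rw [Subgroup.mem_comap, QuotientGroup.mk'_apply, (QuotientGroup.eq_one_iff x).mpr hx]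
  exact one_mem _

theorem pcomp_normalizes {K L : Subgroup G} (hK : IsPComponent p K) (hL : IsPComponent p L) :
    L ≤ Subgroup.normalizer (K : Set G) := by
  obtain ⟨Kb, hKb, rfl⟩ := (isPComponent_iff p).mp hK
  refine le_trans ?_ (normalizer_le_normalizer_pEl _)
  intro l hl
  refine mem_normalizer_of_maps fun x hx => ?_
  rw [Subgroup.mem_comap, map_mul, map_mul, map_inv]
  have hlb : bar p G l ∈ L.map (bar p G) := Subgroup.mem_map_of_mem _ hl
  rcases components_eq_or_commute hKb hL.2.1 with h | h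
  · rw [← h] at hlb
    exact mul_mem (mul_mem hlb hx) (inv_mem hlb)
  · rw [← comm_of_commutator_eq_bot h hx hlb, mul_inv_cancel_right]
    exact hx

theorem pcomp_perfect {K : Subgroup G} (hK : IsPComponent p K) : ⁅K, K⁆ = K := by
  refine hK.2.2 _ ?_ (Subgroup.commutator_le_self K) ?_
  · exact Subgroup.IsSubnormal.step _ K (Subgroup.commutator_le_self K) hK.1
      ((Subgroup.normal_subgroupOf_iff_le_normalizer (Subgroup.commutator_le_self K)).mpr
        (left_le_normalizer_commutator K K))
  · rw [Subgroup.map_commutator, isComponent_commutator_self hK.2.1]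

theorem map_pLayer : (pLayer p G).map (bar p G) = layer (G ⧸ pPrimeCore p G) := by
  refine le_antisymm ?_ ?_
  · rw [Subgroup.map_le_iff_le_comap]
    refine sSup_le fun K hK => ?_
    rw [← Subgroup.map_le_iff_le_comap]
    exact le_layer hK.2.1
  · refine sSup_le fun Kb hKb => ?_
    conv_lhs => rw [← map_pEl_comap p hKb]
    exact Subgroup.map_mono (le_sSup ((isPComponent_iff p).mpr ⟨Kb, hKb, rfl⟩))

theorem pLayer_eq_bot_iff : pLayer p G = ⊥ ↔ layer (G ⧸ pPrimeCore p G) = ⊥ := by
  constructor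
  · intro h
    rw [← map_pLayer, h, Subgroup.map_bot]
  · intro h
    rw [eq_bot_iff]
    refine sSup_le fun K hK => ?_
    exact absurd (le_bot_iff.mp (h ▸ le_layer hK.2.1)) (isComponent_ne_bot hK.2.1)

theorem pLayer_le_normalizer {K : Subgroup G} (hK : IsPComponent p K) :
    pLayer p G ≤ Subgroup.normalizer (K : Set G) :=
  sSup_le fun _ hL => pcomp_normalizes hK hL

theorem pcomp_normal_coprime {K : Subgroup G} (hK : IsPComponent p K) (N : Subgroup K) [N.Normal]
    (hidx : (N.index).Coprime p) : N = ⊤ := by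
  have hle : pEl p K ≤ N.map K.subtype := by
    rw [pEl, Subgroup.closure_le]
    rintro x ⟨hx, k, hk⟩
    exact ⟨⟨x, hx⟩, pow_eq_one_mem_of_subnormal (p := p) (Subgroup.Normal.isSubnormal inferInstance) hidx
      (Subtype.ext hk), rfl⟩
  rw [pcomp_pEl hK] at hle
  rw [eq_top_iff]
  intro x _
  obtain ⟨y, hy, e⟩ := hle x.2
  exact (Subtype.ext e : y = x) ▸ hy

theorem pcomp_not_le_core {K : Subgroup G} (hK : IsPComponent p K) : ¬ K ≤ pPrimeCore p G := fun h => by
  refine isComponent_ne_bot hK.2.1 ?_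
  rw [Subgroup.map_eq_bot_iff, QuotientGroup.ker_mk']
  exact h

theorem pcomp_dvd {K : Subgroup G} (hK : IsPComponent p K) : p ∣ Nat.card K := by
  by_contra h
  exact pcomp_not_le_core hK (subnormal_coprime_le hK.1 ((Fact.out : p.Prime).coprime_iff_not_dvd.mpr h).symm)

theorem pcomp_minimal {K : Subgroup G} (hK : IsPComponent p K) {H : Subgroup G} (hle : H ≤ K) (hsn : H.IsSubnormal)
    (hperf : ⁅H, H⁆ = H) (hp : p ∣ Nat.card H) : H = K := by
  refine hK.2.2 H hsn hle ?_
  set Kb := K.map (bar p G) with hKb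
  have hsnb : (H.map (bar p G)).IsSubnormal := hsn.map (bar_surjective p)
  rcases subnormal_quasisimple hK.2.1.2 _ (hsnb.subgroupOf (K := Kb)) with h | h
  · exact le_antisymm (Subgroup.map_mono hle) (Subgroup.subgroupOf_eq_top.mp h)
  exfalso
  have hbot : H.map (bar p G) = ⊥ := by
    rw [← hperf, Subgroup.map_commutator, Subgroup.commutator_eq_bot_iff_le_centralizer]
    intro a ha b hb
    have ha' := Subgroup.map_mono (f := bar p G) hle ha
    have hb' := Subgroup.map_mono (f := bar p G) hle hb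
    exact congrArg Subtype.val (Subgroup.mem_center_iff.mp (h (show (⟨a, ha'⟩ : Kb) ∈ _ from ha)) ⟨b, hb'⟩)
  rw [Subgroup.map_eq_bot_iff, QuotientGroup.ker_mk'] at hbot
  exact (Fact.out : p.Prime).not_dvd_one ((Nat.coprime_iff_gcd_eq_one.mp (Nat.Coprime.coprime_dvd_left
    (Subgroup.card_dvd_of_le hbot) (card_pPrimeCore_coprime p))) ▸ Nat.dvd_gcd hp dvd_rfl)

theorem oddCore_pcomp {K : Subgroup G} (hK : IsPComponent p K) :
    pPrimeCore p K = (pPrimeCore p G).subgroupOf K := by
  refine le_antisymm ?_ ?_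
  · intro x hx
    have h1 : ((pPrimeCore p K).map K.subtype).IsSubnormal :=
      (Subgroup.Normal.isSubnormal (H := pPrimeCore p K) inferInstance).trans' hK.1
    exact subnormal_coprime_le h1 (by
      rw [Subgroup.card_map_of_injective K.subtype_injective]; exact card_pPrimeCore_coprime p) ⟨x, hx, rfl⟩
  · refine le_pPrimeCore ?_
    exact Nat.Coprime.coprime_dvd_left
      (Subgroup.card_dvd_of_injective (K.subtype.subgroupComap (pPrimeCore p G))
        (fun a b e => Subtype.ext (Subtype.ext (congrArg (fun z : pPrimeCore p G => (z : G)) e))))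
      (card_pPrimeCore_coprime p)

theorem pcomp_quotient_quasisimple {K : Subgroup G} (hK : IsPComponent p K) :
    IsQuasisimple (K ⧸ pPrimeCore p K) := by
  have hker : ((bar p G).subgroupMap K).ker = pPrimeCore p K := by
    rw [oddCore_pcomp hK]
    ext x
    rw [MonoidHom.mem_ker, Subgroup.mem_subgroupOf, ← QuotientGroup.eq_one_iff]
    exact ⟨fun h => congrArg Subtype.val h, fun h => Subtype.ext h⟩
  exact isQuasisimple_of_equiv ((QuotientGroup.quotientMulEquivOfEq hker.symm).trans
    (QuotientGroup.quotientKerEquivOfSurjective _ ((bar p G).subgroupMap_surjective K))).symm hK.2.1.2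

theorem quasisimple_of_central_quotient {K : Type v} [Group K] [Finite K] (hperf : Group.IsPerfect K)
    (N : Subgroup K) [N.Normal] (hN : N ≤ Subgroup.center K) (h : IsQuasisimple (K ⧸ N)) : IsQuasisimple K := by
  refine ⟨hperf, ?_⟩
  have hc : Subgroup.center K = (Subgroup.center (K ⧸ N)).comap (QuotientGroup.mk' N) := by
    refine le_antisymm (fun x hx => ?_) ?_
    · rw [Subgroup.mem_comap, Subgroup.mem_center_iff]
      intro y
      obtain ⟨y, rfl⟩ := QuotientGroup.mk'_surjective N y
      rw [← map_mul, ← map_mul, Subgroup.mem_center_iff.mp hx y]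
    · set A := (Subgroup.center (K ⧸ N)).comap (QuotientGroup.mk' N) with hA
      have h1 : ⁅A, (⊤ : Subgroup K)⁆ ≤ N := by
        rw [Subgroup.commutator_le]
        intro a ha b _
        rw [← QuotientGroup.eq_one_iff, ← QuotientGroup.mk'_apply, map_commutatorElement,
          commutatorElement_eq_one_iff_mul_comm]
        exact (Subgroup.mem_center_iff.mp ha _).symm
      have h2 : ⁅⁅A, (⊤ : Subgroup K)⁆, (⊤ : Subgroup K)⁆ = ⊥ := by
        rw [Subgroup.commutator_eq_bot_iff_le_centralizer, Subgroup.coe_top, Subgroup.centralizer_univ]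
        exact h1.trans hN
      have h3 : ⁅⁅(⊤ : Subgroup K), A⁆, (⊤ : Subgroup K)⁆ = ⊥ := by rwa [Subgroup.commutator_comm ⊤ A]
      have h4 := Subgroup.commutator_commutator_eq_bot_of_rotate h3 h2
      rw [← _root_.commutator_def, Group.isPerfect_def.mp hperf, Subgroup.commutator_comm,
        Subgroup.commutator_eq_bot_iff_le_centralizer, Subgroup.coe_top, Subgroup.centralizer_univ] at h4
      exact h4
  have hsurj : Function.Surjective ((QuotientGroup.mk' (Subgroup.center (K ⧸ N))).comp (QuotientGroup.mk' N)) :=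
    (QuotientGroup.mk'_surjective _).comp (QuotientGroup.mk'_surjective _)
  have hker : ((QuotientGroup.mk' (Subgroup.center (K ⧸ N))).comp (QuotientGroup.mk' N)).ker = Subgroup.center K := by
    rw [hc, ← MonoidHom.comap_ker, QuotientGroup.ker_mk']
  exact ((QuotientGroup.quotientMulEquivOfEq hker.symm).trans
    (QuotientGroup.quotientKerEquivOfSurjective _ hsurj)).isSimpleGroup_congr.mpr h.2

theorem pcomp_quasisimple_iff {K : Subgroup G} (hK : IsPComponent p K) :
    IsQuasisimple K ↔ ⁅K, (pPrimeCore p K).map K.subtype⁆ = ⊥ := by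
  have e : ⁅K, (pPrimeCore p K).map K.subtype⁆ = ⊥ ↔ pPrimeCore p K ≤ Subgroup.center K := by
    rw [Subgroup.commutator_comm, Subgroup.commutator_eq_bot_iff_le_centralizer, Subgroup.map_le_iff_le_comap]
    exact ⟨fun h x hx => Subgroup.mem_center_iff.mpr fun y => Subtype.ext (h hx y y.2),
      fun h x hx y hy => congrArg Subtype.val (Subgroup.mem_center_iff.mp (h hx) ⟨y, hy⟩)⟩
  rw [e]
  constructor
  · intro hq
    refine (quasisimple_normal_le_center_or_eq_top hq _).resolve_right fun htop => pcomp_not_le_core hK ?_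
    intro x hx
    exact (show (⟨x, hx⟩ : K) ∈ (pPrimeCore p G).subgroupOf K from oddCore_pcomp hK ▸ htop ▸ Subgroup.mem_top _)
  · exact fun h => quasisimple_of_central_quotient ((Subgroup.isPerfect_iff).mpr (pcomp_perfect hK)) _ h
      (pcomp_quotient_quasisimple hK)

theorem pcomp_commutator_le {K L : Subgroup G} (hK : IsPComponent p K) (hL : IsPComponent p L) (hne : K ≠ L) :
    ⁅K, L⁆ ≤ (pPrimeCore p K).map K.subtype := by
  rw [oddCore_pcomp hK, Subgroup.subgroupOf_map_subtype]
  refine le_inf ?_ ?_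
  · rw [← QuotientGroup.ker_mk' (pPrimeCore p G), ← Subgroup.map_eq_bot_iff, Subgroup.map_commutator]
    exact (components_eq_or_commute hK.2.1 hL.2.1).resolve_left fun h => hne (pcomp_unique hK hL h)
  · rw [Subgroup.commutator_comm]
    exact commutator_le_of_le_normalizer' (pcomp_normalizes hK hL)
where
  commutator_le_of_le_normalizer' {A B : Subgroup G} (h : A ≤ Subgroup.normalizer (B : Set G)) : ⁅A, B⁆ ≤ B := by
    rw [Subgroup.commutator_le]
    intro a ha b hb
    rw [commutatorElement_def]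
    exact mul_mem ((Subgroup.mem_normalizer_iff.mp (h ha) b).mp hb) (inv_mem hb)

theorem pcomp_commute_of_quasisimple {K L : Subgroup G} (hK : IsPComponent p K) (hL : IsPComponent p L) (hne : K ≠ L)
    (hq : IsQuasisimple K) : ⁅K, L⁆ = ⊥ := by
  have h1 := pcomp_commutator_le hK hL hne
  have h2 := (pcomp_quasisimple_iff hK).mp hq
  have h3 : ⁅⁅K, L⁆, K⁆ = ⊥ := by
    rw [eq_bot_iff, ← h2, Subgroup.commutator_comm K ((pPrimeCore p K).map K.subtype)]
    exact Subgroup.commutator_mono h1 le_rfl
  have h4 : ⁅⁅L, K⁆, K⁆ = ⊥ := by rwa [Subgroup.commutator_comm L K]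
  have h5 := Subgroup.commutator_commutator_eq_bot_of_rotate (H₁ := K) (H₂ := K) (H₃ := L) h3 h4
  rwa [pcomp_perfect hK] at h5

end CfsgLib.Comp
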