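import Cfsg.Agent.Lib.Comp.Layer

/-!
`F*(G) = O_p(G)` is inherited by normalizers and centralizers of `p`-subgroups; the layer of `N_G(P)`.
-/

set_option autoImplicit false

namespace CfsgLib.Comp

open Cfsg Subgroup
open scoped commutatorElement

universe u
variable {G : Type u} [Group G]

theorem coprime_of_orderOf {p : ℕ} {x : G} (h : (orderOf x).Coprime p) :
    (Nat.card (Subgroup.zpowers x)).Coprime p := by rwa [Nat.card_zpowers]

/-- The elements of order prime to `p` of `C_G(P)` centralising `O_p(G) ∩ C(P)` centralise `O_p(G)`. -/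
theorem centralizes_pCore [Finite G] {p : ℕ} [Fact p.Prime] {P : Subgroup G} (hP : IsPGroup p P) {x : G}
    (hx : (orderOf x).Coprime p) (hxP : x ∈ Subgroup.centralizer (P : Set G))
    (hxC : ∀ y ∈ pCore p G, y ∈ Subgroup.centralizer (P : Set G) → x * y = y * x) :
    x ∈ Subgroup.centralizer (pCore p G : Set G) := by
  haveI : (pCore p G).Normal := Subgroup.sSup_normal _ (fun _ h => h.1)
  have hn : ∀ A : Subgroup G, A ≤ Subgroup.normalizer ((pCore p G : Subgroup G) : Set G) :=
    fun A => le_top.trans (Subgroup.normalizer_eq_top (pCore p G)).ge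
  refine thompson_PxQ hP (coprime_of_orderOf hx) ?_ (pCore p G) (isPGroup_pCore p) (hn _) (hn _) ?_
    (Subgroup.mem_zpowers x)
  · rw [Subgroup.le_centralizer_iff, Subgroup.zpowers_le]
    exact hxP
  · rw [Subgroup.le_centralizer_iff, Subgroup.zpowers_le]
    exact fun y hy => (hxC y hy.1 hy.2).symm

theorem exists_coprime_pow [Finite G] (p : ℕ) [Fact p.Prime] (x : G) :
    ∃ k : ℕ, (orderOf (x ^ p ^ k)).Coprime p := by
  refine ⟨(orderOf x).factorization p, ?_⟩
  have ho : 0 < orderOf x := orderOf_pos x
  rw [orderOf_pow_of_dvd (pow_ne_zero _ (Fact.out : p.Prime).ne_zero) (Nat.ordProj_dvd _ p)]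
  exact (Nat.coprime_ordCompl Fact.out ho.ne').symm

/-- If `C_G(O_p(G)) ≤ O_p(G)` the same holds in the normalizer of a `p`-subgroup. -/
theorem charP_normalizer [Finite G] (p : ℕ) [Fact p.Prime]
    (h : Subgroup.centralizer (pCore p G : Set G) ≤ pCore p G) (P : Subgroup G) (hP : IsPGroup p P) :
    Subgroup.centralizer (pCore p ↥(Subgroup.normalizer (P : Set G)) : Set ↥(Subgroup.normalizer (P : Set G))) ≤
      pCore p ↥(Subgroup.normalizer (P : Set G)) := by
  set M := Subgroup.normalizer (P : Set G) with hM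
  set R := pCore p ↥M with hR
  haveI : R.Normal := Subgroup.sSup_normal _ (fun _ h => h.1)
  refine le_pCore fun ⟨c, hc⟩ => ?_
  have hPR : P.subgroupOf M ≤ R := by
    haveI : (P.subgroupOf M).Normal :=
      (Subgroup.normal_subgroupOf_iff_le_normalizer Subgroup.le_normalizer).mpr le_rfl
    exact le_pCore (hP.of_equiv (Subgroup.subgroupOfEquivOfLe Subgroup.le_normalizer).symm)
  have hQR : (pCore p G).subgroupOf M ≤ R := by
    haveI : (pCore p G).Normal := Subgroup.sSup_normal _ (fun _ h => h.1)
    exact le_pCore ((isPGroup_pCore (G := G) p).of_injective (M.subtype.subgroupComap (pCore p G))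
      (fun a b e => Subtype.ext (Subtype.ext (congrArg (fun z : pCore p G => (z : G)) e))))
  obtain ⟨k, hk⟩ := exists_coprime_pow p ((c : G))
  have hck : ((c ^ p ^ k : M) : G) = (c : G) ^ p ^ k := by push_cast; rfl
  have hcR := (Subgroup.centralizer (R : Set M)).pow_mem hc (p ^ k)
  have hcen : (c : G) ^ p ^ k ∈ Subgroup.centralizer (pCore p G : Set G) := by
    refine centralizes_pCore hP hk (fun y hy => ?_) (fun y hy hyP => ?_)
    · have := congrArg Subtype.val (hcR ⟨y, Subgroup.le_normalizer hy⟩ (hPR hy))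
      simpa [hck] using this
    · have := congrArg Subtype.val (hcR ⟨y, centralizer_le_normalizer' P hyP⟩ (hQR hy))
      simpa [hck] using this.symm
  obtain ⟨j, hj⟩ := isPGroup_pCore (G := G) p ⟨_, h hcen⟩
  refine ⟨k + j, Subtype.ext (Subtype.ext ?_)⟩
  have hj' : ((c : G) ^ p ^ k) ^ p ^ j = 1 := congrArg Subtype.val hj
  push_cast
  rwa [pow_add, pow_mul]

theorem charP_normal [Finite G] (p : ℕ) [Fact p.Prime] (B : Subgroup G) [B.Normal]
    (h : IsPGroup p ↥(generalizedFittingSubgroup G)) : IsPGroup p ↥(generalizedFittingSubgroup ↥B) := by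
  have hle : (generalizedFittingSubgroup ↥B).map B.subtype ≤ generalizedFittingSubgroup G :=
    (gfit_inf_normal B).ge.trans inf_le_left
  refine (h.to_le hle).of_injective
    (Subgroup.equivMapOfInjective (generalizedFittingSubgroup ↥B) B.subtype B.subtype_injective).toMonoidHom ?_
  exact (Subgroup.equivMapOfInjective (generalizedFittingSubgroup ↥B) B.subtype B.subtype_injective).injective

theorem gfit_pGroup_equiv [Finite G] {H : Type*} [Group H] [Finite H] (p : ℕ) (e : G ≃* H)
    (h : IsPGroup p ↥(generalizedFittingSubgroup G)) : IsPGroup p ↥(generalizedFittingSubgroup H) := by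
  rw [← map_generalizedFittingSubgroup_equiv e]
  exact h.map e.toMonoidHom

/-- One step: `V ◁ W`, both `p`-groups. -/
theorem charP_centralizer_step [Finite G] (p : ℕ) [Fact p.Prime] (V W : Subgroup G) (hW : IsPGroup p W)
    (hVW : V ≤ W) (hn : W ≤ Subgroup.normalizer (V : Set G))
    (h : IsPGroup p ↥(generalizedFittingSubgroup ↥(Subgroup.centralizer (V : Set G)))) :
    IsPGroup p ↥(generalizedFittingSubgroup ↥(Subgroup.centralizer (W : Set G))) := by
  set C := Subgroup.centralizer (V : Set G) with hC
  have hWC : W ≤ Subgroup.normalizer (C : Set G) := by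
    refine hn.trans fun g hg => ?_
    rw [Subgroup.mem_normalizer_iff]
    have key : ∀ g ∈ Subgroup.normalizer (V : Set G), ∀ x ∈ C, g * x * g⁻¹ ∈ C := by
      intro g hg x hx v hv
      have := hx (g⁻¹ * v * g) ((Subgroup.mem_normalizer_iff''.mp hg v).mp hv)
      calc v * (g * x * g⁻¹) = g * ((g⁻¹ * v * g) * x) * g⁻¹ := by group
        _ = g * (x * (g⁻¹ * v * g)) * g⁻¹ := by rw [this]
        _ = g * x * g⁻¹ * v := by group
    intro x
    refine ⟨key g hg x, fun hx => ?_⟩
    have := key g⁻¹ (inv_mem hg) _ hx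
    simpa [mul_assoc] using this
  set H := C ⊔ W with hH
  haveI hCn : (C.subgroupOf H).Normal :=
    (Subgroup.normal_subgroupOf_iff_le_normalizer le_sup_left).mpr (sup_le Subgroup.le_normalizer hWC)
  have hCp : IsPGroup p ↥(generalizedFittingSubgroup ↥(C.subgroupOf H)) :=
    gfit_pGroup_equiv p (Subgroup.subgroupOfEquivOfLe le_sup_left).symm h
  -- `H` has characteristic `p`
  have hHp : Subgroup.centralizer (pCore p ↥H : Set ↥H) ≤ pCore p ↥H := by
    haveI : (pCore p ↥H).Normal := Subgroup.sSup_normal _ (fun _ h => h.1)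
    refine le_pCore fun ⟨c, hc⟩ => ?_
    obtain ⟨k, hk⟩ : ∃ k, c ^ p ^ k ∈ C.subgroupOf H := by
      obtain ⟨w, hw, a, ha, e⟩ := mem_sup_of_le_normalizer hWC (show (c : G) ∈ C ⊔ W from c.2)
      let cw : ↥H := ⟨w, (le_sup_left : C ≤ H) hw⟩
      let ca : ↥H := ⟨a, (le_sup_right : W ≤ H) ha⟩
      obtain ⟨j, hj⟩ := hW ⟨a, ha⟩
      refine ⟨j, ?_⟩
      rw [← QuotientGroup.eq_one_iff, QuotientGroup.mk_pow, show c = cw * ca from Subtype.ext e.symm,
        QuotientGroup.mk_mul, (QuotientGroup.eq_one_iff cw).mpr hw, one_mul, ← QuotientGroup.mk_pow,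
        show ca ^ p ^ j = 1 from Subtype.ext (congrArg (fun z : W => (z : G)) hj), QuotientGroup.mk_one]
    have h' := (isPGroup_gfit_iff p).mp hCp
    haveI : (pCore p ↥(C.subgroupOf H)).Normal := Subgroup.sSup_normal _ (fun _ h => h.1)
    have hmem : (⟨c ^ p ^ k, hk⟩ : C.subgroupOf H) ∈ pCore p ↥(C.subgroupOf H) := by
      refine h' fun y hy => Subtype.ext ?_
      exact (Subgroup.centralizer (pCore p ↥H : Set ↥H)).pow_mem hc (p ^ k) _
        (map_pCore_le p (C.subgroupOf H) ⟨y, hy, rfl⟩)
    obtain ⟨j, hj⟩ := isPGroup_pCore p ⟨_, hmem⟩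
    refine ⟨k + j, Subtype.ext ?_⟩
    have hj' : (c ^ p ^ k) ^ p ^ j = 1 := congrArg (fun z : pCore p ↥(C.subgroupOf H) => (z : ↥H)) hj
    push_cast
    rwa [pow_add, pow_mul]
  set W' := W.subgroupOf H with hW'
  have hW'p : IsPGroup p W' := hW.of_equiv (Subgroup.subgroupOfEquivOfLe le_sup_right).symm
  have hN := (isPGroup_gfit_iff p).mpr (charP_normalizer p hHp W' hW'p)
  set B := (Subgroup.centralizer (W' : Set ↥H)).subgroupOf (Subgroup.normalizer (W' : Set ↥H)) with hB
  haveI : B.Normal := centralizer_subgroupOf_normalizer_normal W'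
  have hBp := charP_normal p B hN
  have e1 : (Subgroup.centralizer (W' : Set ↥H)) ≃* Subgroup.centralizer (W : Set G) :=
    { toFun := fun x => ⟨((x : ↥H) : G), fun w hw => congrArg Subtype.val (x.2 ⟨w, le_sup_right (a := C) hw⟩ hw)⟩
      invFun := fun y => ⟨⟨(y : G), le_sup_left (b := W) (Subgroup.centralizer_le hVW y.2)⟩,
        fun w hw => Subtype.ext (y.2 _ hw)⟩
      left_inv := fun x => rfl
      right_inv := fun y => rfl
      map_mul' := fun x y => rfl }
  exact gfit_pGroup_equiv p ((Subgroup.subgroupOfEquivOfLe (centralizer_le_normalizer' W')).trans e1) hBp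

theorem charP_centralizer [Finite G] (p : ℕ) [Fact p.Prime] (U : Subgroup G) (hU : IsPGroup p U) :
    ∀ V : Subgroup G, V ≤ U → IsPGroup p ↥(generalizedFittingSubgroup ↥(Subgroup.centralizer (V : Set G))) →
      IsPGroup p ↥(generalizedFittingSubgroup ↥(Subgroup.centralizer (U : Set G))) := by
  intro V
  induction hn : (V.subgroupOf U).index using Nat.strong_induction_on generalizing V with
  | h n ih =>
    intro hVU h
    subst hn
    rcases hVU.eq_or_lt with rfl | hlt
    · exact h
    haveI : Group.IsNilpotent U := hU.isNilpotent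
    have hlt' : V.subgroupOf U < ⊤ := lt_top_iff_ne_top.mpr fun e =>
      hlt.not_ge (Subgroup.subgroupOf_eq_top.mp e)
    set W := (Subgroup.normalizer (V.subgroupOf U : Set U)).map U.subtype with hW
    have hstrict := normalizerCondition_of_isNilpotent _ hlt'
    have hWU : W ≤ U := Subgroup.map_subtype_le _
    have hVW : V ≤ W := by
      rw [← Subgroup.map_subgroupOf_eq_of_le hVU]
      exact Subgroup.map_mono Subgroup.le_normalizer
    have hn : W ≤ Subgroup.normalizer (V : Set G) := by
      rintro _ ⟨w, hw, rfl⟩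
      rw [Subgroup.mem_normalizer_iff]
      intro v
      constructor
      · intro hv
        exact (Subgroup.mem_normalizer_iff.mp hw ⟨v, hVU hv⟩).mp hv
      · intro hv
        have hvU : v ∈ U := by
          have := mul_mem (mul_mem (inv_mem w.2) (hVU hv)) w.2
          simpa [mul_assoc] using this
        exact (Subgroup.mem_normalizer_iff.mp hw ⟨v, hvU⟩).mpr hv
    have hlt2 : (W.subgroupOf U).index < (V.subgroupOf U).index := by
      refine Subgroup.index_strictAnti ?_
      rw [hW]
      simp only [Subgroup.subgroupOf]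
      rw [Subgroup.comap_map_eq_self_of_injective U.subtype_injective]
      exact hstrict
    exact ih _ hlt2 W rfl hWU (charP_centralizer_step p V W (hU.to_le hWU) hVW hn h)

theorem isPGroup_gfit_iff_eq [Finite G] (p : ℕ) [Fact p.Prime] :
    IsPGroup p ↥(generalizedFittingSubgroup G) ↔ generalizedFittingSubgroup G = pCore p G := by
  rw [isPGroup_gfit_iff, gfit_eq_pCore_iff]

/-- Involution centralizers of characteristic `p` force all local subgroups to be so. -/
theorem charP_local [Finite G] (p : ℕ) [Fact p.Prime]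
    (h : ∀ t : G, orderOf t = p →
      generalizedFittingSubgroup ↥(Subgroup.centralizer ({t} : Set G)) =
        pCore p ↥(Subgroup.centralizer ({t} : Set G)))
    (T : Subgroup G) (hT : IsPGroup p T) (hT1 : T ≠ ⊥) :
    generalizedFittingSubgroup ↥(Subgroup.normalizer (T : Set G)) = pCore p ↥(Subgroup.normalizer (T : Set G)) := by
  have hdvd : p ∣ Nat.card T := by
    obtain ⟨k, hk⟩ := IsPGroup.iff_card.mp hT
    rw [hk]
    refine dvd_pow_self p fun hk0 => hT1 ?_
    rw [hk0, pow_zero, Subgroup.card_eq_one] at hk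
    exact hk
  obtain ⟨⟨t, htT⟩, ht⟩ := exists_prime_orderOf_dvd_card' p hdvd
  rw [Subgroup.orderOf_mk] at ht
  have hV : Subgroup.centralizer (Subgroup.zpowers t : Set G) = Subgroup.centralizer ({t} : Set G) := by
    rw [Subgroup.zpowers_eq_closure, Subgroup.centralizer_closure]
  have hCT := charP_centralizer p T hT (Subgroup.zpowers t) (Subgroup.zpowers_le.mpr htT) (by
    rw [hV, isPGroup_gfit_iff_eq]; exact h t ht)
  rw [gfit_eq_pCore_iff]
  set N := Subgroup.normalizer (T : Set G) with hN
  haveI : (pCore p ↥N).Normal := Subgroup.sSup_normal _ (fun _ h => h.1)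
  set Y := Subgroup.centralizer (pCore p ↥N : Set ↥N) with hY
  have hTR : T.subgroupOf N ≤ pCore p ↥N := by
    haveI : (T.subgroupOf N).Normal :=
      (Subgroup.normal_subgroupOf_iff_le_normalizer Subgroup.le_normalizer).mpr le_rfl
    exact le_pCore (hT.of_equiv (Subgroup.subgroupOfEquivOfLe Subgroup.le_normalizer).symm)
  have hYC : ∀ y ∈ Y, (y : G) ∈ Subgroup.centralizer (T : Set G) := fun y hy x hx =>
    congrArg Subtype.val (hy ⟨x, Subgroup.le_normalizer hx⟩ (hTR hx))
  set D := (Subgroup.centralizer (T : Set G)).subgroupOf N with hD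
  have hYD : Y ≤ D := fun y hy => hYC y hy
  have hDp := gfit_pGroup_equiv p (Subgroup.subgroupOfEquivOfLe (centralizer_le_normalizer' T)).symm hCT
  have hYp : IsPGroup p ↥(generalizedFittingSubgroup ↥Y) :=
    gfit_pGroup_equiv p (Subgroup.subgroupOfEquivOfLe hYD) (charP_normal p (Y.subgroupOf D) hDp)
  have hYC' := (isPGroup_gfit_iff p).mp hYp
  have hcen : (pCore p ↥Y).map Y.subtype ≤ pCore p ↥N := map_pCore_le p Y
  refine le_pCore fun ⟨y, hy⟩ => ?_
  have hyR : (⟨y, hy⟩ : Y) ∈ pCore p ↥Y := hYC' fun z hz => Subtype.ext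
    (hy (z : ↥N) (hcen ⟨z, hz, rfl⟩))
  obtain ⟨j, hj⟩ := isPGroup_pCore p ⟨_, hyR⟩
  exact ⟨j, congrArg (fun z : pCore p ↥Y => (z : ↥Y)) hj⟩

/-- `E(N_G(P)) = E(G)` for `P ≤ O_p(G)`. -/
theorem layer_normalizer [Finite G] (p : ℕ) [Fact p.Prime] (P : Subgroup G) (hP : P ≤ pCore p G) :
    (layer ↥(Subgroup.normalizer (P : Set G))).map (Subgroup.normalizer (P : Set G)).subtype = layer G := by
  haveI : (pCore p G).Normal := Subgroup.sSup_normal _ (fun _ h => h.1)
  set N := Subgroup.normalizer (P : Set G) with hN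
  have hEC : layer G ≤ Subgroup.centralizer (pCore p G : Set G) :=
    layer_le_centralizer_fitting.trans (Subgroup.centralizer_le (pCore_le_fittingSubgroup Fact.out))
  have hCN : Subgroup.centralizer (pCore p G : Set G) ≤ N :=
    (Subgroup.centralizer_le hP).trans (centralizer_le_normalizer' P)
  refine le_antisymm ?_ ?_
  · rw [Subgroup.map_le_iff_le_comap]
    refine sSup_le fun L hL => ?_
    rw [← Subgroup.map_le_iff_le_comap]
    have hPn : (P.subgroupOf N).Normal :=
      (Subgroup.normal_subgroupOf_iff_le_normalizer Subgroup.le_normalizer).mpr le_rfl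
    set R := pCore p ↥N with hR
    have hLR : L ≤ Subgroup.centralizer (R : Set ↥N) :=
      (le_layer hL).trans (layer_le_centralizer_fitting.trans
        (Subgroup.centralizer_le (pCore_le_fittingSubgroup Fact.out)))
    have hP' : IsPGroup p P := (isPGroup_pCore p).to_le hP
    have hLP : P.subgroupOf N ≤ R := le_pCore (hP'.of_equiv (Subgroup.subgroupOfEquivOfLe Subgroup.le_normalizer).symm)
    have hQR : (pCore p G).subgroupOf N ≤ R :=
      le_pCore ((isPGroup_pCore (G := G) p).of_injective (N.subtype.subgroupComap (pCore p G))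
        (fun a b e => Subtype.ext (Subtype.ext (congrArg (fun z : pCore p G => (z : G)) e))))
    -- the elements of order prime to `p` of `L` centralise `O_p(G)`
    have hLQ : L ≤ (Subgroup.centralizer (pCore p G : Set G)).subgroupOf N := by
      set D : Subgroup ↥L := ((Subgroup.centralizer (pCore p G : Set G)).subgroupOf N).subgroupOf L with hD
      haveI : (Subgroup.centralizer (pCore p G : Set G)).Normal := inferInstance
      have hres : pResidual p ↥L ≤ D := pResidual_le fun l hl => by
        refine centralizes_pCore hP' ?_ (fun y hy => ?_) (fun y hy hyP => ?_)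
        · rwa [orderOf_injective N.subtype N.subtype_injective, orderOf_injective L.subtype L.subtype_injective]
        · exact congrArg Subtype.val (hLR l.2 ⟨y, Subgroup.le_normalizer hy⟩ (hLP hy))
        · exact (congrArg Subtype.val (hLR l.2 ⟨y, centralizer_le_normalizer' P hyP⟩ (hQR hy))).symm
      have hq : IsPGroup p (↥L ⧸ D) := isPGroup_quotient_of_pResidual_le hres
      haveI := hq.isNilpotent
      have htop : D = ⊤ := by
        by_contra hne
        haveI : Nontrivial (↥L ⧸ D) := QuotientGroup.nontrivial_iff.mpr hne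
        haveI := hL.2.1
        haveI : Group.IsPerfect (↥L ⧸ D) := Group.IsPerfect.ofSurjective (QuotientGroup.mk'_surjective D)
        exact Group.IsPerfect.not_isNilpotent (G := ↥L ⧸ D) inferInstance
      intro l hl
      exact (show (⟨l, hl⟩ : L) ∈ D from htop ▸ Subgroup.mem_top _)
    have hLC : L.map N.subtype ≤ Subgroup.centralizer (pCore p G : Set G) := by
      rintro _ ⟨l, hl, rfl⟩
      exact hLQ hl
    have h1 : IsComponent ((L.map N.subtype).subgroupOf (Subgroup.centralizer (pCore p G : Set G))) := by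
      refine ⟨?_, isQuasisimple_of_equiv ((Subgroup.equivMapOfInjective L N.subtype N.subtype_injective).trans
        (Subgroup.subgroupOfEquivOfLe hLC).symm) hL.2⟩
      have h2 := hL.1.subgroupOf (K := (Subgroup.centralizer (pCore p G : Set G)).subgroupOf N)
      have h3 := h2.map (f := (Subgroup.subgroupOfEquivOfLe hCN).toMonoidHom)
        (Subgroup.subgroupOfEquivOfLe hCN).surjective
      convert h3 using 1
      ext z
      simp only [Subgroup.mem_subgroupOf, Subgroup.mem_map, MulEquiv.coe_toMonoidHom]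
      constructor
      · rintro ⟨w, hw, e⟩
        exact ⟨⟨w, hLQ hw⟩, hw, Subtype.ext e⟩
      · rintro ⟨w, hw, e⟩
        exact ⟨(w : ↥N), hw, congrArg Subtype.val e⟩
    have h4 := isComponent_map_subtype (Subgroup.Normal.isSubnormal inferInstance) h1
    rw [Subgroup.map_subgroupOf_eq_of_le hLC] at h4
    exact le_layer h4
  · refine sSup_le fun K hK => ?_
    have hKN : K ≤ N := (le_layer hK).trans (hEC.trans hCN)
    rw [← Subgroup.map_subgroupOf_eq_of_le hKN]
    exact Subgroup.map_mono (le_layer (isComponent_subgroupOf hK hKN))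

end CfsgLib.Comp
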