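import Cfsg.Agent.Lib.Comp.PCompMore
import Cfsg.Prelude.Def_KGroupFacts

/-!
`L_{p'}`-balance under the Schreier property: `p`-components of normalizers of `p`-subgroups lie in
the `p`-layer. Also: `p`-components and normal subgroups, quotients by `p'`-groups.
-/

set_option autoImplicit false
set_option linter.unusedSectionVars false

namespace CfsgLib.Comp

open Cfsg Subgroup
open scoped commutatorElement

universe u v
variable {G : Type u} [Group G] [Finite G] {p : ℕ} [Fact p.Prime]

/-! ### Recognition of `p`-components -/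

theorem isPComponent_of_pEl {K : Subgroup G} (hsn : K.IsSubnormal) (hp : pEl p K = K)
    (hc : IsComponent (K.map (bar p G))) : IsPComponent p K :=
  (isPComponent_iff p).mpr ⟨_, hc,
    le_antisymm (hp.ge.trans (pEl_mono (Subgroup.le_comap_map _ _)))
      (pEl_comap_le p hsn (Subgroup.le_comap_map _ _) rfl)⟩

theorem isPComponent_map_surjective {H : Type v} [Group H] [Finite H] (f : G →* H) (hf : Function.Surjective f)
    (hker : f.ker ≤ pPrimeCore p G) {K : Subgroup G} (hK : IsPComponent p K) : IsPComponent p (K.map f) := by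
  have h1 : ((bar p H).comp f).ker = pPrimeCore p G := by
    rw [← MonoidHom.comap_ker, QuotientGroup.ker_mk']
    refine le_antisymm (le_pPrimeCore ?_) ?_
    · have h2 : Nat.card ↥((pPrimeCore p H).comap f) ∣ Nat.card ↥(pPrimeCore p H) * Nat.card f.ker := by
        set A := (pPrimeCore p H).comap f with hA
        rw [← Subgroup.index_mul_card (f.ker.subgroupOf A),
          Nat.card_congr (Subgroup.subgroupOfEquivOfLe (show f.ker ≤ A from fun x hx => by
            rw [hA, Subgroup.mem_comap, MonoidHom.mem_ker.mp hx]; exact one_mem _)).toEquiv]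
        refine Nat.mul_dvd_mul ?_ dvd_rfl
        have h3 : (f.subgroupComap (pPrimeCore p H)).ker = f.ker.subgroupOf A := by
          ext x
          rw [MonoidHom.mem_ker, Subgroup.mem_subgroupOf, MonoidHom.mem_ker]
          exact ⟨fun h => congrArg Subtype.val h, fun h => Subtype.ext h⟩
        rw [← h3, Subgroup.index_ker]
        exact Subgroup.card_subgroup_dvd_card _
      exact Nat.Coprime.coprime_dvd_left h2 ((card_pPrimeCore_coprime p).mul_left
        (Nat.Coprime.coprime_dvd_left (Subgroup.card_dvd_of_le hker) (card_pPrimeCore_coprime p)))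
    · rw [← Subgroup.map_le_iff_le_comap]
      haveI := (inferInstance : (pPrimeCore p G).Normal).map f hf
      exact le_pPrimeCore (Nat.Coprime.coprime_dvd_left (Subgroup.card_map_dvd _ _) (card_pPrimeCore_coprime p))
  let e := (QuotientGroup.quotientMulEquivOfEq h1.symm).trans
    (QuotientGroup.quotientKerEquivOfSurjective _ ((bar_surjective p).comp hf))
  have he : (K.map f).map (bar p H) = (K.map (bar p G)).map e.toMonoidHom := by
    rw [Subgroup.map_map, Subgroup.map_map]
    rfl
  refine isPComponent_of_pEl (hK.1.map hf) (le_antisymm (pEl_le _) ?_) ?_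
  · conv_lhs => rw [← pcomp_pEl hK]
    exact pEl_map_le f K
  · rw [he]
    exact isComponent_map_equiv e hK.2.1

theorem pEl_map_subtype {H : Subgroup G} (K : Subgroup ↥H) : pEl p (K.map H.subtype) = (pEl p K).map H.subtype :=
  le_antisymm (le_map_pEl H.subtype K) (pEl_map_le H.subtype K)

theorem pPrimeCore_subgroupOf (H : Subgroup G) [H.Normal] :
    pPrimeCore p ↥H = (pPrimeCore p G).subgroupOf H := by
  refine le_antisymm (fun x hx => map_pPrimeCore_le p H ⟨x, hx, rfl⟩) (le_pPrimeCore ?_)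
  exact Nat.Coprime.coprime_dvd_left
    (Subgroup.card_dvd_of_injective (H.subtype.subgroupComap (pPrimeCore p G))
      (fun a b e => Subtype.ext (Subtype.ext (congrArg (fun z : pPrimeCore p G => (z : G)) e))))
    (card_pPrimeCore_coprime p)

/-- The map `H ⧸ O_{p'}(H) → G ⧸ O_{p'}(G)` for normal `H`. -/
noncomputable def barIncl (p : ℕ) [Fact p.Prime] (H : Subgroup G) [H.Normal] :
    ↥H ⧸ pPrimeCore p ↥H →* G ⧸ pPrimeCore p G :=
  QuotientGroup.map _ _ H.subtype (pPrimeCore_subgroupOf H).le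

theorem barIncl_injective (H : Subgroup G) [H.Normal] : Function.Injective (barIncl p H) := by
  rw [injective_iff_map_eq_one]
  intro a ha
  obtain ⟨x, rfl⟩ := QuotientGroup.mk'_surjective _ a
  rw [QuotientGroup.mk'_apply, QuotientGroup.eq_one_iff, pPrimeCore_subgroupOf]
  exact (QuotientGroup.eq_one_iff (x : G)).mp ha

theorem map_map_barIncl (H : Subgroup G) [H.Normal] (K : Subgroup ↥H) :
    (K.map (bar p ↥H)).map (barIncl p H) = (K.map H.subtype).map (bar p G) := by
  rw [Subgroup.map_map, Subgroup.map_map]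
  rfl

theorem isPComponent_subgroupOf_iff (H : Subgroup G) [H.Normal] {K : Subgroup G} (hKH : K ≤ H) :
    IsPComponent p (K.subgroupOf H) ↔ IsPComponent p K := by
  set K' := K.subgroupOf H with hK'
  have hmap : K'.map H.subtype = K := Subgroup.map_subgroupOf_eq_of_le hKH
  constructor
  · intro h
    refine isPComponent_of_pEl ?_ ?_ ?_
    · have := h.1.trans' (Subgroup.Normal.isSubnormal (H := H) inferInstance)
      rwa [hmap] at this
    · rw [← hmap, pEl_map_subtype, pcomp_pEl h]
    · rw [← hmap, ← map_map_barIncl]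
      refine ⟨?_, isQuasisimple_of_equiv (Subgroup.equivMapOfInjective _ _ (barIncl_injective H)) h.2.1.2⟩
      have h2 := h.1.trans' (Subgroup.Normal.isSubnormal (H := H) inferInstance)
      rw [map_map_barIncl]
      exact h2.map (bar_surjective p)
  · intro h
    refine isPComponent_of_pEl (h.1.subgroupOf (K := H)) ?_ ⟨(h.1.subgroupOf (K := H)).map (bar_surjective p), ?_⟩
    · refine Subgroup.map_injective H.subtype_injective ?_
      rw [← pEl_map_subtype, hmap, pcomp_pEl h]
    · refine isQuasisimple_of_equiv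
        ((Subgroup.equivMapOfInjective _ _ (barIncl_injective H)).trans (MulEquiv.subgroupCongr ?_)).symm h.2.1.2
      rw [map_map_barIncl, hmap]

theorem pEl_sup_core_le (N : Subgroup G) [N.Normal] : pEl p (N ⊔ pPrimeCore p G) ≤ N := by
  rw [pEl, Subgroup.closure_le]
  rintro x ⟨hx, k, hk⟩
  obtain ⟨a, ha, o, ho, rfl⟩ := Subgroup.mem_sup_of_normal_left.mp hx
  have hob : (QuotientGroup.mk' N) (a * o) = QuotientGroup.mk' N o := by
    rw [map_mul, show QuotientGroup.mk' N a = 1 from (QuotientGroup.eq_one_iff a).mpr ha, one_mul]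
  have h1 : orderOf (QuotientGroup.mk' N o) = 1 := by
    refine Nat.eq_one_of_dvd_coprimes ((card_pPrimeCore_coprime (G := G) p).pow_right k) ?_ ?_
    · exact (orderOf_map_dvd _ _).trans (Subgroup.orderOf_dvd_natCard _ ho)
    · rw [← hob]
      exact orderOf_dvd_of_pow_eq_one (by rw [← map_pow, hk, map_one])
  rw [SetLike.mem_coe, ← QuotientGroup.eq_one_iff, ← QuotientGroup.mk'_apply, hob]
  exact orderOf_eq_one_iff.mp h1

/-- A `p`-component lies in a normal subgroup or centralises it modulo `O_{p'}`. -/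
theorem pcomp_le_or_commutator {K : Subgroup G} (hK : IsPComponent p K) (N : Subgroup G) [hN : N.Normal] :
    K ≤ N ∨ ⁅K, N⁆ ≤ pPrimeCore p G := by
  haveI : (N.map (bar p G)).Normal := hN.map _ (bar_surjective p)
  rcases component_le_or_commutator_eq_bot hK.2.1 (N.map (bar p G)) with h | h
  · left
    rw [Subgroup.map_le_iff_le_comap, Subgroup.comap_map_eq, QuotientGroup.ker_mk'] at h
    calc K = pEl p K := (pcomp_pEl hK).symm
      _ ≤ pEl p (N ⊔ pPrimeCore p G) := pEl_mono h
      _ ≤ N := pEl_sup_core_le N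
  · right
    rwa [← QuotientGroup.ker_mk' (pPrimeCore p G), ← Subgroup.map_eq_bot_iff, Subgroup.map_commutator]

theorem pcomp_centralizes_pCore {K : Subgroup G} (hK : IsPComponent p K) :
    K ≤ Subgroup.centralizer (pCore p G : Set G) := by
  haveI : (pCore p G).Normal := Subgroup.sSup_normal _ (fun _ h => h.1)
  rw [← Subgroup.commutator_eq_bot_iff_le_centralizer, eq_bot_iff]
  have h1 : ⁅K, pCore p G⁆ ≤ pPrimeCore p G ⊓ pCore p G := by
    refine le_inf ?_ ((Subgroup.commutator_mono le_top le_rfl).trans (Subgroup.commutator_le_right _ _))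
    rw [← QuotientGroup.ker_mk' (pPrimeCore p G), ← Subgroup.map_eq_bot_iff, Subgroup.map_commutator,
      Subgroup.commutator_eq_bot_iff_le_centralizer]
    refine (le_layer hK.2.1).trans (layer_le_centralizer_fitting.trans (Subgroup.centralizer_le ?_))
    haveI := (inferInstance : (pCore p G).Normal).map (bar p G) (bar_surjective p)
    exact (le_pCore ((isPGroup_pCore (G := G) p).map _)).trans (pCore_le_fittingSubgroup Fact.out)
  obtain ⟨k, hk⟩ := IsPGroup.iff_card.mp (isPGroup_pCore (G := G) p)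
  rwa [Subgroup.inf_eq_bot_of_coprime (by rw [hk]; exact (card_pPrimeCore_coprime p).pow_right k)] at h1

/-! ### Components when `O_{p'}(G) = 1` -/

theorem component_pEl_self (hO : pPrimeCore p G = ⊥) {J : Subgroup G} (hJ : IsComponent J) : pEl p J = J := by
  refine le_antisymm (pEl_le J) ?_
  have hne : ¬ J ≤ pPrimeCore p G := by
    rw [hO]
    exact fun h => isComponent_ne_bot hJ (le_bot_iff.mp h)
  have h2 : J.map (bar p G) ≤ (pEl p J).map (bar p G) :=
    (component_pEl p (map_component hJ hne)).ge.trans (le_map_pEl (bar p G) J)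
  rw [Subgroup.map_le_iff_le_comap, Subgroup.comap_map_eq, QuotientGroup.ker_mk', hO, sup_bot_eq] at h2
  exact h2

/-- Conjugation of a subgroup. -/
abbrev cj (g : G) (A : Subgroup G) : Subgroup G := A.map (MulAut.conj g).toMonoidHom

theorem cj_mul (g h : G) (A : Subgroup G) : cj (g * h) A = cj g (cj h A) := by
  rw [cj, cj, cj, Subgroup.map_map]
  congr 1
  ext x
  simp [mul_assoc]

theorem cj_inv_eq {g h : G} {A : Subgroup G} (e : cj g A = cj h A) : cj (h⁻¹ * g) A = A := by
  rw [cj_mul, e, ← cj_mul, inv_mul_cancel]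
  ext x
  simp [cj]

theorem mem_normalizer_of_cj {g : G} {A : Subgroup G} (e : cj g A = A) :
    g ∈ Subgroup.normalizer (A : Set G) :=
  mem_normalizer_of_maps fun x hx => by
    rw [← e]
    exact ⟨x, hx, rfl⟩

/-- The product of the conjugates of `J` under `Q`. -/
abbrev orbitSup (Q J : Subgroup G) : Subgroup G := ⨆ q : ↥Q, cj (q : G) J

theorem orbitSup_le_layer (Q : Subgroup G) {J : Subgroup G} (hJ : IsComponent J) : orbitSup Q J ≤ layer G :=
  iSup_le fun q => le_layer (isComponent_map_equiv (MulAut.conj (q : G)) hJ)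

theorem self_le_orbitSup (Q J : Subgroup G) : J ≤ orbitSup Q J := by
  refine le_trans ?_ (le_iSup (fun q : ↥Q => cj (q : G) J) 1)
  intro x hx
  exact ⟨x, hx, by simp⟩

theorem le_normalizer_orbitSup (Q J : Subgroup G) : Q ≤ Subgroup.normalizer (orbitSup Q J : Set G) := by
  intro q hq
  refine mem_normalizer_of_maps fun x hx => ?_
  have : orbitSup Q J ≤ (orbitSup Q J).comap (MulAut.conj q).toMonoidHom := iSup_le fun r => by
    rw [← Subgroup.map_le_iff_le_comap]
    refine le_trans (le_of_eq ?_) (le_iSup (fun q : ↥Q => cj (q : G) J) (⟨q, hq⟩ * r))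
    exact (cj_mul q r J).symm
  exact this hx

/-- An element of a product of components that is central there lies in `O_p(G)`. -/
theorem central_orbitSup_le (hO : pPrimeCore p G = ⊥) (Q : Subgroup G) {J : Subgroup G} (hJ : IsComponent J)
    {x : G} (hx : x ∈ orbitSup Q J) (hc : ∀ b ∈ orbitSup Q J, x * b = b * x) : x ∈ pCore p G := by
  rw [← fitting_eq_pCore Fact.out hO]
  have hxE : x ∈ layer G := orbitSup_le_layer Q hJ hx
  have hcen : ∀ y ∈ layer G, x * y = y * x := by
    have hle : layer G ≤ Subgroup.centralizer {x} := by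
      refine sSup_le fun L hL => ?_
      intro l hl
      rw [Subgroup.mem_centralizer_singleton_iff]
      by_cases h : ∃ q : ↥Q, cj (q : G) J = L
      · obtain ⟨q, rfl⟩ := h
        exact (hc l (le_iSup (fun q : ↥Q => cj (q : G) J) q hl)).symm
      · have hcom : orbitSup Q J ≤ Subgroup.centralizer (L : Set G) := iSup_le fun q =>
          Subgroup.commutator_eq_bot_iff_le_centralizer.mp ((components_eq_or_commute
            (isComponent_map_equiv (MulAut.conj (q : G)) hJ) hL).resolve_left fun e => h ⟨q, e⟩)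
        exact hcom hx l hl
    exact fun y hy => (Subgroup.mem_centralizer_singleton_iff.mp (hle hy)).symm
  have h : x ∈ (Subgroup.center ↥(layer G)).map (layer G).subtype :=
    ⟨⟨x, hxE⟩, Subgroup.mem_center_iff.mpr fun y => Subtype.ext (hcen y y.2).symm, rfl⟩
  rw [center_layer_eq_inf] at h
  exact h.1

/-- A `p`-element of a product of components normalising `Q` and not central in it. -/
theorem exists_noncentral_normalizing (hO : pPrimeCore p G = ⊥) {Q : Subgroup G} (hQ : IsPGroup p Q)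
    (hPQ : pCore p G ≤ Q) {J : Subgroup G} (hJ : IsComponent J) :
    ∃ x ∈ orbitSup Q J, x ∈ Subgroup.normalizer (Q : Set G) ∧ (∃ n : ℕ, x ^ p ^ n = 1) ∧
      ∃ b ∈ orbitSup Q J, x * b ≠ b * x := by
  set E := orbitSup Q J with hE
  set T := E ⊔ Q with hT
  obtain ⟨S, hS⟩ := (hQ.of_equiv (Subgroup.subgroupOfEquivOfLe (le_sup_right : Q ≤ T)).symm).exists_le_sylow
  set V := (S : Subgroup ↥T).map T.subtype ⊓ E with hV
  have hSp : IsPGroup p ((S : Subgroup ↥T).map T.subtype) := S.2.map _
  have hQS : Q ≤ (S : Subgroup ↥T).map T.subtype := by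
    calc Q = (Q.subgroupOf T).map T.subtype := (Subgroup.map_subgroupOf_eq_of_le (le_sup_right : Q ≤ T)).symm
      _ ≤ (S : Subgroup ↥T).map T.subtype := Subgroup.map_mono hS
  have hQV : Q ≤ Subgroup.normalizer (V : Set G) := fun q hq => mem_normalizer_of_maps fun x hx =>
    Subgroup.mem_inf.mpr ⟨Subgroup.mul_mem _ (Subgroup.mul_mem _ (hQS hq) (Subgroup.mem_inf.mp hx).1)
      (Subgroup.inv_mem _ (hQS hq)),
      (Subgroup.mem_normalizer_iff.mp (le_normalizer_orbitSup Q J hq) x).mp (Subgroup.mem_inf.mp hx).2⟩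
  have hVp : ∀ x ∈ V, ∃ n : ℕ, x ^ p ^ n = 1 := fun x hx => by
    obtain ⟨n, hn⟩ := hSp ⟨x, (Subgroup.mem_inf.mp hx).1⟩
    exact ⟨n, congrArg Subtype.val hn⟩
  -- `V` is not central in `E`
  have hnc : ∃ v ∈ V, ∃ b ∈ E, v * b ≠ b * v := by
    by_contra hall
    push Not at hall
    refine isQuasisimple_not_isSolvable hJ.2 (Group.isSolvable_of_comm fun a b => Subtype.ext ?_)
    have hTN : T ≤ Subgroup.normalizer (E : Set G) := sup_le Subgroup.le_normalizer (le_normalizer_orbitSup Q J)
    have hcomm : pEl p J ≤ Subgroup.centralizer (E : Set G) := by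
      rw [pEl, Subgroup.closure_le]
      rintro y ⟨hy, n, hn⟩ c hc
      have hyT : y ∈ T := le_sup_left (a := E) (self_le_orbitSup Q J hy)
      have hz : IsPGroup p ↥(Subgroup.zpowers (⟨y, hyT⟩ : T)) := by
        intro z
        obtain ⟨i, hi⟩ := Subgroup.mem_zpowers_iff.mp z.2
        refine ⟨n, Subtype.ext (Subtype.ext ?_)⟩
        have e : ((z : T) : G) = y ^ i := by rw [← hi]; push_cast; rfl
        push_cast
        rw [e, ← zpow_natCast, ← zpow_mul, mul_comm, zpow_mul, zpow_natCast, hn, one_zpow]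
      obtain ⟨S', hS'⟩ := hz.exists_le_sylow
      obtain ⟨g, hg⟩ := MulAction.exists_smul_eq T S' S
      have h1 : (MulAut.conj g) ⟨y, hyT⟩ ∈ (S : Subgroup ↥T) := by
        rw [← hg, Sylow.coe_subgroup_smul]
        exact Subgroup.smul_mem_pointwise_smul _ _ _ (hS' (Subgroup.mem_zpowers _))
      have hgE := Subgroup.mem_normalizer_iff.mp (hTN g.2)
      have h2 : (g : G) * y * (g : G)⁻¹ ∈ V :=
        Subgroup.mem_inf.mpr ⟨⟨_, h1, rfl⟩, (hgE y).mp (self_le_orbitSup Q J hy)⟩
      have h3 := hall _ h2 ((g : G) * c * (g : G)⁻¹) ((hgE c).mp hc)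
      have h4 : (g : G) * (y * c) * (g : G)⁻¹ = (g : G) * (c * y) * (g : G)⁻¹ := by
        calc (g : G) * (y * c) * (g : G)⁻¹ = (g : G) * y * (g : G)⁻¹ * ((g : G) * c * (g : G)⁻¹) := by group
          _ = (g : G) * c * (g : G)⁻¹ * ((g : G) * y * (g : G)⁻¹) := h3
          _ = (g : G) * (c * y) * (g : G)⁻¹ := by group
      exact (mul_left_cancel (mul_right_cancel h4)).symm
    rw [component_pEl_self hO hJ] at hcomm
    exact (hcomm a.2 b (self_le_orbitSup Q J b.2)).symm
  by_cases hVQ : V ≤ Q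
  · obtain ⟨v, hv, b, hb, hvb⟩ := hnc
    exact ⟨v, (Subgroup.mem_inf.mp hv).2, Subgroup.le_normalizer (hVQ hv), hVp v hv, b, hb, hvb⟩
  set U := Q ⊔ V with hU
  have hUp : IsPGroup p U := hSp.to_le (sup_le hQS inf_le_left)
  haveI : Group.IsNilpotent ↥U := hUp.isNilpotent
  have hlt : Q.subgroupOf U < ⊤ := lt_top_iff_ne_top.mpr fun h =>
    hVQ ((le_sup_right : V ≤ U).trans (Subgroup.subgroupOf_eq_top.mp h))
  obtain ⟨⟨w, hwU⟩, hwN, hwQ⟩ :=
    SetLike.exists_of_lt (Group.normalizerCondition_of_isNilpotent (G := ↥U) _ hlt)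
  have hwN' : w ∈ Subgroup.normalizer (Q : Set G) := mem_normalizer_of_maps fun x hx => by
    have h1 := (Subgroup.mem_normalizer_iff.mp hwN ⟨x, (le_sup_left : Q ≤ U) hx⟩).mp hx
    exact h1
  obtain ⟨v', hv', q, hq, e'⟩ := CfsgLib.mem_sup_of_le_normalizer hQV (show w ∈ V ⊔ Q from sup_comm Q V ▸ hwU)
  obtain ⟨v, hv, e⟩ : ∃ v ∈ V, q * v = w := ⟨q⁻¹ * v' * q, by simpa using (Subgroup.mem_normalizer_iff.mp (hQV (Subgroup.inv_mem _ hq)) v').mp hv', by rw [← e']; group⟩
  have hvN : v ∈ Subgroup.normalizer (Q : Set G) := by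
    have := Subgroup.mul_mem _ (Subgroup.inv_mem _ (Subgroup.le_normalizer hq)) hwN'
    rwa [← e, inv_mul_cancel_left] at this
  have hvQ : v ∉ Q := fun h => hwQ (show w ∈ Q by rw [← e]; exact Subgroup.mul_mem _ hq h)
  refine ⟨v, (Subgroup.mem_inf.mp hv).2, hvN, hVp v hv, ?_⟩
  by_contra hall
  push Not at hall
  exact hvQ (hPQ (central_orbitSup_le hO Q hJ (Subgroup.mem_inf.mp hv).2 hall))

/-- A perfect group which permutes the components compatibly with a `p`-group it centralises fixes each of them. -/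
theorem le_normalizer_of_orbit {Q : Subgroup G} (hQ : IsPGroup p Q) {K J : Subgroup G} (hKperf : ⁅K, K⁆ = K)
    (hcent : ∀ k ∈ K, ∀ q ∈ Q, k * q = q * k)
    (horb : ∀ k ∈ K, ∃ q ∈ Q, cj k J = cj q J) : K ≤ Subgroup.normalizer (J : Set G) := by
  set D := (Subgroup.normalizer (J : Set G)).subgroupOf K with hD
  haveI : D.Normal := by
    refine ⟨fun d hd k => ?_⟩
    obtain ⟨q, hq, e⟩ := horb k k.2
    have h1 := mem_normalizer_of_cj (cj_inv_eq e)
    have hd' : (d : G) ∈ Subgroup.normalizer (J : Set G) := hd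
    have h2 := Subgroup.mul_mem _ (Subgroup.mul_mem _ h1 hd') (Subgroup.inv_mem _ h1)
    show (k : G) * d * (k : G)⁻¹ ∈ Subgroup.normalizer (J : Set G)
    have hc := hcent _ (Subgroup.mul_mem K (Subgroup.mul_mem K k.2 d.2) (Subgroup.inv_mem K k.2)) q hq
    have h3 : q⁻¹ * (k : G) * d * (q⁻¹ * (k : G))⁻¹ = (k : G) * d * (k : G)⁻¹ := by
      calc q⁻¹ * (k : G) * d * (q⁻¹ * (k : G))⁻¹ = q⁻¹ * ((k : G) * d * (k : G)⁻¹ * q) := by group
        _ = q⁻¹ * (q * ((k : G) * d * (k : G)⁻¹)) := by rw [hc]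
        _ = (k : G) * d * (k : G)⁻¹ := by group
    rwa [h3] at h2
  have hp : IsPGroup p (↥K ⧸ D) := by
    intro z
    obtain ⟨k, rfl⟩ := QuotientGroup.mk'_surjective D z
    obtain ⟨q, hq, e⟩ := horb k k.2
    have h1 := mem_normalizer_of_cj (cj_inv_eq e)
    obtain ⟨n, hn⟩ := hQ ⟨q, hq⟩
    have hn' : q ^ p ^ n = 1 := congrArg Subtype.val hn
    refine ⟨n, ?_⟩
    rw [← map_pow, QuotientGroup.mk'_apply, QuotientGroup.eq_one_iff]
    show ((k ^ p ^ n : ↥K) : G) ∈ Subgroup.normalizer (J : Set G)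
    have h2 := Subgroup.pow_mem _ h1 (p ^ n)
    have hc : Commute q⁻¹ (k : G) := (show Commute q (k : G) from (hcent k k.2 q hq).symm).inv_left
    rw [hc.mul_pow, inv_pow, hn', inv_one, one_mul] at h2
    push_cast
    exact h2
  intro k hk
  by_contra hne
  haveI : Nontrivial (↥K ⧸ D) := QuotientGroup.nontrivial_iff.mpr fun h =>
    hne (show (⟨k, hk⟩ : ↥K) ∈ D from h ▸ Subgroup.mem_top _)
  haveI : Group.IsPerfect ↥K := Subgroup.isPerfect_iff.mpr hKperf
  haveI : Group.IsPerfect (↥K ⧸ D) := Group.IsPerfect.ofSurjective (QuotientGroup.mk'_surjective D)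
  exact Group.IsPerfect.not_isNilpotent (G := ↥K ⧸ D) hp.isNilpotent

/-! ### Schreier property -/

/-- The action of the normalizer of `J` on `J / Z(J)`. -/
noncomputable def quotAut (J : Subgroup G) :
    Subgroup.normalizer (J : Set G) →* MulAut (↥J ⧸ Subgroup.center ↥J) where
  toFun g := QuotientGroup.congr (Subgroup.center ↥J) (Subgroup.center ↥J) (J.normalizerMonoidHom g) (by
    refine Subgroup.eq_of_le_of_card_ge ?_ ?_
    · rintro _ ⟨z, hz, rfl⟩
      rw [Subgroup.mem_center_iff]
      intro y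
      obtain ⟨y, rfl⟩ := (J.normalizerMonoidHom g).surjective y
      show J.normalizerMonoidHom g y * J.normalizerMonoidHom g z = J.normalizerMonoidHom g z * J.normalizerMonoidHom g y
      rw [← map_mul, ← map_mul, Subgroup.mem_center_iff.mp hz y]
    · exact (Subgroup.card_map_of_injective (J.normalizerMonoidHom g).injective).ge)
  map_one' := by
    refine MulEquiv.ext fun a => ?_
    obtain ⟨x, rfl⟩ := QuotientGroup.mk'_surjective _ a
    show QuotientGroup.mk (J.normalizerMonoidHom 1 x) = _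
    rw [map_one]
    rfl
  map_mul' g h := by
    refine MulEquiv.ext fun a => ?_
    obtain ⟨x, rfl⟩ := QuotientGroup.mk'_surjective _ a
    show QuotientGroup.mk (J.normalizerMonoidHom (g * h) x) = _
    rw [map_mul]
    rfl

/-- Schreier: a perfect group normalising a component lies in `J C(J)`. -/
theorem exists_inner_of_perfect {J : Subgroup G} (hJ : IsComponent J)
    (hs : Group.IsSolvable (Cfsg.Out (↥J ⧸ Subgroup.center ↥J))) {K : Subgroup G} (hKperf : ⁅K, K⁆ = K)
    (hKN : K ≤ Subgroup.normalizer (J : Set G)) {k : G} (hk : k ∈ K) :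
    ∃ j ∈ J, j⁻¹ * k ∈ Subgroup.centralizer (J : Set G) := by
  let φ : ↥K →* Cfsg.Out (↥J ⧸ Subgroup.center ↥J) :=
    (QuotientGroup.mk' _).comp ((quotAut J).comp (Subgroup.inclusion hKN))
  haveI : Group.IsPerfect ↥K := Subgroup.isPerfect_iff.mpr hKperf
  have hker : φ.ker = ⊤ := by
    by_contra hne
    haveI : Nontrivial (↥K ⧸ φ.ker) := QuotientGroup.nontrivial_iff.mpr hne
    haveI : Group.IsPerfect (↥K ⧸ φ.ker) := Group.IsPerfect.ofSurjective (QuotientGroup.mk'_surjective _)
    haveI := hs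
    exact Group.IsPerfect.not_isSolvable (↥K ⧸ φ.ker)
      (Group.isSolvable_of_isSolvable_injective (f := QuotientGroup.kerLift φ) (QuotientGroup.kerLift_injective φ))
  have h1 : quotAut J ⟨k, hKN hk⟩ ∈ Cfsg.Inn (↥J ⧸ Subgroup.center ↥J) := by
    rw [← QuotientGroup.eq_one_iff]
    exact MonoidHom.mem_ker.mp (hker ▸ Subgroup.mem_top (⟨k, hk⟩ : ↥K) : (⟨k, hk⟩ : ↥K) ∈ φ.ker)
  obtain ⟨c, hc⟩ := h1
  obtain ⟨j, rfl⟩ := QuotientGroup.mk'_surjective _ c
  refine ⟨j, j.2, ?_⟩
  have hn : (j : G)⁻¹ * k ∈ Subgroup.normalizer (J : Set G) :=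
    Subgroup.mul_mem _ (Subgroup.inv_mem _ (Subgroup.le_normalizer j.2)) (hKN hk)
  set u := (j : G)⁻¹ * k with hu
  have hstep : ∀ a : ↥J, (⟨u * a * u⁻¹, (Subgroup.mem_normalizer_iff.mp hn a).mp a.2⟩ : ↥J) * a⁻¹ ∈
      Subgroup.center ↥J := by
    intro a
    have h2 := congrArg (fun e : MulAut (↥J ⧸ Subgroup.center ↥J) => e (QuotientGroup.mk' _ a)) hc
    have h3 : (QuotientGroup.mk' (Subgroup.center ↥J)) (j * a * j⁻¹) =
        (QuotientGroup.mk' (Subgroup.center ↥J))
          ⟨k * a * k⁻¹, (Subgroup.mem_normalizer_iff.mp (hKN hk) a).mp a.2⟩ := by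
      rw [map_mul, map_mul, map_inv]
      exact h2
    rw [← QuotientGroup.eq_one_iff, ← QuotientGroup.mk'_apply,
      show (⟨u * a * u⁻¹, (Subgroup.mem_normalizer_iff.mp hn a).mp a.2⟩ : ↥J) =
        j⁻¹ * ⟨k * a * k⁻¹, (Subgroup.mem_normalizer_iff.mp (hKN hk) a).mp a.2⟩ * j from Subtype.ext (by
          push_cast
          rw [hu]
          group),
      map_mul, map_mul, map_mul, ← h3, map_mul, map_mul, map_inv, map_inv]
    group
  let f : ↥J →* G :=
    { toFun := fun a => u * a * u⁻¹ * (a : G)⁻¹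
      map_one' := by simp
      map_mul' := fun a b => by
        have h : (a : G) * (u * b * u⁻¹ * (b : G)⁻¹) = u * b * u⁻¹ * (b : G)⁻¹ * a :=
          congrArg Subtype.val (Subgroup.mem_center_iff.mp (hstep b) a)
        calc u * ((a * b : ↥J) : G) * u⁻¹ * ((a * b : ↥J) : G)⁻¹
            = u * a * u⁻¹ * ((u * b * u⁻¹ * (b : G)⁻¹) * (a : G)⁻¹) := by push_cast; group
          _ = u * a * u⁻¹ * ((a : G)⁻¹ * (u * b * u⁻¹ * (b : G)⁻¹)) := by
              congr 1
              calc u * b * u⁻¹ * (b : G)⁻¹ * (a : G)⁻¹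
                  = (a : G)⁻¹ * ((a : G) * (u * b * u⁻¹ * (b : G)⁻¹)) * (a : G)⁻¹ := by group
                _ = (a : G)⁻¹ * (u * b * u⁻¹ * (b : G)⁻¹ * a) * (a : G)⁻¹ := by rw [h]
                _ = (a : G)⁻¹ * (u * b * u⁻¹ * (b : G)⁻¹) := by group
          _ = u * a * u⁻¹ * (a : G)⁻¹ * (u * b * u⁻¹ * (b : G)⁻¹) := by group }
  intro a ha
  have h4 : f ⟨a, ha⟩ = 1 := hom_component_trivial hJ (fun x y => by
    have := congrArg Subtype.val (Subgroup.mem_center_iff.mp (hstep y)
      ⟨f x, Subgroup.mul_mem J ((Subgroup.mem_normalizer_iff.mp hn x).mp x.2) (Subgroup.inv_mem J x.2)⟩)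
    exact this) ⟨a, ha⟩
  exact (mul_inv_eq_iff_eq_mul.mp (mul_inv_eq_one.mp h4)).symm

theorem mem_sup_centralizer_of_inner {k : G} (s : Set (Subgroup G)) (hs : s.Finite)
    (hc : ∀ J ∈ s, IsComponent J) (hin : ∀ J ∈ s, ∃ j ∈ J, j⁻¹ * k ∈ Subgroup.centralizer (J : Set G)) :
    ∃ e ∈ sSup s, e⁻¹ * k ∈ Subgroup.centralizer ((sSup s : Subgroup G) : Set G) := by
  induction s, hs using Set.Finite.induction_on with
  | empty =>
    refine ⟨1, one_mem _, ?_⟩
    rw [sSup_empty]
    intro x hx
    rw [SetLike.mem_coe, Subgroup.mem_bot] at hx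
    rw [hx, one_mul, mul_one]
  | @insert J T hJT _ ih =>
    obtain ⟨a, ha, hak⟩ := ih (fun L hL => hc L (Set.mem_insert_of_mem _ hL))
      (fun L hL => hin L (Set.mem_insert_of_mem _ hL))
    obtain ⟨j, hj, hjk⟩ := hin J (Set.mem_insert _ _)
    rw [sSup_insert]
    have hTJ : sSup T ≤ Subgroup.centralizer (J : Set G) := sSup_le fun L hL =>
      Subgroup.commutator_eq_bot_iff_le_centralizer.mp ((components_eq_or_commute
        (hc L (Set.mem_insert_of_mem _ hL)) (hc J (Set.mem_insert _ _))).resolve_left fun e => hJT (e ▸ hL))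
    have hJT' : J ≤ Subgroup.centralizer ((sSup T : Subgroup G) : Set G) := Subgroup.le_centralizer_iff.mp hTJ
    have hja : j * a = a * j := hTJ ha j hj
    refine ⟨a * j, Subgroup.mul_mem _ (Subgroup.mem_sup_right ha) (Subgroup.mem_sup_left hj), ?_⟩
    have h1 : (a * j)⁻¹ * k ∈ Subgroup.centralizer ((sSup T : Subgroup G) : Set G) := by
      rw [mul_inv_rev, mul_assoc]
      exact Subgroup.mul_mem _ (Subgroup.inv_mem _ (hJT' hj)) hak
    have h2 : (a * j)⁻¹ * k ∈ Subgroup.centralizer (J : Set G) := by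
      rw [← hja, mul_inv_rev, mul_assoc]
      exact Subgroup.mul_mem _ (Subgroup.inv_mem _ (hTJ ha)) hjk
    exact Subgroup.le_centralizer_iff.mp
      (sup_le (Subgroup.le_centralizer_iff.mpr (Subgroup.zpowers_le.mpr h2))
        (Subgroup.le_centralizer_iff.mpr (Subgroup.zpowers_le.mpr h1))) (Subgroup.mem_zpowers _)

/-! ### Balance -/

/-- The balance theorem in the reduced case. -/
theorem balance_core (hO : pPrimeCore p G = ⊥)
    (hS : ∀ J : Subgroup G, IsComponent J → Group.IsSolvable (Cfsg.Out (↥J ⧸ Subgroup.center ↥J)))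
    (Q : Subgroup G) (hQ : IsPGroup p Q) (hPQ : pCore p G ≤ Q)
    (K : Subgroup ↥(Subgroup.normalizer (Q : Set G))) (hK : IsPComponent p K) :
    K.map (Subgroup.normalizer (Q : Set G)).subtype ≤ layer G := by
  revert K hK
  set M := Subgroup.normalizer (Q : Set G) with hM
  intro K hK
  set L := K.map M.subtype with hL
  have hLperf : ⁅L, L⁆ = L := by
    have hperf : ⁅K, K⁆ = K := pcomp_perfect (p := p) hK
    rw [hL, ← Subgroup.map_commutator, hperf]
  have hLQ : ∀ k ∈ L, ∀ q ∈ Q, k * q = q * k := by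
    rintro _ ⟨k, hk, rfl⟩ q hq
    haveI : (Q.subgroupOf M).Normal :=
      (Subgroup.normal_subgroupOf_iff_le_normalizer Subgroup.le_normalizer).mpr le_rfl
    have hle : Q.subgroupOf M ≤ pCore p ↥M :=
      le_pCore (hQ.of_equiv (Subgroup.subgroupOfEquivOfLe Subgroup.le_normalizer).symm)
    exact (congrArg Subtype.val (pcomp_centralizes_pCore hK hk ⟨q, Subgroup.le_normalizer hq⟩ (hle hq))).symm
  by_contra hLE
  haveI hNn : ((layer G).subgroupOf M).Normal := inferInstance
  have hKN : ⁅K, (layer G).subgroupOf M⁆ ≤ pPrimeCore p ↥M :=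
    (pcomp_le_or_commutator hK ((layer G).subgroupOf M)).resolve_left fun h =>
      hLE ((Subgroup.map_mono h).trans (by rw [Subgroup.subgroupOf_map_subtype]; exact inf_le_left))
  have horb : ∀ J, IsComponent J → ∀ k ∈ L, ∃ q ∈ Q, cj k J = cj q J := by
    intro J hJ k hk
    by_contra hne
    push Not at hne
    obtain ⟨x, hxE, hxN, ⟨n, hn⟩, b, hb, hxb⟩ := exists_noncentral_normalizing hO hQ hPQ hJ
    obtain ⟨k', hk', rfl⟩ := hk
    set k : G := M.subtype k' with hkdef
    have hkL : k ∈ L := ⟨k', hk', rfl⟩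
    set E := orbitSup Q J with hE
    have hcomm : cj k E ≤ Subgroup.centralizer (E : Set G) := by
      rw [hE, cj, Subgroup.map_iSup]
      refine iSup_le fun q => ?_
      rw [Subgroup.le_centralizer_iff]
      refine iSup_le fun r => ?_
      rw [← Subgroup.le_centralizer_iff, ← Subgroup.commutator_eq_bot_iff_le_centralizer]
      refine (components_eq_or_commute (isComponent_map_equiv (MulAut.conj k)
        (isComponent_map_equiv (MulAut.conj (q : G)) hJ))
        (isComponent_map_equiv (MulAut.conj (r : G)) hJ)).resolve_left fun e => ?_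
      refine hne ((q : G)⁻¹ * r) (Subgroup.mul_mem Q (Subgroup.inv_mem Q q.2) r.2) ?_
      have e' : cj k (cj (q : G) J) = cj (r : G) J := e
      rw [← cj_mul, hLQ k hkL q q.2, cj_mul] at e'
      rw [cj_mul (q : G)⁻¹ (r : G), ← e', ← cj_mul, inv_mul_cancel]
      ext z
      simp [cj]
    set y := k * x * k⁻¹ with hy
    have hyE : y ∈ cj k E := ⟨x, hxE, rfl⟩
    have hxy : Commute y x := (hcomm hyE x hxE).symm
    have hxl : x ∈ layer G := orbitSup_le_layer Q hJ hxE
    have hyx : y * x⁻¹ = 1 := by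
      have hmem : (⁅k', (⟨x, hxN⟩ : ↥M)⁆ : ↥M) ∈ pPrimeCore p ↥M :=
        hKN (Subgroup.commutator_mem_commutator hk' hxl)
      have e : ((⁅k', (⟨x, hxN⟩ : ↥M)⁆ : ↥M) : G) = y * x⁻¹ := by
        rw [commutatorElement_def]
        push_cast
        rfl
      have hpow : (y * x⁻¹) ^ p ^ n = 1 := by
        rw [hxy.inv_right.mul_pow, hy, conj_pow, hn, inv_pow, hn]
        group
      rw [← e, OneMemClass.coe_eq_one]
      refine orderOf_eq_one_iff.mp (Nat.eq_one_of_dvd_coprimes
        ((card_pPrimeCore_coprime (G := ↥M) p).pow_right n) (Subgroup.orderOf_dvd_natCard _ hmem) ?_)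
      exact orderOf_dvd_of_pow_eq_one (Subtype.ext (by push_cast; rw [e]; exact hpow))
    have hxy' : y = x := mul_inv_eq_one.mp hyx
    exact hxb ((hcomm (hxy' ▸ hyE) b hb).symm)
  have hfix : ∀ J, IsComponent J → L ≤ Subgroup.normalizer (J : Set G) := fun J hJ =>
    le_normalizer_of_orbit hQ hLperf hLQ (horb J hJ)
  have hLP : L ≤ Subgroup.centralizer (pCore p G : Set G) := by
    refine le_trans (Subgroup.map_mono ?_) (layer_preimage_centralizes Q hQ)
    rw [← Subgroup.map_le_iff_le_comap]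
    exact le_layer hK.2.1
  have hLF : L ≤ generalizedFittingSubgroup G := by
    intro k hk
    obtain ⟨e, he, hek⟩ := mem_sup_centralizer_of_inner (k := k) {J | IsComponent J} (Set.toFinite _)
      (fun J hJ => hJ) (fun J hJ => exists_inner_of_perfect hJ (hS J hJ) hLperf (hfix J hJ) hk)
    have heP : e ∈ Subgroup.centralizer (pCore p G : Set G) := fun f hf =>
      (comm_layer_fitting he (pCore_le_fittingSubgroup Fact.out hf)).symm
    have hc : e⁻¹ * k ∈ generalizedFittingSubgroup G := by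
      refine centralizer_generalizedFitting_le (Subgroup.le_centralizer_iff.mp ?_ (Subgroup.mem_zpowers _))
      refine sup_le (Subgroup.le_centralizer_iff.mpr (Subgroup.zpowers_le.mpr hek)) ?_
      rw [fitting_eq_pCore Fact.out hO]
      exact Subgroup.le_centralizer_iff.mpr
        (Subgroup.zpowers_le.mpr (Subgroup.mul_mem _ (Subgroup.inv_mem _ heP) (hLP hk)))
    have := Subgroup.mul_mem _ (layer_le_generalized he) hc
    rwa [mul_inv_cancel_left] at this
  refine hLE ?_
  rw [← derived_gfit]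
  refine le_iInf fun n => ?_
  induction n with
  | zero =>
    rw [derivedSeries_zero, ← MonoidHom.range_eq_map, Subgroup.range_subtype]
    exact hLF
  | succ n ih =>
    rw [derivedSeries_succ, Subgroup.map_commutator, ← hLperf]
    exact Subgroup.commutator_mono ih ih

/-- The balance theorem for groups with trivial `p'`-core. -/
theorem balance_reduced (hO : pPrimeCore p G = ⊥)
    (hS : ∀ J : Subgroup G, IsComponent J → Group.IsSolvable (Cfsg.Out (↥J ⧸ Subgroup.center ↥J)))
    (Q : Subgroup G) (hQ : IsPGroup p Q)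
    (K : Subgroup ↥(Subgroup.normalizer (Q : Set G))) (hK : IsPComponent p K) :
    K.map (Subgroup.normalizer (Q : Set G)).subtype ≤ layer G := by
  revert K hK
  set M := Subgroup.normalizer (Q : Set G) with hM
  intro K hK
  haveI : (pCore p G).Normal := Subgroup.sSup_normal _ (fun _ h => h.1)
  set Q' := Q ⊔ pCore p G with hQ'
  have hQ'p : IsPGroup p Q' := hQ.to_sup_of_normal_right (isPGroup_pCore p)
  set M' := Subgroup.normalizer (Q' : Set G) with hM'
  set C := Subgroup.centralizer (Q' : Set G) with hC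
  set L := K.map M.subtype with hL
  have hLP : L ≤ Subgroup.centralizer (pCore p G : Set G) := by
    refine le_trans (Subgroup.map_mono ?_) (layer_preimage_centralizes Q hQ)
    rw [← Subgroup.map_le_iff_le_comap]
    exact le_layer hK.2.1
  have hLC : L ≤ C := by
    rw [hC, Subgroup.le_centralizer_iff]
    refine sup_le ?_ (Subgroup.le_centralizer_iff.mp hLP)
    rw [Subgroup.le_centralizer_iff]
    rintro _ ⟨k, hk, rfl⟩ q hq
    haveI : (Q.subgroupOf M).Normal :=
      (Subgroup.normal_subgroupOf_iff_le_normalizer Subgroup.le_normalizer).mpr le_rfl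
    have hle : Q.subgroupOf M ≤ pCore p ↥M :=
      le_pCore (hQ.of_equiv (Subgroup.subgroupOfEquivOfLe Subgroup.le_normalizer).symm)
    exact congrArg Subtype.val (pcomp_centralizes_pCore hK hk ⟨q, Subgroup.le_normalizer hq⟩ (hle hq))
  have hMM' : M ≤ M' := fun g hg => mem_normalizer_of_maps fun x hx => by
    have hle : Q' ≤ Q'.comap (MulAut.conj g).toMonoidHom := sup_le
      (fun y hy => Subgroup.mem_sup_left ((Subgroup.mem_normalizer_iff.mp hg y).mp hy))
      (fun y hy => Subgroup.mem_sup_right ((inferInstance : (pCore p G).Normal).conj_mem y hy g))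
    exact hle hx
  have hCM : C ≤ M :=
    (Subgroup.centralizer_le (le_sup_left : Q ≤ Q')).trans (centralizer_le_normalizer' Q)
  have hCM' : C ≤ M' := centralizer_le_normalizer' Q'
  haveI hn' : (C.subgroupOf M').Normal := by
    refine ⟨fun c hc g => ?_⟩
    intro y hy
    show y * ((g : G) * c * (g : G)⁻¹) = (g : G) * c * (g : G)⁻¹ * y
    have h1 := hc ((g : G)⁻¹ * y * g) (by
      simpa using (Subgroup.mem_normalizer_iff.mp (Subgroup.inv_mem _ g.2) y).mp hy)
    calc y * ((g : G) * c * (g : G)⁻¹) = (g : G) * ((g : G)⁻¹ * y * g * c) * (g : G)⁻¹ := by group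
      _ = (g : G) * ((c : G) * ((g : G)⁻¹ * y * g)) * (g : G)⁻¹ := by
        rw [show ((g : G)⁻¹ * y * g) * (c : G) = c * ((g : G)⁻¹ * y * g) from h1]
      _ = (g : G) * c * (g : G)⁻¹ * y := by group
  haveI hn : (C.subgroupOf M).Normal :=
    (Subgroup.normal_subgroupOf_iff_le_normalizer hCM).mpr
      (hMM'.trans ((Subgroup.normal_subgroupOf_iff_le_normalizer hCM').mp hn'))
  have h1 : IsPComponent p (K.subgroupOf (C.subgroupOf M)) :=
    (isPComponent_subgroupOf_iff (C.subgroupOf M) (fun k hk => hLC ⟨k, hk, rfl⟩)).mpr hK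
  let e : ↥(C.subgroupOf M) ≃* ↥(C.subgroupOf M') :=
    (Subgroup.subgroupOfEquivOfLe hCM).trans (Subgroup.subgroupOfEquivOfLe hCM').symm
  have h2 := isPComponent_map_surjective e.toMonoidHom e.surjective
    (by rw [(MonoidHom.ker_eq_bot_iff e.toMonoidHom).mpr e.injective]; exact bot_le) h1
  set K' : Subgroup ↥M' := L.subgroupOf M' with hK'
  have hle' : K' ≤ C.subgroupOf M' := fun x hx => hLC hx
  have h3 : (K.subgroupOf (C.subgroupOf M)).map e.toMonoidHom = K'.subgroupOf (C.subgroupOf M') := by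
    ext ⟨⟨x, hxM⟩, hxC⟩
    rw [Subgroup.mem_map_equiv]
    constructor
    · intro hx; exact ⟨_, hx, rfl⟩
    · rintro ⟨k, hk, hkx⟩
      have : ((e.symm ⟨⟨x, hxM⟩, hxC⟩ : ↥(C.subgroupOf M)) : ↥M) = k := Subtype.ext hkx.symm
      show ((e.symm ⟨⟨x, hxM⟩, hxC⟩ : ↥(C.subgroupOf M)) : ↥M) ∈ K
      rw [this]; exact hk
  rw [h3] at h2
  have h4 := balance_core hO hS Q' hQ'p le_sup_right K' ((isPComponent_subgroupOf_iff (C.subgroupOf M') hle').mp h2)
  rwa [hK', Subgroup.map_subgroupOf_eq_of_le (hLC.trans hCM')] at h4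

/-- `L_{p'}`-balance. -/
theorem pLayer_balance
    (hS : ∀ J : Subgroup (G ⧸ pPrimeCore p G), IsComponent J →
      Group.IsSolvable (Cfsg.Out (↥J ⧸ Subgroup.center ↥J)))
    (R : Subgroup G) (hR : IsPGroup p R) :
    (pLayer p ↥(Subgroup.normalizer (R : Set G))).map (Subgroup.normalizer (R : Set G)).subtype ≤ pLayer p G := by
  set N := Subgroup.normalizer (R : Set G) with hN
  set Rb := R.map (bar p G) with hRb
  set Nb := Subgroup.normalizer (Rb : Set (G ⧸ pPrimeCore p G)) with hNb
  have hNN : N.map (bar p G) = Nb := by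
    refine le_antisymm ?_ ?_
    · rintro _ ⟨y, hy, rfl⟩
      refine mem_normalizer_of_maps ?_
      rintro _ ⟨x, hx, rfl⟩
      exact ⟨_, (Subgroup.mem_normalizer_iff.mp hy x).mp hx, by rw [map_mul, map_mul, map_inv]⟩
    · intro z hz
      obtain ⟨y, rfl⟩ := bar_surjective p z
      obtain ⟨y', hy', e⟩ := exists_centralizing_lift hR y hz
      exact ⟨y', hy', e⟩
  let f : N →* Nb := ((bar p G).comp N.subtype).codRestrict Nb (fun h => hNN ▸ Subgroup.mem_map_of_mem _ h.2)
  have hf : Function.Surjective f := by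
    rintro ⟨z, hz⟩
    rw [← hNN] at hz
    obtain ⟨y, hy, rfl⟩ := hz
    exact ⟨⟨y, hy⟩, rfl⟩
  have hker : f.ker ≤ pPrimeCore p ↥N := by
    refine le_pPrimeCore ?_
    rw [← Subgroup.card_map_of_injective N.subtype_injective]
    refine Nat.Coprime.coprime_dvd_left (Subgroup.card_dvd_of_le ?_) (card_pPrimeCore_coprime (G := G) p)
    rintro _ ⟨x, hx, rfl⟩
    rw [← QuotientGroup.eq_one_iff]
    exact congrArg Subtype.val (MonoidHom.mem_ker.mp hx)
  rw [Subgroup.map_le_iff_le_comap]
  refine sSup_le fun K hK => ?_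
  rw [← Subgroup.map_le_iff_le_comap]
  have h1 := balance_reduced (pPrimeCore_quotient_eq_bot p) hS Rb (hR.map _) (K.map f)
    (isPComponent_map_surjective f hf hker hK)
  have h2 : K.map N.subtype ≤ pLayer p G ⊔ pPrimeCore p G := by
    rw [← QuotientGroup.ker_mk' (pPrimeCore p G), ← Subgroup.comap_map_eq, map_pLayer,
      ← Subgroup.map_le_iff_le_comap, Subgroup.map_map]
    refine le_trans (le_of_eq ?_) h1
    rw [Subgroup.map_map]
    rfl
  calc K.map N.subtype = pEl p (K.map N.subtype) := by rw [pEl_map_subtype, pcomp_pEl hK]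
    _ ≤ pEl p (pLayer p G ⊔ pPrimeCore p G) := pEl_mono h2
    _ ≤ pLayer p G := pEl_sup_core_le _

end CfsgLib.Comp
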