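import Cfsg.Agent.Lib.Comp.PC
import Cfsg.Agent.Lib.Comp.Balance
import Mathlib.GroupTheory.NoncommPiCoprod

/-!
An element `x` of order `p` that moves or centralises a component makes `O_{p'}(C(x))` centralise it.
-/

set_option autoImplicit false
set_option linter.unusedSectionVars false

namespace CfsgLib.Comp

open Cfsg Subgroup
open scoped commutatorElement

universe u
variable {G : Type u} [Group G] [Finite G] {p : ℕ} [Fact p.Prime]

/-- Homomorphisms out of a finite product agree when they agree on the factors. -/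
theorem pi_hom_ext {M : Type*} [Monoid M] {ι : Type*} [Fintype ι] [DecidableEq ι] {N : ι → Type*}
    [∀ i, Monoid (N i)] (g h : (∀ i, N i) →* M) (H : ∀ i y, g (Pi.mulSingle i y) = h (Pi.mulSingle i y)) : g = h :=
  MonoidHom.noncommPiCoprodEquiv.symm.injective (Subtype.ext (funext fun i => MonoidHom.ext (H i)))

/-- A component has order divisible by `p` when `O_{p'}(G) = 1`. -/
theorem not_le_pPrime_of_component (hO : pPrimeCore p G = ⊥) {L : Subgroup G} (hL : IsComponent L)
    {A : Subgroup G} (hA : (Nat.card A).Coprime p) : ¬ L ≤ A := by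
  intro h
  have h1 := subnormal_coprime_le (p := p) hL.1 (Nat.Coprime.coprime_dvd_left (Subgroup.card_dvd_of_le h) hA)
  rw [hO] at h1
  exact isComponent_ne_bot hL (le_bot_iff.mp h1)

/-- Endomorphism-free form of the three subgroups lemma: a subgroup moving a component into its centre
centralises it. -/
theorem centralizes_of_commutator_le_center {L : Subgroup G} (hL : IsComponent L) {X : Subgroup G}
    (h : ⁅X, L⁆ ≤ (Subgroup.center ↥L).map L.subtype) : ⁅L, X⁆ = ⊥ := by
  have hZL : ⁅(Subgroup.center ↥L).map L.subtype, L⁆ = ⊥ := by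
    rw [Subgroup.commutator_eq_bot_iff_le_centralizer]
    rintro _ ⟨z, hz, rfl⟩ y hy
    exact congrArg Subtype.val (Subgroup.mem_center_iff.mp hz ⟨y, hy⟩)
  have h2 : ⁅⁅X, L⁆, L⁆ = ⊥ := le_bot_iff.mp (hZL ▸ Subgroup.commutator_mono h le_rfl)
  have h1 : ⁅⁅L, X⁆, L⁆ = ⊥ := by rwa [Subgroup.commutator_comm L X]
  have h3 := Subgroup.commutator_commutator_eq_bot_of_rotate h1 h2
  rwa [show ⁅L, L⁆ = L from Subgroup.isPerfect_iff.mp hL.2.1] at h3

theorem commutator_zpowers_eq_bot_of_ne {L : Subgroup G} (hL : IsComponent L) {x : G}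
    (hxL : x ∈ Subgroup.normalizer (L : Set G)) (hne : ⁅L, Subgroup.zpowers x⁆ ≠ L) :
    ⁅L, Subgroup.zpowers x⁆ = ⊥ := by
  set X := Subgroup.zpowers x with hX
  have hXL : X ≤ Subgroup.normalizer (L : Set G) := Subgroup.zpowers_le.mpr hxL
  have hle : ⁅L, X⁆ ≤ L := CfsgLib.commutator_le_of_le_normalizer hXL
  haveI : (⁅L, X⁆.subgroupOf L).Normal :=
    (Subgroup.normal_subgroupOf_iff_le_normalizer hle).mpr (CfsgLib.left_le_normalizer_commutator X L)
  rcases quasisimple_normal_le_center_or_eq_top hL.2 (⁅L, X⁆.subgroupOf L) with h | h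
  · refine centralizes_of_commutator_le_center hL ?_
    rw [Subgroup.commutator_comm]
    calc ⁅L, X⁆ = (⁅L, X⁆.subgroupOf L).map L.subtype := (Subgroup.map_subgroupOf_eq_of_le hle).symm
      _ ≤ _ := Subgroup.map_mono h
  · exact absurd (le_antisymm hle (Subgroup.subgroupOf_eq_top.mp h)) hne

/-- If an element `x` of order `p` centralises or moves a component, `O_{p'}(C(x))` centralises it. -/
theorem centralizerCore_centralizes (hO : pPrimeCore p G = ⊥) {x : G} (hx : orderOf x = p) {L : Subgroup G}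
    (hL : IsComponent L) (hne : ⁅L, Subgroup.zpowers x⁆ ≠ L) : ⁅L, centralizerPPrimeCore p x⁆ = ⊥ := by
  have hp : p.Prime := Fact.out
  set C := Subgroup.centralizer ({x} : Set G) with hC
  set D := centralizerPPrimeCore p x with hD
  have hDC : D ≤ C := Subgroup.map_subtype_le _
  have hDp : (Nat.card D).Coprime p := by
    rw [hD, centralizerPPrimeCore, Subgroup.card_map_of_injective C.subtype_injective]
    exact card_pPrimeCore_coprime p
  have hDn : ∀ c ∈ C, ∀ d ∈ D, c * d * c⁻¹ ∈ D := by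
    rintro c hc _ ⟨d, hd, rfl⟩
    exact ⟨⟨c, hc⟩ * d * ⟨c, hc⟩⁻¹, (inferInstance : (pPrimeCore p ↥C).Normal).conj_mem d hd _, rfl⟩
  by_cases hxL : x ∈ Subgroup.normalizer (L : Set G)
  · -- `x` centralises `L`
    have h0 := commutator_zpowers_eq_bot_of_ne hL hxL hne
    have hLC : L ≤ C := fun l hl => Subgroup.mem_centralizer_singleton_iff.mpr
      (comm_of_commutator_eq_bot h0 hl (Subgroup.mem_zpowers x))
    rcases component_le_or_commutator_eq_bot (isComponent_subgroupOf hL hLC) (pPrimeCore p ↥C) with h | h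
    · refine absurd ?_ (not_le_pPrime_of_component hO hL hDp)
      rw [← Subgroup.map_subgroupOf_eq_of_le hLC]
      exact Subgroup.map_mono h
    · have h1 := congrArg (Subgroup.map C.subtype) h
      rwa [Subgroup.map_commutator, Subgroup.map_subgroupOf_eq_of_le hLC, Subgroup.map_bot] at h1
  -- the orbit of `L` has `p` members
  haveI : NeZero p := ⟨hp.ne_zero⟩
  have hdist : ∀ i j : Fin p, i ≠ j → cj (x ^ (i : ℕ)) L ≠ cj (x ^ (j : ℕ)) L := by
    have key : ∀ i j : ℕ, i < j → j < p → cj (x ^ i) L ≠ cj (x ^ j) L := by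
      intro i j hij hj e
      refine hxL ?_
      have h1 := mem_normalizer_of_cj (cj_inv_eq e.symm)
      rw [show (x ^ i)⁻¹ * x ^ j = x ^ (j - i) by
        rw [show j = i + (j - i) by omega, pow_add, inv_mul_cancel_left, Nat.add_sub_cancel_left]] at h1
      obtain ⟨m, hm⟩ := exists_pow_eq_self_of_coprime (x := x) (n := j - i) (by
        rw [hx]
        exact (hp.coprime_iff_not_dvd.mpr (fun h => by
          have := Nat.le_of_dvd (by omega) h; omega)).symm)
      rw [← hm]
      exact Subgroup.pow_mem _ h1 m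
    intro i j hij e
    rcases lt_or_gt_of_ne (Fin.val_ne_of_ne hij) with h | h
    · exact key _ _ h j.2 e
    · exact key _ _ h i.2 e.symm
  have hcomp : ∀ g : G, IsComponent (cj g L) := fun g => isComponent_map_equiv (MulAut.conj g) hL
  let φ : Fin p → (↥L →* G) := fun i => (MulAut.conj (x ^ (i : ℕ))).toMonoidHom.comp L.subtype
  have hφmem : ∀ (i : Fin p) (a : ↥L), φ i a ∈ cj (x ^ (i : ℕ)) L := fun i a => ⟨a, a.2, rfl⟩
  have hcomm : Pairwise fun i j : Fin p => ∀ a b : ↥L, Commute (φ i a) (φ j b) := fun i j hij a b =>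
    comm_of_commutator_eq_bot ((components_eq_or_commute (hcomp _) (hcomp _)).resolve_left (hdist i j hij))
      (hφmem i a) (hφmem j b)
  let Φ : (Fin p → ↥L) →* G := MonoidHom.noncommPiCoprod φ hcomm
  let diag : ↥L →* (Fin p → ↥L) := MonoidHom.pi fun _ => MonoidHom.id ↥L
  let δ : ↥L →* G := Φ.comp diag
  set E := ⨆ i : Fin p, cj (x ^ (i : ℕ)) L with hE
  have hδE : ∀ a, δ a ∈ E := by
    intro a
    have h : δ a ∈ Φ.range := ⟨diag a, rfl⟩
    rw [MonoidHom.noncommPiCoprod_range] at h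
    have hle : (⨆ i : Fin p, (φ i).range) ≤ E := iSup_mono fun i => by rintro _ ⟨b, rfl⟩; exact hφmem i b
    exact hle h
  have hφ0 : ∀ b : ↥L, φ 0 b = b := fun b => by simp [φ]
  -- commutators with the diagonal
  have hcd : ∀ a b : ↥L, ⁅(b : G), δ a⁆ = ((⁅b, a⁆ : ↥L) : G) := by
    intro a b
    have e : (b : G) = Φ (Pi.mulSingle 0 b) :=
      ((MonoidHom.noncommPiCoprod_mulSingle φ (hcomm := hcomm) 0 b).trans (hφ0 b)).symm
    rw [e, show δ a = Φ (diag a) from rfl, ← map_commutatorElement,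
      show ⁅(Pi.mulSingle 0 b : Fin p → ↥L), diag a⁆ = Pi.mulSingle 0 ⁅b, a⁆ from by
        funext k
        by_cases hk : k = 0
        · subst hk; simp [commutatorElement_def, diag]
        · simp [commutatorElement_def, diag, Pi.mulSingle_eq_of_ne hk],
      MonoidHom.noncommPiCoprod_mulSingle, hφ0]
  have hδx : ∀ a, x * δ a = δ a * x := by
    intro a
    let ψ : (Fin p → ↥L) →* (Fin p → ↥L) := MonoidHom.pi fun i => Pi.evalMonoidHom (fun _ : Fin p => ↥L) (i - 1)
    have h : (MulAut.conj x).toMonoidHom.comp Φ = Φ.comp ψ := by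
      refine pi_hom_ext _ _ fun i b => ?_
      have hψ : ψ (Pi.mulSingle i b) = Pi.mulSingle (i + 1) b := by
        funext k
        show (Pi.mulSingle i b : Fin p → ↥L) (k - 1) = _
        by_cases hk : k = i + 1
        · subst hk; simp
        · rw [Pi.mulSingle_eq_of_ne hk, Pi.mulSingle_eq_of_ne]
          exact fun e => hk (sub_eq_iff_eq_add.mp e)
      show x * Φ (Pi.mulSingle i b) * x⁻¹ = Φ (ψ (Pi.mulSingle i b))
      rw [hψ, MonoidHom.noncommPiCoprod_mulSingle, MonoidHom.noncommPiCoprod_mulSingle]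
      have hpow : x ^ ((i + 1 : Fin p) : ℕ) = x * x ^ (i : ℕ) := by
        rw [← pow_succ', ← pow_mod_orderOf x ((i : ℕ) + 1), hx, Fin.val_add, Fin.val_one', Nat.add_mod_mod]
      show x * (x ^ (i : ℕ) * (b : G) * (x ^ (i : ℕ))⁻¹) * x⁻¹ =
        x ^ ((i + 1 : Fin p) : ℕ) * (b : G) * (x ^ ((i + 1 : Fin p) : ℕ))⁻¹
      rw [hpow]
      group
    have h1 : x * δ a * x⁻¹ = δ a := by
      have := DFunLike.congr_fun h (diag a)
      exact this
    exact mul_inv_eq_iff_eq_mul.mp h1
  have hδC : ∀ a, δ a ∈ C := fun a => Subgroup.mem_centralizer_singleton_iff.mpr (hδx a).symm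
  have hDx : ∀ d ∈ D, Commute d x := fun d hd => Subgroup.mem_centralizer_singleton_iff.mp (hDC hd)
  have hcommD : ∀ d ∈ D, ∀ a, ⁅d, δ a⁆ ∈ D := by
    intro d hd a
    rw [commutatorElement_def, show d * δ a * d⁻¹ * (δ a)⁻¹ = d * (δ a * d⁻¹ * (δ a)⁻¹) by group]
    exact mul_mem hd (hDn _ (hδC a) _ (inv_mem hd))
  -- `D` permutes the orbit
  have horb : ∀ d ∈ D, ∃ i : Fin p, cj d L = cj (x ^ (i : ℕ)) L := by
    intro d hd
    by_contra hne'
    push Not at hne'
    have hEc : E ≤ Subgroup.centralizer ((cj d E : Subgroup G) : Set G) := by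
      refine iSup_le fun i => ?_
      rw [Subgroup.le_centralizer_iff, cj, hE, Subgroup.map_iSup]
      refine iSup_le fun j => ?_
      rw [← Subgroup.commutator_eq_bot_iff_le_centralizer]
      refine (components_eq_or_commute (isComponent_map_equiv (MulAut.conj d) (hcomp _)) (hcomp _)).resolve_left ?_
      intro e
      have e' : cj d (cj (x ^ (j : ℕ)) L) = cj (x ^ (i : ℕ)) L := e
      rw [← cj_mul, ((hDx d hd).pow_right (j : ℕ)).eq, cj_mul] at e'
      refine hne' (i - j) ?_
      have hk : x ^ ((i - j : Fin p) : ℕ) * x ^ (j : ℕ) = x ^ (i : ℕ) := by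
        rw [← pow_add, ← pow_mod_orderOf, hx, ← Fin.val_add, sub_add_cancel]
      refine Subgroup.map_injective (f := (MulAut.conj (x ^ (j : ℕ))).toMonoidHom) (MulAut.conj (x ^ (j : ℕ))).injective ?_
      show cj (x ^ (j : ℕ)) (cj d L) = cj (x ^ (j : ℕ)) (cj (x ^ ((i - j : Fin p) : ℕ)) L)
      rw [e', ← cj_mul, (Commute.pow_pow_self x (j : ℕ) ((i - j : Fin p) : ℕ)).eq, hk]
    have hcen : ∀ l : ↥L, ∀ k : ℕ, (l : G) ^ p ^ k = 1 → ∀ b : ↥L, b * l = l * b := by
      intro l k hk b
      have hy : d * δ l * d⁻¹ ∈ cj d E := ⟨δ l, hδE l, rfl⟩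
      have hc : Commute (δ l) (d * δ l * d⁻¹) := (hEc (hδE l) _ hy).symm
      have hpow : δ l ^ p ^ k = 1 := by
        rw [← map_pow, show l ^ p ^ k = 1 from Subtype.ext (by push_cast; exact hk), map_one]
      have hone : ⁅d, δ l⁆ = 1 := pElement_eq_one_of_coprime hDp (hcommD d hd l) (n := k) (by
        rw [commutatorElement_def, hc.symm.inv_right.mul_pow, conj_pow, hpow, inv_pow, hpow]; group)
      have hdl : d * δ l * d⁻¹ = δ l := mul_inv_eq_one.mp hone
      have hb : (b : G) ∈ E := (le_iSup (fun i : Fin p => cj (x ^ (i : ℕ)) L) 0) (hφ0 b ▸ hφmem 0 b)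
      have h2 : ⁅(b : G), δ l⁆ = 1 := commutatorElement_eq_one_iff_mul_comm.mpr ((hEc hb _ (hdl ▸ hy)).symm)
      rw [hcd, OneMemClass.coe_eq_one, commutatorElement_eq_one_iff_mul_comm] at h2
      exact h2
    refine isQuasisimple_not_isSolvable hL.2 (Group.isSolvable_of_comm fun a b => ?_)
    have hle : pEl p L ≤ Subgroup.centralizer (L : Set G) := by
      rw [pEl, Subgroup.closure_le]
      rintro y ⟨hy, k, hk⟩ z hz
      exact congrArg Subtype.val (hcen ⟨y, hy⟩ k hk ⟨z, hz⟩)
    rw [component_pEl_self hO hL] at hle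
    exact Subtype.ext (hle a.2 b b.2).symm
  have hDN : D ≤ Subgroup.normalizer (L : Set G) := by
    intro d hd
    obtain ⟨i, hi⟩ := horb d hd
    have h1 := mem_normalizer_of_cj (cj_inv_eq hi)
    have h2 := Subgroup.pow_mem _ h1 p
    have hc : Commute (x ^ (i : ℕ))⁻¹ d := ((hDx d hd).symm.pow_left (i : ℕ)).inv_left
    rw [hc.mul_pow, inv_pow, ← pow_mul, mul_comm, pow_mul, show x ^ p = 1 from hx ▸ pow_orderOf_eq_one x,
      one_pow, inv_one, one_mul] at h2
    obtain ⟨m, hm⟩ := exists_pow_eq_self_of_coprime (x := d) (n := p)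
      ((Nat.Coprime.coprime_dvd_left (Subgroup.orderOf_dvd_natCard _ hd) hDp).symm)
    rw [← hm]
    exact Subgroup.pow_mem _ h2 m
  -- conjugation by `d` on the diagonal
  have hconj : ∀ d (hd : d ∈ D) (a : ↥L), d * δ a * d⁻¹ = δ (L.normalizerMonoidHom ⟨d, hDN hd⟩ a) := by
    intro d hd a
    have h : (MulAut.conj d).toMonoidHom.comp Φ = Φ.comp (MonoidHom.pi fun i =>
        (L.normalizerMonoidHom ⟨d, hDN hd⟩).toMonoidHom.comp (Pi.evalMonoidHom (fun _ : Fin p => ↥L) i)) := by
      refine pi_hom_ext _ _ fun i b => ?_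
      have hψ : (MonoidHom.pi fun k => (L.normalizerMonoidHom ⟨d, hDN hd⟩).toMonoidHom.comp
          (Pi.evalMonoidHom (fun _ : Fin p => ↥L) k)) (Pi.mulSingle i b) =
          Pi.mulSingle i (L.normalizerMonoidHom ⟨d, hDN hd⟩ b) := by
        funext k
        show L.normalizerMonoidHom ⟨d, hDN hd⟩ ((Pi.mulSingle i b : Fin p → ↥L) k) = _
        by_cases hk : k = i
        · subst hk; simp
        · rw [Pi.mulSingle_eq_of_ne hk, Pi.mulSingle_eq_of_ne hk, map_one]
      rw [MonoidHom.comp_apply, MonoidHom.comp_apply, hψ, MonoidHom.noncommPiCoprod_mulSingle,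
        MonoidHom.noncommPiCoprod_mulSingle]
      show d * (x ^ (i : ℕ) * b * (x ^ (i : ℕ))⁻¹) * d⁻¹ = x ^ (i : ℕ) * (d * b * d⁻¹) * (x ^ (i : ℕ))⁻¹
      have hc := (hDx d hd).pow_right (i : ℕ)
      calc d * (x ^ (i : ℕ) * b * (x ^ (i : ℕ))⁻¹) * d⁻¹
          = d * x ^ (i : ℕ) * b * ((x ^ (i : ℕ))⁻¹ * d⁻¹) := by group
        _ = x ^ (i : ℕ) * d * b * (d⁻¹ * (x ^ (i : ℕ))⁻¹) := by rw [hc.eq, hc.inv_inv.eq]
        _ = _ := by group
    exact DFunLike.congr_fun h (diag a)
  have hker : ∀ a : ↥L, δ a ∈ pPrimeCore p G ∨ δ a = 1 → a ∈ Subgroup.center ↥L := by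
    rintro a (h | h)
    · rw [hO, Subgroup.mem_bot] at h
      refine Subgroup.mem_center_iff.mpr fun b => commutatorElement_eq_one_iff_mul_comm.mp (Subtype.ext ?_)
      rw [← hcd a b, h, commutatorElement_one_right]
      rfl
    · refine Subgroup.mem_center_iff.mpr fun b => commutatorElement_eq_one_iff_mul_comm.mp (Subtype.ext ?_)
      rw [← hcd a b, h, commutatorElement_one_right]
      rfl
  -- the preimage of `D` under the diagonal is central
  set W := D.comap δ with hW
  haveI : W.Normal := ⟨fun a ha b => by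
    show δ (b * a * b⁻¹) ∈ D
    rw [map_mul, map_mul, map_inv]
    exact hDn _ (hδC b) _ ha⟩
  have hWZ : W ≤ Subgroup.center ↥L := by
    rcases quasisimple_normal_le_center_or_eq_top hL.2 W with h | h
    · exact h
    exfalso
    refine isQuasisimple_not_isSolvable hL.2 (Group.isSolvable_of_comm fun a b => ?_)
    have hle : pEl p L ≤ (Subgroup.center ↥L).map L.subtype := by
      rw [pEl, Subgroup.closure_le]
      rintro y ⟨hy, k, hk⟩
      refine ⟨⟨y, hy⟩, hker ⟨y, hy⟩ (Or.inr ?_), rfl⟩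
      refine pElement_eq_one_of_coprime hDp (show δ ⟨y, hy⟩ ∈ D from (h ▸ Subgroup.mem_top _ : (⟨y, hy⟩ : ↥L) ∈ W))
        (n := k) ?_
      rw [← map_pow, show (⟨y, hy⟩ : ↥L) ^ p ^ k = 1 from Subtype.ext hk, map_one]
    rw [component_pEl_self hO hL] at hle
    obtain ⟨z, hz, e⟩ := hle a.2
    rw [← (Subtype.ext e : z = a)]
    exact ((Subgroup.mem_center_iff.mp hz) b).symm
  refine centralizes_of_commutator_le_center hL ?_
  rw [Subgroup.commutator_le]
  intro d hd l hl
  refine ⟨L.normalizerMonoidHom ⟨d, hDN hd⟩ ⟨l, hl⟩ * (⟨l, hl⟩)⁻¹, hWZ ?_, rfl⟩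
  show δ _ ∈ D
  rw [map_mul, map_inv, ← hconj d hd]
  exact hcommD d hd _

end CfsgLib.Comp
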