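import Cfsg.Agent.Lib.Comp.Layer

/-!
The derived series of `F*`, coverage of the layer by commutators, the order bound for `F*`.
-/

set_option autoImplicit false

namespace CfsgLib.Comp

open Cfsg Subgroup
open scoped commutatorElement Nat

universe u
variable {G : Type u} [Group G]

theorem commutator_sup_le_layer (A : Subgroup G) : ⁅layer G ⊔ A, layer G ⊔ A⁆ ≤ layer G ⊔ ⁅A, A⁆ := by
  have hm : (layer G).map (QuotientGroup.mk' (layer G)) = ⊥ := QuotientGroup.map_mk'_self _
  have h : (layer G ⊔ ⁅A, A⁆) =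
      ((layer G ⊔ ⁅A, A⁆).map (QuotientGroup.mk' (layer G))).comap (QuotientGroup.mk' (layer G)) := by
    rw [Subgroup.comap_map_eq, QuotientGroup.ker_mk', sup_eq_left.mpr le_sup_left]
  rw [h, ← Subgroup.map_le_iff_le_comap, Subgroup.map_commutator, Subgroup.map_sup, Subgroup.map_sup,
    Subgroup.map_commutator, hm, bot_sup_eq, bot_sup_eq]

theorem derived_gfit [Finite G] :
    (⨅ n : ℕ, (derivedSeries ↥(generalizedFittingSubgroup G) n).map (generalizedFittingSubgroup G).subtype) =
      layer G := by
  set X := generalizedFittingSubgroup G with hX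
  set F := fittingSubgroup G with hF
  set d : ℕ → Subgroup G := fun n => (derivedSeries ↥X n).map X.subtype with hd
  have hsucc : ∀ n, d (n + 1) = ⁅d n, d n⁆ := fun n => by
    simp only [hd, derivedSeries_succ, Subgroup.map_commutator]
  have h0 : d 0 = X := by
    simp only [hd, derivedSeries_zero]
    rw [← MonoidHom.range_eq_map, Subgroup.range_subtype]
  refine le_antisymm ?_ (le_iInf fun n => ?_)
  · have hle : ∀ n, d n ≤ layer G ⊔ (derivedSeries ↥F n).map F.subtype := by
      intro n
      induction n with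
      | zero =>
        rw [h0, derivedSeries_zero, ← MonoidHom.range_eq_map, Subgroup.range_subtype]
        exact le_of_eq rfl
      | succ n ih =>
        rw [hsucc, derivedSeries_succ, Subgroup.map_commutator]
        exact (Subgroup.commutator_mono ih ih).trans (commutator_sup_le_layer _)
    haveI := isNilpotent_fittingSubgroup (G := G)
    have hsol : Group.IsSolvable F := inferInstance
    obtain ⟨m, hm⟩ := (Group.isSolvable_def F).mp hsol
    refine (iInf_le _ m).trans ((hle m).trans ?_)
    rw [hm, Subgroup.map_bot, sup_bot_eq]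
  · show layer G ≤ d n
    induction n with
    | zero => rw [h0]; exact layer_le_generalized
    | succ n ih =>
      rw [hsucc, ← layer_commutator_self]
      exact Subgroup.commutator_mono ih ih

theorem layer_eq_fixed_sup [Finite G] (U : Subgroup G) :
    layer G = (layer G ⊓ Subgroup.centralizer (U : Set G)) ⊔ ⁅layer G, U⁆ ∧ ⁅layer G, U⁆ ≤ layer G := by
  have hle : ⁅layer G, U⁆ ≤ layer G :=
    (Subgroup.commutator_mono le_rfl le_top).trans (Subgroup.commutator_le_left _ _)
  refine ⟨le_antisymm ?_ (sup_le inf_le_left hle), hle⟩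
  refine sSup_le fun K hK => ?_
  set M := ⁅layer G, U⁆ with hM
  haveI : (M.subgroupOf (layer G)).Normal :=
    (Subgroup.normal_subgroupOf_iff_le_normalizer hle).mpr (left_le_normalizer_commutator U (layer G))
  have hMsn : M.IsSubnormal := by
    have h1 := (Subgroup.Normal.isSubnormal (H := M.subgroupOf (layer G)) inferInstance).trans'
      (Subgroup.Normal.isSubnormal (H := layer G) inferInstance)
    rwa [Subgroup.map_subgroupOf_eq_of_le hle] at h1
  rcases exists_split_of_subnormal hMsn hK with hKM | hKM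
  · exact le_sup_of_le_right hKM
  refine le_sup_of_le_left (le_inf (le_layer hK) ?_)
  -- `K` commutes with every `[k, u]`
  intro k hk u hu
  by_cases hsame : K.map (MulAut.conj u).toMonoidHom = K
  · have hmem : ∀ a : K, u * a * u⁻¹ ∈ K := fun a => (Subgroup.ext_iff.mp hsame _).mp ⟨a, a.2, rfl⟩
    have hm : ∀ a : K, u * a * u⁻¹ * (a : G)⁻¹ ∈ M := fun a => by
      have := inv_mem (Subgroup.commutator_mem_commutator (le_layer hK a.2) hu)
      simpa [hM, commutatorElement_def, mul_assoc] using this
    have hcK : ∀ (a : K) (b : K), (b : G) * (u * a * u⁻¹ * (a : G)⁻¹) = u * a * u⁻¹ * (a : G)⁻¹ * b :=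
      fun a b => comm_of_commutator_eq_bot hKM b.2 (hm a)
    let f : K →* G :=
      { toFun := fun a => u * a * u⁻¹ * (a : G)⁻¹
        map_one' := by simp
        map_mul' := fun a b => by
          have h := hcK b a⁻¹
          push_cast at h
          calc u * ((a * b : K) : G) * u⁻¹ * ((a * b : K) : G)⁻¹
              = u * a * u⁻¹ * ((u * b * u⁻¹ * (b : G)⁻¹) * (a : G)⁻¹) := by push_cast; group
            _ = u * a * u⁻¹ * ((a : G)⁻¹ * (u * b * u⁻¹ * (b : G)⁻¹)) := by
                rw [← h]
            _ = u * a * u⁻¹ * (a : G)⁻¹ * (u * b * u⁻¹ * (b : G)⁻¹) := by group }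
    have h1 : f ⟨k, hk⟩ = 1 := hom_component_trivial hK (fun a b =>
      hcK b ⟨f a, mul_mem (hmem a) (inv_mem a.2)⟩) ⟨k, hk⟩
    exact (mul_inv_eq_iff_eq_mul.mp (mul_inv_eq_one.mp h1))
  · exfalso
    have hK' : IsComponent (K.map (MulAut.conj u).toMonoidHom) := isComponent_map_equiv (MulAut.conj u) hK
    have hc := (components_eq_or_commute hK' hK).resolve_left hsame
    refine isQuasisimple_not_isSolvable hK.2 (Group.isSolvable_of_comm fun a b => Subtype.ext ?_)
    have h1 : (u * a * u⁻¹) * (b : G) = b * (u * a * u⁻¹) := comm_of_commutator_eq_bot hc ⟨a, a.2, rfl⟩ b.2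
    have h2 : (b : G) * (u * a * u⁻¹ * (a : G)⁻¹) = u * a * u⁻¹ * (a : G)⁻¹ * b := comm_of_commutator_eq_bot hKM b.2 (by
      have := inv_mem (Subgroup.commutator_mem_commutator (le_layer hK a.2) hu)
      simpa [hM, commutatorElement_def, mul_assoc] using this)
    show (a : G) * b = b * a
    have h3 : (u * a * u⁻¹ * (a : G)⁻¹) * ((b : G) * a) = (u * a * u⁻¹ * (a : G)⁻¹) * (a * b) := by
      rw [← mul_assoc, ← h2, ← mul_assoc _ (a : G) (b : G), inv_mul_cancel_right, mul_assoc (b : G),
        inv_mul_cancel_right, h1]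
    exact (mul_left_cancel h3).symm

theorem card_le_factorial_gfit [Finite G] :
    Nat.card G ≤ Nat.factorial (Nat.card ↥(generalizedFittingSubgroup G)) := by
  classical
  set F := generalizedFittingSubgroup G with hF
  let f : G →* MulAut F := MulAut.conjNormal
  have hker : f.ker ≤ F := by
    refine le_trans ?_ (centralizer_generalizedFitting_le (G := G))
    intro g hg x hx
    have h := congrArg (fun e : MulAut F => ((e ⟨x, hx⟩ : F) : G)) (MonoidHom.mem_ker.mp hg)
    simp only [f, MulAut.conjNormal_apply, MulAut.one_apply] at h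
    calc x * g = g * x * g⁻¹ * g := by rw [h]
      _ = g * x := by group
  let e : MulAut F → Equiv.Perm {x : F // x ≠ 1} := fun t =>
    t.toEquiv.subtypeEquiv (fun a => by simp)
  have he : Function.Injective e := by
    intro t t' h
    refine MulEquiv.ext fun x => ?_
    rcases eq_or_ne x 1 with rfl | hx
    · simp
    · exact congrArg Subtype.val (Equiv.congr_fun h ⟨x, hx⟩)
  haveI : Fintype F := Fintype.ofFinite F
  have h1 : Nat.card f.range ≤ (Nat.card F - 1)! := by
    refine (Nat.card_le_card_of_injective (fun a => e a.1) (fun a b h => Subtype.ext (he h))).trans ?_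
    rw [Nat.card_perm]
    refine Nat.factorial_le (le_of_eq ?_)
    rw [Nat.card_eq_fintype_card, Nat.card_eq_fintype_card, Fintype.card_subtype_compl, Fintype.card_subtype_eq]
  calc Nat.card G = f.ker.index * Nat.card f.ker := (Subgroup.index_mul_card _).symm
    _ = Nat.card f.range * Nat.card f.ker := by rw [Subgroup.index_ker]
    _ ≤ (Nat.card F - 1)! * Nat.card F := Nat.mul_le_mul h1 (Subgroup.card_le_of_le hker)
    _ = (Nat.card F)! := by rw [mul_comm, Nat.mul_factorial_pred Nat.card_pos.ne']

theorem subnormal_gfit_structure [Finite G] (S : Subgroup G) (hS : S ≤ generalizedFittingSubgroup G)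
    (hsn : (S.subgroupOf (generalizedFittingSubgroup G)).IsSubnormal) :
    (fittingSubgroup ↥S).map S.subtype = fittingSubgroup G ⊓ S ∧ fittingSubgroup ↥S ⊔ layer ↥S = ⊤ := by
  have hS' : S.IsSubnormal := by
    have h1 := hsn.trans' (Subgroup.Normal.isSubnormal (H := generalizedFittingSubgroup G) inferInstance)
    rwa [Subgroup.map_subgroupOf_eq_of_le hS] at h1
  constructor
  · refine le_antisymm (le_inf ?_ (Subgroup.map_subtype_le _)) ?_
    · haveI := isNilpotent_fittingSubgroup (G := ↥S)
      exact isSubnormal_nilpotent_le_fitting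
        ((Subgroup.Normal.isSubnormal (H := fittingSubgroup ↥S) inferInstance).trans' hS')
        (Group.nilpotent_of_mulEquiv (Subgroup.equivMapOfInjective _ S.subtype S.subtype_injective))
    · rintro x ⟨hxF, hxS⟩
      refine ⟨⟨x, hxS⟩, ?_, rfl⟩
      have hn : Group.IsNilpotent ↥((fittingSubgroup G).subgroupOf S) := by
        have := isNilpotent_fittingSubgroup (G := G)
        refine Subgroup.isNilpotent_of_ker_le_center (S.subtype.subgroupComap (fittingSubgroup G)) ?_
        intro a ha
        rw [show a = 1 from Subtype.ext (Subtype.ext (congrArg (fun z : fittingSubgroup G => (z : G)) ha))]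
        exact one_mem _
      exact le_fittingSubgroup hn (show x ∈ fittingSubgroup G from hxF)
  · have h := gfit_top_of_subnormal gfit_gfit hsn
    rw [sup_comm]
    show generalizedFittingSubgroup ↥S = ⊤
    rw [← map_generalizedFittingSubgroup_equiv (Subgroup.subgroupOfEquivOfLe hS), h,
      Subgroup.map_top_of_surjective _ (Subgroup.subgroupOfEquivOfLe hS).surjective]

theorem layer_top_normal [Finite G] (A : Subgroup G) (hsn : A.IsSubnormal) (hA : layer ↥A = ⊤) :
    A ≤ layer G ∧ (A.subgroupOf (layer G)).Normal := by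
  have hle : A ≤ layer G := by
    calc A = (layer ↥A).map A.subtype := by rw [hA, ← MonoidHom.range_eq_map, Subgroup.range_subtype]
      _ ≤ layer G := by
        rw [Subgroup.map_le_iff_le_comap]
        refine sSup_le fun K hK => ?_
        rw [← Subgroup.map_le_iff_le_comap]
        exact le_layer (isComponent_map_subtype hsn hK)
  refine ⟨hle, (Subgroup.normal_subgroupOf_iff_le_normalizer hle).mpr (sSup_le fun K hK => ?_)⟩
  rcases exists_split_of_subnormal hsn hK with h | h
  · exact h.trans Subgroup.le_normalizer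
  · exact (Subgroup.commutator_eq_bot_iff_le_centralizer.mp h).trans (centralizer_le_normalizer' A)

theorem subnormal_quasisimple [Finite G] (hX : IsQuasisimple G) (H : Subgroup G) (hH : H.IsSubnormal) :
    H = ⊤ ∨ H ≤ Subgroup.center G := by
  rcases hH.lt_normal with h | ⟨M, hM, hHM, hMlt⟩
  · exact Or.inl h
  rcases quasisimple_normal_le_center_or_eq_top hX M with h | h
  · exact Or.inr (hHM.trans h)
  · exact absurd h hMlt.ne

theorem component_solvable_commute [Finite G] (L H : Subgroup G) (hL : IsComponent L)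
    (hsolv : Group.IsSolvable ↥H) (hinv : L ≤ Subgroup.normalizer (H : Set G)) : ⁅L, H⁆ = ⊥ := by
  set N := Subgroup.normalizer (H : Set G) with hN
  haveI : (H.subgroupOf N).Normal :=
    (Subgroup.normal_subgroupOf_iff_le_normalizer Subgroup.le_normalizer).mpr le_rfl
  have h1 := isComponent_subgroupOf hL hinv
  refine commutator_subgroupOf_eq_bot hinv Subgroup.le_normalizer
    ((component_le_or_commutator_eq_bot h1 (H.subgroupOf N)).resolve_left ?_)
  refine component_not_le_of_isSolvable h1 ?_
  exact Group.isSolvable_of_isSolvable_injective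
    (f := (Subgroup.subgroupOfEquivOfLe (Subgroup.le_normalizer (H := H))).toMonoidHom)
    (Subgroup.subgroupOfEquivOfLe (Subgroup.le_normalizer (H := H))).injective

theorem derived_of_simple_center [Finite G] (hs : IsSimpleGroup (G ⧸ Subgroup.center G))
    (hna : ¬ IsMulCommutative (G ⧸ Subgroup.center G)) :
    commutator G ⊔ Subgroup.center G = ⊤ ∧ IsQuasisimple ↥(commutator G) := by
  set Z := Subgroup.center G with hZ
  set D := commutator G with hD
  have hsurj := QuotientGroup.mk'_surjective Z
  have htop : D.map (QuotientGroup.mk' Z) = ⊤ := by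
    haveI hn : (D.map (QuotientGroup.mk' Z)).Normal :=
      (inferInstance : D.Normal).map _ hsurj
    refine hn.eq_bot_or_eq_top.resolve_left fun h => hna ⟨⟨fun a b => ?_⟩⟩
    obtain ⟨a, rfl⟩ := hsurj a
    obtain ⟨b, rfl⟩ := hsurj b
    rw [← commutatorElement_eq_one_iff_mul_comm, ← map_commutatorElement]
    have hm : QuotientGroup.mk' Z ⁅a, b⁆ ∈ D.map (QuotientGroup.mk' Z) :=
      Subgroup.mem_map_of_mem _ (Subgroup.commutator_mem_commutator (Subgroup.mem_top _) (Subgroup.mem_top _))
    rwa [h, Subgroup.mem_bot] at hm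
  have hsup : D ⊔ Z = ⊤ := by
    rw [← QuotientGroup.ker_mk' Z, ← Subgroup.comap_map_eq, htop, Subgroup.comap_top]
  refine ⟨hsup, ?_, ?_⟩
  · rw [Subgroup.isPerfect_iff]
    refine le_antisymm (Subgroup.commutator_le_self D) ?_
    rw [hD, _root_.commutator_def, Subgroup.commutator_le]
    intro a _ b _
    obtain ⟨a₁, ha₁, a₂, ha₂, rfl⟩ := Subgroup.mem_sup_of_normal_right.mp (hsup.symm ▸ Subgroup.mem_top a)
    obtain ⟨b₁, hb₁, b₂, hb₂, rfl⟩ := Subgroup.mem_sup_of_normal_right.mp (hsup.symm ▸ Subgroup.mem_top b)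
    have ha : ∀ x, x * a₂ = a₂ * x := Subgroup.mem_center_iff.mp ha₂
    have hb : ∀ x, x * b₂ = b₂ * x := Subgroup.mem_center_iff.mp hb₂
    have e : ⁅a₁ * a₂, b₁ * b₂⁆ = ⁅a₁, b₁⁆ := by
      rw [commutatorElement_def, commutatorElement_def]
      calc a₁ * a₂ * (b₁ * b₂) * (a₁ * a₂)⁻¹ * (b₁ * b₂)⁻¹
          = a₁ * (a₂ * (b₁ * b₂)) * a₂⁻¹ * a₁⁻¹ * b₂⁻¹ * b₁⁻¹ := by group
        _ = a₁ * ((b₁ * b₂) * a₂) * a₂⁻¹ * a₁⁻¹ * b₂⁻¹ * b₁⁻¹ := by rw [ha]
        _ = a₁ * b₁ * (b₂ * a₁⁻¹) * b₂⁻¹ * b₁⁻¹ := by group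
        _ = a₁ * b₁ * (a₁⁻¹ * b₂) * b₂⁻¹ * b₁⁻¹ := by rw [hb]
        _ = a₁ * b₁ * a₁⁻¹ * b₁⁻¹ := by group
    rw [e]
    exact Subgroup.commutator_mem_commutator ha₁ hb₁
  · have hf : Function.Surjective ((QuotientGroup.mk' Z).comp D.subtype) := by
      intro y
      obtain ⟨x, hx, rfl⟩ : y ∈ D.map (QuotientGroup.mk' Z) := htop ▸ Subgroup.mem_top y
      exact ⟨⟨x, hx⟩, rfl⟩
    have hker : ((QuotientGroup.mk' Z).comp D.subtype).ker = Subgroup.center ↥D := by
      ext x
      rw [MonoidHom.mem_ker, MonoidHom.comp_apply, QuotientGroup.mk'_apply, QuotientGroup.eq_one_iff,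
        Subgroup.coe_subtype]
      constructor
      · exact fun h => Subgroup.mem_center_iff.mpr fun y => Subtype.ext (Subgroup.mem_center_iff.mp h y)
      · intro h
        rw [hZ, Subgroup.mem_center_iff]
        intro y
        obtain ⟨y₁, hy₁, y₂, hy₂, rfl⟩ := Subgroup.mem_sup_of_normal_right.mp (hsup.symm ▸ Subgroup.mem_top y)
        have h1 : y₁ * (x : G) = x * y₁ := congrArg Subtype.val (Subgroup.mem_center_iff.mp h ⟨y₁, hy₁⟩)
        rw [mul_assoc, ← Subgroup.mem_center_iff.mp hy₂ (x : G), ← mul_assoc, h1, mul_assoc]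
    exact ((QuotientGroup.quotientMulEquivOfEq hker.symm).trans
      (QuotientGroup.quotientKerEquivOfSurjective _ hf)).isSimpleGroup_congr.mpr hs

end CfsgLib.Comp
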