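import Cfsg.Agent.Lib.Comp.PComp
import Cfsg.Agent.Lib.Comp.CharPType
import Cfsg.Prelude.Def_Balance

/-!
The `p`-layer of normalizers, `p`-constraint, the extended 2-layer, the image of the layer.
-/

set_option autoImplicit false
set_option linter.unusedSectionVars false

namespace CfsgLib.Comp

open Cfsg Subgroup
open scoped commutatorElement

universe u v
variable {G : Type u} [Group G] [Finite G] {p : ℕ} [Fact p.Prime]

theorem conj_map_comap (g : G) (Kb : Subgroup (G ⧸ pPrimeCore p G)) :
    (Kb.comap (bar p G)).map (MulAut.conj g).toMonoidHom =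
      (Kb.map (MulAut.conj (bar p G g)).toMonoidHom).comap (bar p G) := by
  ext x
  rw [Subgroup.mem_map_equiv, Subgroup.mem_comap, Subgroup.mem_comap, Subgroup.mem_map_equiv]
  simp

theorem pEl_map_equiv {H : Type v} [Group H] (e : G ≃* H) (A : Subgroup G) :
    (pEl p A).map e.toMonoidHom = pEl p (A.map e.toMonoidHom) := by
  refine le_antisymm (pEl_map_le _ _) ?_
  have h := pEl_map_le (p := p) e.symm.toMonoidHom (A.map e.toMonoidHom)
  rw [Subgroup.map_le_iff_le_comap] at h
  rw [Subgroup.map_map] at h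
  have e1 : A.map (e.symm.toMonoidHom.comp e.toMonoidHom) = A := by
    ext x; simp [Subgroup.mem_map]
  rw [e1] at h
  refine h.trans ?_
  intro x hx
  exact ⟨e.symm x, hx, e.apply_symm_apply x⟩

theorem pcomp_conj {K : Subgroup G} (hK : IsPComponent p K) (g : G) :
    IsPComponent p (K.map (MulAut.conj g).toMonoidHom) := by
  obtain ⟨Kb, hKb, rfl⟩ := (isPComponent_iff p).mp hK
  refine (isPComponent_iff p).mpr ⟨_, isComponent_map_equiv (MulAut.conj (bar p G g)) hKb, ?_⟩
  rw [pEl_map_equiv, conj_map_comap]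

instance pLayer_normal : (pLayer p G).Normal := by
  constructor
  intro x hx g
  have hle : pLayer p G ≤ (pLayer p G).comap (MulAut.conj g).toMonoidHom := sSup_le fun K hK => by
    rw [← Subgroup.map_le_iff_le_comap]
    exact le_sSup (pcomp_conj hK g)
  exact hle hx

instance pPrimePCore_normal : (pPrimePCore p G).Normal := by
  haveI : (pCore p (G ⧸ pPrimeCore p G)).Normal := Subgroup.sSup_normal _ (fun _ h => h.1)
  exact inferInstanceAs ((pCore p (G ⧸ pPrimeCore p G)).comap (QuotientGroup.mk' (pPrimeCore p G))).Normal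

theorem core_le_pPrimePCore : pPrimeCore p G ≤ pPrimePCore p G := fun x hx => by
  show bar p G x ∈ pCore p (G ⧸ pPrimeCore p G)
  rw [QuotientGroup.mk'_apply, (QuotientGroup.eq_one_iff x).mpr hx]
  exact one_mem _

theorem map_pPrimePCore : (pPrimePCore p G).map (bar p G) = pCore p (G ⧸ pPrimeCore p G) :=
  Subgroup.map_comap_eq_self_of_surjective (bar_surjective p) _

theorem charP_quotient_iff :
    pLayer p G = ⊥ ↔ Subgroup.centralizer (pCore p (G ⧸ pPrimeCore p G) : Set (G ⧸ pPrimeCore p G)) ≤
      pCore p (G ⧸ pPrimeCore p G) := by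
  rw [pLayer_eq_bot_iff, ← centralizer_fitting_le_iff,
    fitting_eq_pCore Fact.out (pPrimeCore_quotient_eq_bot p)]

/-- Centralizers of `p`-subgroups map onto centralizers. -/
theorem exists_centralizing_lift {P : Subgroup G} (hP : IsPGroup p P) (y : G)
    (hy : bar p G y ∈ Subgroup.normalizer ((P.map (bar p G) : Subgroup _) : Set (G ⧸ pPrimeCore p G))) :
    ∃ y' ∈ Subgroup.normalizer (P : Set G), bar p G y' = bar p G y := by
  set O := pPrimeCore p G with hO
  set M := O ⊔ P with hM
  have hcomap : (P.map (bar p G)).comap (bar p G) = M := by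
    rw [Subgroup.comap_map_eq, QuotientGroup.ker_mk', sup_comm]
  have hy' : ∀ x ∈ M, y * x * y⁻¹ ∈ M := fun x hx => by
    rw [← hcomap, Subgroup.mem_comap] at hx ⊢
    rw [map_mul, map_mul, map_inv]
    exact (Subgroup.mem_normalizer_iff.mp hy _).mp hx
  have hcopy : ∀ Q : Subgroup G, IsPGroup p Q → (hQM : Q ≤ M) → Nat.card Q = Nat.card P →
      ∃ S : Sylow p M, (S : Subgroup M) = Q.subgroupOf M := by
    intro Q hQ hQM hcard
    have hcardM : Nat.card M ∣ Nat.card P * Nat.card O := by
      rw [hM, sup_comm]; exact card_sup_dvd_mul P O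
    have hQ' := hQ.of_equiv (Subgroup.subgroupOfEquivOfLe hQM).symm
    refine ⟨hQ'.toSylow ?_, rfl⟩
    intro hdvd
    rw [← Subgroup.index_mul_card (Q.subgroupOf M), Nat.card_congr (Subgroup.subgroupOfEquivOfLe hQM).toEquiv,
      hcard, mul_comm (Nat.card P)] at hcardM
    exact (Fact.out : p.Prime).not_dvd_one ((Nat.coprime_iff_gcd_eq_one.mp (card_pPrimeCore_coprime (G := G) p)) ▸
      Nat.dvd_gcd (hdvd.trans (Nat.dvd_of_mul_dvd_mul_right Nat.card_pos hcardM)) dvd_rfl)
  have hPM : P ≤ M := le_sup_right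
  have hP'M : P.map (MulAut.conj y).toMonoidHom ≤ M := by
    rintro _ ⟨x, hx, rfl⟩
    exact hy' x (hPM hx)
  obtain ⟨S, hS⟩ := hcopy P hP hPM rfl
  obtain ⟨S', hS'⟩ := hcopy _ (hP.map _) hP'M (Subgroup.card_map_of_injective (MulAut.conj y).injective)
  obtain ⟨m, hm⟩ := MulAction.exists_smul_eq M S' S
  obtain ⟨o, ho, q, hq, e⟩ : ∃ o ∈ O, ∃ q ∈ P, (m : G) = o * q := by
    obtain ⟨o, ho, q, hq, e⟩ := Subgroup.mem_sup_of_normal_left.mp m.2
    exact ⟨o, ho, q, hq, e.symm⟩
  refine ⟨q⁻¹ * ((m : G) * y), ?_, ?_⟩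
  · refine Subgroup.mul_mem _ (Subgroup.inv_mem _ (Subgroup.le_normalizer hq)) (mem_normalizer_of_maps fun x hx => ?_)
    have h1 : (⟨y * x * y⁻¹, hP'M ⟨x, hx, rfl⟩⟩ : M) ∈ (S' : Subgroup M) := by
      rw [hS', Subgroup.mem_subgroupOf]; exact ⟨x, hx, rfl⟩
    have h2 : (MulAut.conj m) ⟨y * x * y⁻¹, hP'M ⟨x, hx, rfl⟩⟩ ∈ (S : Subgroup M) := by
      rw [← hm, Sylow.coe_subgroup_smul]
      exact Subgroup.smul_mem_pointwise_smul _ _ _ h1
    rw [hS, Subgroup.mem_subgroupOf] at h2
    simpa [mul_assoc] using h2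
  · have : bar p G o = 1 := by rw [QuotientGroup.mk'_apply, QuotientGroup.eq_one_iff]; exact ho
    rw [e, map_mul, map_mul, map_mul, this, one_mul, ← mul_assoc, map_inv, inv_mul_cancel, one_mul]

theorem centralizes_of_bar {P : Subgroup G} (hP : IsPGroup p P) {y : G} (hy : y ∈ Subgroup.normalizer (P : Set G))
    (h : ∀ x ∈ P, bar p G y * bar p G x = bar p G x * bar p G y) : y ∈ Subgroup.centralizer (P : Set G) := by
  intro x hx
  replace hx : x ∈ P := hx
  have h1 : y * x * y⁻¹ * x⁻¹ ∈ pPrimeCore p G ⊓ P := by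
    refine Subgroup.mem_inf.mpr ⟨?_, mul_mem ((Subgroup.mem_normalizer_iff.mp hy x).mp hx) (inv_mem hx)⟩
    show y * x * y⁻¹ * x⁻¹ ∈ pPrimeCore p G
    rw [← QuotientGroup.eq_one_iff, ← QuotientGroup.mk'_apply, map_mul, map_mul, map_mul, map_inv, map_inv, h x hx]
    group
  rw [((Subgroup.inf_eq_bot_of_coprime) (by
    obtain ⟨k, hk⟩ := IsPGroup.iff_card.mp hP
    rw [hk]; exact (card_pPrimeCore_coprime p).pow_right k)), Subgroup.mem_bot] at h1
  calc x * y = (y * x * y⁻¹ * x⁻¹)⁻¹ * (y * x) := by group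
    _ = y * x := by rw [h1, inv_one, one_mul]

theorem constrained_iff : IsPConstrained p G ↔ pLayer p G = ⊥ := by
  rw [charP_quotient_iff]
  set M := pPrimePCore p G with hM
  have hmap : ∀ P : Sylow p M, ((P : Subgroup M).map M.subtype).map (bar p G) = pCore p (G ⧸ pPrimeCore p G) := by
    intro P
    rw [← map_pPrimePCore]
    refine le_antisymm (Subgroup.map_mono (Subgroup.map_subtype_le _)) ?_
    have hres : pResidual p M ≤ (pPrimeCore p G).subgroupOf M := by
      refine pResidual_le_of_isPGroup_quotient ?_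
      intro z
      obtain ⟨⟨x, hx⟩, rfl⟩ := QuotientGroup.mk'_surjective _ z
      obtain ⟨k, hk⟩ := isPGroup_pCore (G := G ⧸ pPrimeCore p G) p ⟨bar p G x, hx⟩
      refine ⟨k, ?_⟩
      rw [← map_pow, QuotientGroup.mk'_apply, QuotientGroup.eq_one_iff, Subgroup.mem_subgroupOf]
      push_cast
      rw [← QuotientGroup.eq_one_iff]
      exact congrArg Subtype.val hk
    have hsup := sylow_sup_eq_top_of_pResidual_le P hres
    rintro _ ⟨x, hx, rfl⟩
    obtain ⟨o, ho, q, hq, e⟩ := Subgroup.mem_sup_of_normal_left.mp (hsup.symm ▸ Subgroup.mem_top (⟨x, hx⟩ : M))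
    refine ⟨(q : G), ⟨q, hq, rfl⟩, ?_⟩
    have e' : (o : G) * q = x := congrArg Subtype.val e
    rw [← e', map_mul, show bar p G (o : G) = 1 from (QuotientGroup.eq_one_iff (o : G)).mpr ho, one_mul]
  constructor
  · intro h
    obtain ⟨P⟩ : Nonempty (Sylow p M) := inferInstance
    intro z hz
    obtain ⟨y, rfl⟩ := bar_surjective p z
    have hPp : IsPGroup p ((P : Subgroup M).map M.subtype) := P.2.map _
    have hc : ∀ w ∈ ((P : Subgroup M).map M.subtype).map (bar p G), bar p G y * w = w * bar p G y := fun w hw => by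
      rw [hmap] at hw; exact (hz w hw).symm
    obtain ⟨y', hy', e⟩ := exists_centralizing_lift hPp y (centralizer_le_normalizer' _ fun w hw => (hc w hw).symm)
    have hyc := centralizes_of_bar hPp hy' fun x hx => by rw [e]; exact hc _ ⟨x, hx, rfl⟩
    rw [← e, ← map_pPrimePCore]
    exact ⟨y', h P hyc, rfl⟩
  · intro h P y hy
    show bar p G y ∈ pCore p (G ⧸ pPrimeCore p G)
    refine h fun w hw => ?_
    rw [SetLike.mem_coe, ← hmap P] at hw
    obtain ⟨x, hx, rfl⟩ := hw
    rw [← map_mul, ← map_mul, hy x hx]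

theorem pLayer_normalizer (hL : pLayer p G = ⊥) (P : Subgroup G) (hP : IsPGroup p P) :
    pLayer p ↥(Subgroup.normalizer (P : Set G)) = ⊥ ∧
      (pPrimeCore p ↥(Subgroup.normalizer (P : Set G))).map (Subgroup.normalizer (P : Set G)).subtype ≤
        pPrimeCore p G := by
  set H := Subgroup.normalizer (P : Set G) with hH
  set Pb := P.map (bar p G) with hPb
  set Hb := Subgroup.normalizer (Pb : Set (G ⧸ pPrimeCore p G)) with hHb
  have hHHb : H.map (bar p G) = Hb := by
    refine le_antisymm ?_ ?_
    · rintro _ ⟨y, hy, rfl⟩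
      refine mem_normalizer_of_maps ?_
      rintro _ ⟨x, hx, rfl⟩
      exact ⟨_, (Subgroup.mem_normalizer_iff.mp hy x).mp hx, by rw [map_mul, map_mul, map_inv]⟩
    · intro z hz
      obtain ⟨y, rfl⟩ := bar_surjective p z
      obtain ⟨y', hy', e⟩ := exists_centralizing_lift hP y hz
      exact ⟨y', hy', e⟩
  have hcp := charP_normalizer p (charP_quotient_iff.mp hL) Pb (hP.map _)
  let f : H →* Hb := ((bar p G).comp H.subtype).codRestrict Hb (fun h => hHHb ▸ Subgroup.mem_map_of_mem _ h.2)
  have hf : Function.Surjective f := by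
    rintro ⟨z, hz⟩
    rw [← hHHb] at hz
    obtain ⟨y, hy, rfl⟩ := hz
    exact ⟨⟨y, hy⟩, rfl⟩
  have hbot : pPrimeCore p Hb = ⊥ := by
    have hle : pPrimeCore p Hb ≤ Subgroup.centralizer (pCore p Hb : Set Hb) := by
      haveI : (pCore p Hb).Normal := Subgroup.sSup_normal _ (fun _ h => h.1)
      rw [← Subgroup.commutator_eq_bot_iff_le_centralizer, eq_bot_iff]
      refine (Subgroup.commutator_le_inf _ _).trans ?_
      obtain ⟨k, hk⟩ := IsPGroup.iff_card.mp (isPGroup_pCore (G := Hb) p)
      rw [Subgroup.inf_eq_bot_of_coprime (by rw [hk]; exact (card_pPrimeCore_coprime p).pow_right k)]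
    have h2 := hle.trans hcp
    obtain ⟨k, hk⟩ := IsPGroup.iff_card.mp ((isPGroup_pCore (G := Hb) p).to_le h2)
    have hc := card_pPrimeCore_coprime (G := Hb) p
    rcases Nat.eq_zero_or_pos k with rfl | hkpos
    · exact Subgroup.card_eq_one.mp (by rw [hk, pow_zero])
    · exact absurd ((Nat.coprime_iff_gcd_eq_one.mp hc) ▸ Nat.dvd_gcd (hk ▸ dvd_pow_self p hkpos.ne') dvd_rfl)
        (Fact.out : p.Prime).not_dvd_one
  have hker : f.ker = pPrimeCore p H := by
    refine le_antisymm (le_pPrimeCore ?_) ?_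
    · have hle : f.ker.map H.subtype ≤ pPrimeCore p G := by
        rintro _ ⟨x, hx, rfl⟩
        rw [← QuotientGroup.eq_one_iff]
        exact congrArg Subtype.val (MonoidHom.mem_ker.mp hx)
      rw [← Subgroup.card_map_of_injective H.subtype_injective]
      exact Nat.Coprime.coprime_dvd_left (Subgroup.card_dvd_of_le hle) (card_pPrimeCore_coprime p)
    · have h1 : (pPrimeCore p H).map f = ⊥ := by
        rw [eq_bot_iff, ← hbot]
        haveI := (inferInstance : (pPrimeCore p H).Normal).map f hf
        exact le_pPrimeCore (Nat.Coprime.coprime_dvd_left (Subgroup.card_map_dvd _ _) (card_pPrimeCore_coprime p))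
      rwa [Subgroup.map_eq_bot_iff] at h1
  constructor
  · rw [pLayer_eq_bot_iff]
    have e := (QuotientGroup.quotientMulEquivOfEq hker.symm).trans (QuotientGroup.quotientKerEquivOfSurjective f hf)
    rw [← map_layer_equiv e.symm, (centralizer_fitting_le_iff (G := Hb)).mp (by
      rw [fitting_eq_pCore Fact.out hbot]; exact hcp), Subgroup.map_bot]
  · rintro _ ⟨x, hx, rfl⟩
    rw [← hker] at hx
    rw [← QuotientGroup.eq_one_iff]
    exact congrArg Subtype.val (MonoidHom.mem_ker.mp hx)

/-- The preimage of `E(N/O_{p'}(N))`, `N = N_G(P)`, centralises `O_p(G)`. -/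
theorem layer_preimage_centralizes (P : Subgroup G) (hP : IsPGroup p P) :
    (((layer (↥(Subgroup.normalizer (P : Set G)) ⧸ pPrimeCore p ↥(Subgroup.normalizer (P : Set G)))).comap
      (bar p ↥(Subgroup.normalizer (P : Set G)))).map (Subgroup.normalizer (P : Set G)).subtype) ≤
      Subgroup.centralizer (pCore p G : Set G) := by
  set N := Subgroup.normalizer (P : Set G) with hN
  set R := pCore p ↥N with hR
  haveI : R.Normal := Subgroup.sSup_normal _ (fun _ h => h.1)
  haveI : (pCore p G).Normal := Subgroup.sSup_normal _ (fun _ h => h.1)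
  set D := (Subgroup.centralizer (pCore p G : Set G)).subgroupOf N with hD
  have hPR : P.subgroupOf N ≤ R := by
    haveI : (P.subgroupOf N).Normal :=
      (Subgroup.normal_subgroupOf_iff_le_normalizer Subgroup.le_normalizer).mpr le_rfl
    exact le_pCore (hP.of_equiv (Subgroup.subgroupOfEquivOfLe Subgroup.le_normalizer).symm)
  have hQR : (pCore p G).subgroupOf N ≤ R :=
    le_pCore ((isPGroup_pCore (G := G) p).of_injective (N.subtype.subgroupComap (pCore p G))
      (fun a b e => Subtype.ext (Subtype.ext (congrArg (fun z : pCore p G => (z : G)) e))))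
  have hcop : (Nat.card (pPrimeCore p ↥N)).Coprime (Nat.card R) := by
    obtain ⟨k, hk⟩ := IsPGroup.iff_card.mp (isPGroup_pCore (G := ↥N) p)
    rw [hR, hk]; exact (card_pPrimeCore_coprime p).pow_right k
  have hmem : ∀ x : N, (orderOf x).Coprime p → x ∈ Subgroup.centralizer (R : Set N) → x ∈ D := by
    intro x hx hxR
    refine centralizes_pCore hP ?_ (fun y hy => ?_) (fun y hy hyP => ?_)
    · rwa [orderOf_injective N.subtype N.subtype_injective]
    · exact congrArg Subtype.val (hxR ⟨y, Subgroup.le_normalizer hy⟩ (hPR hy))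
    · exact (congrArg Subtype.val (hxR ⟨y, centralizer_le_normalizer' P hyP⟩ (hQR hy))).symm
  have hOR : pPrimeCore p ↥N ≤ Subgroup.centralizer (R : Set N) := by
    rw [← Subgroup.commutator_eq_bot_iff_le_centralizer, eq_bot_iff]
    refine (Subgroup.commutator_le_inf _ _).trans ?_
    rw [Subgroup.inf_eq_bot_of_coprime hcop]
  have hOD : pPrimeCore p ↥N ≤ D := fun x hx => hmem x
    (Nat.Coprime.coprime_dvd_left (Subgroup.orderOf_dvd_natCard _ hx) (card_pPrimeCore_coprime p)) (hOR hx)
  rw [Subgroup.map_le_iff_le_comap]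
  show _ ≤ D
  rw [← map_pLayer, Subgroup.comap_map_eq, QuotientGroup.ker_mk']
  refine sup_le (sSup_le fun K hK => ?_) hOD
  have hKR : K ≤ Subgroup.centralizer (R : Set N) := by
    rw [← Subgroup.commutator_eq_bot_iff_le_centralizer, eq_bot_iff]
    have h1 : ⁅K, R⁆ ≤ pPrimeCore p ↥N ⊓ R := by
      refine le_inf ?_ ((Subgroup.commutator_mono le_top le_rfl).trans (Subgroup.commutator_le_right _ _))
      rw [← QuotientGroup.ker_mk' (pPrimeCore p ↥N), ← Subgroup.map_eq_bot_iff, Subgroup.map_commutator,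
        Subgroup.commutator_eq_bot_iff_le_centralizer]
      refine (le_layer hK.2.1).trans (layer_le_centralizer_fitting.trans (Subgroup.centralizer_le ?_))
      haveI := (inferInstance : R.Normal).map (bar p ↥N) (bar_surjective p)
      exact (le_pCore ((isPGroup_pCore (G := ↥N) p).map _)).trans (pCore_le_fittingSubgroup Fact.out)
    rw [Subgroup.inf_eq_bot_of_coprime hcop] at h1
    exact h1
  set E : Subgroup ↥K := D.subgroupOf K with hE
  have hres : pResidual p ↥K ≤ E := pResidual_le fun l hl =>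
    hmem l (by rwa [Subgroup.orderOf_coe]) (hKR l.2)
  have hq : IsPGroup p (↥K ⧸ E) := isPGroup_quotient_of_pResidual_le hres
  have htop : E = ⊤ := by
    by_contra hne
    haveI : Nontrivial (↥K ⧸ E) := QuotientGroup.nontrivial_iff.mpr hne
    haveI : Group.IsPerfect ↥K := Subgroup.isPerfect_iff.mpr (pcomp_perfect hK)
    haveI : Group.IsPerfect (↥K ⧸ E) := Group.IsPerfect.ofSurjective (QuotientGroup.mk'_surjective E)
    exact Group.IsPerfect.not_isNilpotent (G := ↥K ⧸ E) hq.isNilpotent
  exact Subgroup.subgroupOf_eq_top.mp htop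

/-! ### The image of the layer -/

theorem map_component {C : Subgroup G} (hC : IsComponent C) (hne : ¬ C ≤ pPrimeCore p G) :
    IsComponent (C.map (bar p G)) := by
  refine ⟨hC.1.map (bar_surjective p), ?_⟩
  have hker : ((bar p G).subgroupMap C).ker ≤ Subgroup.center C := by
    refine (quasisimple_normal_le_center_or_eq_top hC.2 _).resolve_right fun h => hne fun x hx => ?_
    have h2 : (bar p G).subgroupMap C ⟨x, hx⟩ = 1 := MonoidHom.mem_ker.mp (h ▸ Subgroup.mem_top _)
    rw [← QuotientGroup.eq_one_iff]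
    exact congrArg Subtype.val h2
  haveI := hC.2.1
  have hsurj := (bar p G).subgroupMap_surjective C
  refine ⟨Group.IsPerfect.ofSurjective hsurj, ?_⟩
  have hmap : (Subgroup.center C).map ((bar p G).subgroupMap C) = Subgroup.center ↥(C.map (bar p G)) := by
    refine le_antisymm ?_ ?_
    · rintro _ ⟨x, hx, rfl⟩
      rw [Subgroup.mem_center_iff]
      intro y
      obtain ⟨y, rfl⟩ := hsurj y
      rw [← map_mul, ← map_mul, Subgroup.mem_center_iff.mp hx y]
    · intro z hz
      obtain ⟨x, rfl⟩ := hsurj z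
      set A := (Subgroup.center ↥(C.map (bar p G))).comap ((bar p G).subgroupMap C) with hA
      haveI : A.Normal := inferInstance
      rcases quasisimple_normal_le_center_or_eq_top hC.2 A with h | h
      · exact ⟨x, h hz, rfl⟩
      · exfalso
        refine hne fun w hw => ?_
        haveI : Group.IsPerfect ↥(C.map (bar p G)) := Group.IsPerfect.ofSurjective hsurj
        have htop : Subgroup.center ↥(C.map (bar p G)) = ⊤ := by
          rw [← Subgroup.map_comap_eq_self_of_surjective hsurj (Subgroup.center _)]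
          show A.map _ = ⊤
          rw [h, Subgroup.map_top_of_surjective _ hsurj]
        have h1 : commutator ↥(C.map (bar p G)) = ⊥ := by
          rw [_root_.commutator_def, Subgroup.commutator_eq_bot_iff_le_centralizer, Subgroup.coe_top,
            Subgroup.centralizer_univ, htop]
        have h2 : ((bar p G).subgroupMap C) ⟨w, hw⟩ ∈ commutator ↥(C.map (bar p G)) := Group.IsPerfect.mem_commutator
        rw [h1, Subgroup.mem_bot] at h2
        rw [← QuotientGroup.eq_one_iff]
        exact congrArg Subtype.val h2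
  have hsurj' : Function.Surjective
      ((QuotientGroup.mk' (Subgroup.center ↥(C.map (bar p G)))).comp ((bar p G).subgroupMap C)) :=
    (QuotientGroup.mk'_surjective _).comp hsurj
  have hker' : ((QuotientGroup.mk' (Subgroup.center ↥(C.map (bar p G)))).comp ((bar p G).subgroupMap C)).ker =
      Subgroup.center C := by
    rw [← MonoidHom.comap_ker, QuotientGroup.ker_mk', ← hmap, Subgroup.comap_map_eq, sup_eq_left.mpr hker]
  exact ((QuotientGroup.quotientMulEquivOfEq hker'.symm).trans
    (QuotientGroup.quotientKerEquivOfSurjective _ hsurj')).isSimpleGroup_congr.mp hC.2.2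

theorem layer_map_iff :
    (layer G).map (bar p G) = layer (G ⧸ pPrimeCore p G) ↔ pLayer p G ≤ layer G := by
  have hle : (layer G).map (bar p G) ≤ layer (G ⧸ pPrimeCore p G) := by
    rw [Subgroup.map_le_iff_le_comap]
    refine sSup_le fun C hC => ?_
    rw [← Subgroup.map_le_iff_le_comap]
    by_cases h : C ≤ pPrimeCore p G
    · rw [(Subgroup.map_eq_bot_iff (f := bar p G) C).mpr (by rw [QuotientGroup.ker_mk']; exact h)]
      exact bot_le
    · exact le_layer (map_component hC h)
  constructor
  · intro h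
    refine sSup_le fun K hK => ?_
    by_contra hKE
    have hno : ∀ C : Subgroup G, IsComponent C → C.map (bar p G) ≠ K.map (bar p G) := by
      intro C hC e
      have h1 : K ≤ C := by
        rw [pcomp_eq hK, ← e]
        exact pEl_comap_le p hC.1 (Subgroup.le_comap_map _ _) rfl
      exact hKE (h1.trans (le_layer hC))
    have hcent : layer (G ⧸ pPrimeCore p G) ≤
        Subgroup.centralizer ((K.map (bar p G) : Subgroup _) : Set (G ⧸ pPrimeCore p G)) := by
      rw [← h, Subgroup.map_le_iff_le_comap]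
      refine sSup_le fun C hC => ?_
      rw [← Subgroup.map_le_iff_le_comap]
      by_cases hc : C ≤ pPrimeCore p G
      · rw [(Subgroup.map_eq_bot_iff (f := bar p G) C).mpr (by rw [QuotientGroup.ker_mk']; exact hc)]
        exact bot_le
      · exact Subgroup.commutator_eq_bot_iff_le_centralizer.mp
          ((components_eq_or_commute (map_component hC hc) hK.2.1).resolve_left (hno C hC))
    refine isQuasisimple_not_isSolvable hK.2.1.2 (Group.isSolvable_of_comm fun a b => Subtype.ext ?_)
    exact ((hcent (le_layer hK.2.1 a.2)) b b.2).symm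
  · intro h
    refine le_antisymm hle ?_
    rw [← map_pLayer]
    exact Subgroup.map_mono h

end CfsgLib.Comp
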