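import Cfsg.Agent.Lib.Components
import Cfsg.Agent.Lib.PSolvable
import Cfsg.Agent.Lib.Coprime
import Cfsg.Agent.Lib.PComplement

/-!
Further facts on components, the layer and the generalised Fitting subgroup.
-/

set_option autoImplicit false

namespace CfsgLib.Comp

open Cfsg Subgroup
open scoped commutatorElement

universe u
variable {G : Type u} [Group G]

theorem comm_of_commutator_eq_bot {A B : Subgroup G} (h : ⁅A, B⁆ = ⊥) {a b : G} (ha : a ∈ A) (hb : b ∈ B) :
    a * b = b * a :=
  ((Subgroup.commutator_eq_bot_iff_le_centralizer.mp h ha) b hb).symm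

theorem centralizer_le_normalizer' (A : Subgroup G) :
    Subgroup.centralizer (A : Set G) ≤ Subgroup.normalizer (A : Set G) := by
  intro g hg
  rw [Subgroup.mem_normalizer_iff]
  intro h
  constructor
  · intro hh
    rwa [← hg h hh, mul_inv_cancel_right]
  · intro hh
    have h1 := hg _ hh
    have h2 : g * h * g⁻¹ = h := mul_left_cancel (a := g) (by rw [← h1]; group)
    rwa [h2] at hh

theorem mem_sup_of_commutator_eq_bot {A B : Subgroup G} (h : ⁅A, B⁆ = ⊥) {x : G} (hx : x ∈ A ⊔ B) :
    ∃ a ∈ A, ∃ b ∈ B, x = a * b := by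
  rw [sup_comm] at hx
  obtain ⟨b, hb, a, ha, e⟩ := CfsgLib.mem_sup_of_le_normalizer
    ((Subgroup.commutator_eq_bot_iff_le_centralizer.mp h).trans (centralizer_le_normalizer' B)) hx
  exact ⟨a, ha, b, hb, by rw [← e, comm_of_commutator_eq_bot h ha hb]⟩

theorem exists_split_of_subnormal {H : Subgroup G} [Finite G] (hH : H.IsSubnormal) {L : Subgroup G}
    (hL : IsComponent L) : L ≤ H ∨ ⁅L, H⁆ = ⊥ := by
  induction hn : Nat.card G using Nat.strong_induction_on generalizing G with
  | h n ih =>
    subst hn
    rcases hH.lt_normal with rfl | ⟨M, hM, hHM, hMlt⟩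
    · exact Or.inl le_top
    rcases component_le_or_commutator_eq_bot hL M with hLM | hLM
    · rcases ih _ (card_lt_of_lt_top hMlt) (hH.subgroupOf (K := M)) (isComponent_subgroupOf hL hLM) rfl with h | h
      · left
        have := Subgroup.map_mono (f := M.subtype) h
        rwa [Subgroup.map_subgroupOf_eq_of_le hLM, Subgroup.map_subgroupOf_eq_of_le hHM] at this
      · exact Or.inr (commutator_subgroupOf_eq_bot hLM hHM h)
    · right
      rw [eq_bot_iff, ← hLM]
      exact Subgroup.commutator_mono le_rfl hHM

theorem component_not_le_fitting [Finite G] {K : Subgroup G} (hK : IsComponent K) : ¬ K ≤ fittingSubgroup G :=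
  component_not_le_of_isSolvable hK (by
    have := isNilpotent_fittingSubgroup (G := G)
    infer_instance)

/-- A homomorphism from a component with pairwise commuting values is trivial. -/
theorem hom_component_trivial {K : Subgroup G} (hK : IsComponent K) {M : Type*} [Group M] {f : ↥K →* M}
    (hf : ∀ a b : ↥K, f a * f b = f b * f a) (k : ↥K) : f k = 1 := by
  have hker : commutator ↥K ≤ f.ker := by
    rw [_root_.commutator_def, Subgroup.commutator_le]
    intro a _ b _
    rw [MonoidHom.mem_ker, map_commutatorElement, commutatorElement_eq_one_iff_mul_comm]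
    exact hf a b
  have := hK.2.1
  exact MonoidHom.mem_ker.mp (hker Group.IsPerfect.mem_commutator)

/-- An element of the join of a finite set of components which is central in the layer. -/
theorem central_mem_iSup_center [Finite G] (s : Set (Subgroup G)) (hs : s.Finite) (hc : ∀ K ∈ s, IsComponent K)
    {x : G} (hx : x ∈ sSup s) (hcen : ∀ y ∈ layer G, x * y = y * x) :
    x ∈ ⨆ L : {K : Subgroup G // IsComponent K}, (Subgroup.center ↥(L : Subgroup G)).map (L : Subgroup G).subtype := by
  induction s, hs using Set.Finite.induction_on generalizing x with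
  | empty =>
    simp only [sSup_empty, Subgroup.mem_bot] at hx
    rw [hx]; exact one_mem _
  | @insert K T hKT _ ih =>
    rw [sSup_insert] at hx
    have hKc := hc K (Set.mem_insert _ _)
    have hcomm : ⁅K, sSup T⁆ = ⊥ := by
      rw [Subgroup.commutator_comm, Subgroup.commutator_eq_bot_iff_le_centralizer]
      refine sSup_le fun L hL => ?_
      rw [← Subgroup.commutator_eq_bot_iff_le_centralizer]
      exact (components_eq_or_commute (hc L (Set.mem_insert_of_mem _ hL)) hKc).resolve_left
        (fun e => hKT (e ▸ hL))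
    obtain ⟨k, hk, m, hm, rfl⟩ := mem_sup_of_commutator_eq_bot hcomm hx
    have hkz : k ∈ (Subgroup.center ↥K).map K.subtype := by
      refine ⟨⟨k, hk⟩, Subgroup.mem_center_iff.mpr fun y => Subtype.ext ?_, rfl⟩
      show (y : G) * k = k * y
      have h1 := hcen y (le_layer hKc y.2)
      have h2 := comm_of_commutator_eq_bot hcomm y.2 hm
      refine mul_right_cancel (b := m) ?_
      rw [mul_assoc, ← h1, mul_assoc, ← h2, mul_assoc]
    have hk' : k ∈ ⨆ L : {K : Subgroup G // IsComponent K},
        (Subgroup.center ↥(L : Subgroup G)).map (L : Subgroup G).subtype :=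
      Subgroup.mem_iSup_of_mem ⟨K, hKc⟩ hkz
    refine mul_mem hk' (ih (fun L hL => hc L (Set.mem_insert_of_mem _ hL)) hm fun y hy => ?_)
    have hky : k * y = y * k := by
      have hle : layer G ≤ Subgroup.centralizer {k} := by
        refine sSup_le fun L hL => ?_
        intro l hl
        rw [Subgroup.mem_centralizer_singleton_iff]
        obtain ⟨⟨k', hk'K⟩, hkc, rfl⟩ := hkz
        rcases components_eq_or_commute hL hKc with rfl | h
        · exact congrArg Subtype.val (Subgroup.mem_center_iff.mp hkc ⟨l, hl⟩)
        · exact comm_of_commutator_eq_bot h hl hk'K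
      exact (Subgroup.mem_centralizer_singleton_iff.mp (hle hy)).symm
    have h1 := hcen y hy
    refine mul_left_cancel (a := k) ?_
    rw [← mul_assoc, h1, ← mul_assoc, ← mul_assoc, hky]

theorem center_layer [Finite G] : (Subgroup.center ↥(layer G)).map (layer G).subtype =
    ⨆ L : {K : Subgroup G // IsComponent K}, (Subgroup.center ↥(L : Subgroup G)).map (L : Subgroup G).subtype := by
  refine le_antisymm ?_ (iSup_le fun L => ?_)
  · rintro _ ⟨⟨x, hx⟩, hc, rfl⟩
    exact central_mem_iSup_center _ (Set.toFinite _) (fun K hK => hK) hx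
      (fun y hy => (congrArg Subtype.val (Subgroup.mem_center_iff.mp hc ⟨y, hy⟩)).symm)
  · rintro _ ⟨⟨x, hx⟩, hc, rfl⟩
    refine ⟨⟨x, le_layer L.2 hx⟩, Subgroup.mem_center_iff.mpr fun y => Subtype.ext ?_, rfl⟩
    have hle : layer G ≤ Subgroup.centralizer {x} := by
      refine sSup_le fun K hK => ?_
      intro k hk
      rw [Subgroup.mem_centralizer_singleton_iff]
      rcases components_eq_or_commute hK L.2 with rfl | h
      · exact congrArg Subtype.val (Subgroup.mem_center_iff.mp hc ⟨k, hk⟩)
      · exact comm_of_commutator_eq_bot h hk hx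
    exact Subgroup.mem_centralizer_singleton_iff.mp (hle y.2)

theorem comm_layer_fitting [Finite G] {e f : G} (he : e ∈ layer G) (hf : f ∈ fittingSubgroup G) : e * f = f * e :=
  (layer_le_centralizer_fitting he f hf).symm

theorem nilpotent_of_comm {A : Subgroup G} (h : ∀ a ∈ A, ∀ b ∈ A, a * b = b * a) : Group.IsNilpotent A :=
  let _ : CommGroup A := { (inferInstance : Group A) with mul_comm := fun a b => Subtype.ext (h _ a.2 _ b.2) }
  inferInstance

theorem center_layer_eq_inf [Finite G] :
    (Subgroup.center ↥(layer G)).map (layer G).subtype = fittingSubgroup G ⊓ layer G := by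
  refine le_antisymm (le_inf ?_ (Subgroup.map_subtype_le _)) ?_
  · refine le_fittingSubgroup (N := (Subgroup.center ↥(layer G)).map (layer G).subtype) (nilpotent_of_comm ?_)
    rintro _ ⟨a, ha, rfl⟩ _ ⟨b, -, rfl⟩
    exact congrArg Subtype.val (Subgroup.mem_center_iff.mp ha b).symm
  · rintro x ⟨hxF, hxE⟩
    exact ⟨⟨x, hxE⟩, Subgroup.mem_center_iff.mpr fun y => Subtype.ext (comm_layer_fitting y.2 hxF), rfl⟩

/-- Solvable normal subgroups of `C(F(G))` lie in `Z(F(G))`. -/
theorem radical_inf_centralizer_fitting [Finite G] :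
    solvableRadical G ⊓ Subgroup.centralizer (fittingSubgroup G : Set G) ≤
      (Subgroup.center ↥(fittingSubgroup G)).map (fittingSubgroup G).subtype := by
  set D := solvableRadical G ⊓ Subgroup.centralizer (fittingSubgroup G : Set G) with hD
  haveI : D.Normal := inferInstance
  have hDF : D ≤ Subgroup.centralizer (generalizedFittingSubgroup G : Set G) := by
    rw [Subgroup.le_centralizer_iff]
    refine sup_le (sSup_le fun K hK => ?_) ?_
    · rw [← Subgroup.commutator_eq_bot_iff_le_centralizer, eq_bot_iff, ← component_commutator_radical hK]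
      exact Subgroup.commutator_mono le_rfl inf_le_left
    · rw [Subgroup.le_centralizer_iff]
      exact inf_le_right
  have hab : ∀ a ∈ D, ∀ b ∈ D, a * b = b * a := fun a ha b hb =>
    ((hDF hb) a (centralizer_generalizedFitting_le (hDF ha)))
  have hDle : D ≤ fittingSubgroup G := le_fittingSubgroup (nilpotent_of_comm hab)
  intro x hx
  exact ⟨⟨x, hDle hx⟩, Subgroup.mem_center_iff.mpr fun y => Subtype.ext (hx.2 _ y.2), rfl⟩

theorem normalized_solvable_le_center [Finite G] (N : Subgroup G)
    (hN : N ≤ Subgroup.centralizer (fittingSubgroup G : Set G))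
    (hnorm : Subgroup.centralizer (fittingSubgroup G : Set G) ≤ Subgroup.normalizer (N : Set G))
    (hsolv : Group.IsSolvable ↥N) :
    N ≤ (Subgroup.center ↥(fittingSubgroup G)).map (fittingSubgroup G).subtype := by
  haveI := (Subgroup.normal_subgroupOf_iff_le_normalizer hN).mpr hnorm
  have hsn : N.IsSubnormal := by
    have h1 := (Subgroup.Normal.isSubnormal (H := N.subgroupOf (Subgroup.centralizer (fittingSubgroup G : Set G)))
      inferInstance).trans' (Subgroup.Normal.isSubnormal (H := Subgroup.centralizer (fittingSubgroup G : Set G))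
        inferInstance)
    rwa [Subgroup.map_subgroupOf_eq_of_le hN] at h1
  exact (le_inf (isSubnormal_solvable_le_radical hsn hsolv) hN).trans radical_inf_centralizer_fitting

theorem gfit_le_of_centralizer_le [Finite G] (Y : Subgroup G) [Y.Normal] (hF : fittingSubgroup G ≤ Y)
    (hC : Subgroup.centralizer (Y : Set G) ≤ Y) : generalizedFittingSubgroup G ≤ Y := by
  refine sup_le (sSup_le fun K hK => ?_) hF
  rcases component_le_or_commutator_eq_bot hK Y with h | h
  · exact h
  · exact (Subgroup.commutator_eq_bot_iff_le_centralizer.mp h).trans hC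

theorem centralizer_fitting_le_iff [Finite G] :
    Subgroup.centralizer (fittingSubgroup G : Set G) ≤ fittingSubgroup G ↔ layer G = ⊥ := by
  constructor
  · intro h
    rw [eq_bot_iff]
    exact sSup_le fun K hK => (component_not_le_fitting hK
      ((le_layer hK).trans (layer_le_centralizer_fitting.trans h))).elim
  · intro h
    have := centralizer_generalizedFitting_le (G := G)
    rwa [generalizedFittingSubgroup, h, bot_sup_eq] at this

theorem gfit_inf_normal [Finite G] (B : Subgroup G) [B.Normal] :
    generalizedFittingSubgroup G ⊓ B = (generalizedFittingSubgroup ↥B).map B.subtype := by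
  refine le_antisymm ?_ ?_
  · rintro x ⟨hx, hxB⟩
    let s : Set (Subgroup G) := {K | IsComponent K ∧ K ≤ B}
    let t : Set (Subgroup G) := {K | IsComponent K ∧ ¬ K ≤ B}
    have ht : ⁅sSup t, B⁆ = ⊥ := by
      rw [Subgroup.commutator_eq_bot_iff_le_centralizer]
      refine sSup_le fun K hK => ?_
      rw [← Subgroup.commutator_eq_bot_iff_le_centralizer]
      exact (component_le_or_commutator_eq_bot hK.1 B).resolve_left hK.2
    have hst : ⁅sSup s, sSup t⁆ = ⊥ := by
      rw [Subgroup.commutator_comm, eq_bot_iff, ← ht]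
      exact Subgroup.commutator_mono le_rfl (sSup_le fun K hK => hK.2)
    have hE : layer G ≤ sSup s ⊔ sSup t := sSup_le fun K hK => by
      by_cases h : K ≤ B
      · exact le_sup_of_le_left (le_sSup (show K ∈ s from ⟨hK, h⟩))
      · exact le_sup_of_le_right (le_sSup (show K ∈ t from ⟨hK, h⟩))
    have hsE : sSup s ≤ layer G := sSup_le fun K hK => le_layer hK.1
    have htE : sSup t ≤ layer G := sSup_le fun K hK => le_layer hK.1
    obtain ⟨e, he, f, hf, rfl⟩ := mem_sup_of_commutator_eq_bot (A := layer G) (B := fittingSubgroup G)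
      (Subgroup.commutator_eq_bot_iff_le_centralizer.mpr layer_le_centralizer_fitting) hx
    obtain ⟨e₁, he₁, e₂, he₂, rfl⟩ := mem_sup_of_commutator_eq_bot hst (hE he)
    have hs : sSup s ≤ (layer ↥B).map B.subtype := sSup_le fun K hK => by
      rw [← Subgroup.map_subgroupOf_eq_of_le hK.2]
      exact Subgroup.map_mono (le_layer (isComponent_subgroupOf hK.1 hK.2))
    have he₁B : e₁ ∈ B := (hs.trans (Subgroup.map_subtype_le _)) he₁
    have hyB : e₂ * f ∈ B := by
      have := mul_mem (inv_mem he₁B) hxB
      rwa [mul_assoc e₁, inv_mul_cancel_left] at this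
    have he₂Z : e₂ ∈ fittingSubgroup G ⊓ layer G := by
      rw [← center_layer_eq_inf]
      refine ⟨⟨e₂, htE he₂⟩, Subgroup.mem_center_iff.mpr fun z => Subtype.ext ?_, rfl⟩
      show (z : G) * e₂ = e₂ * z
      obtain ⟨z₁, hz₁, z₂, hz₂, e⟩ := mem_sup_of_commutator_eq_bot hst (hE z.2)
      rw [e]
      have h1 : z₁ * e₂ = e₂ * z₁ := comm_of_commutator_eq_bot hst hz₁ he₂
      have h2 : z₂ * e₂ = e₂ * z₂ := by
        have h3 := comm_of_commutator_eq_bot ht hz₂ hyB
        rw [← mul_assoc, mul_assoc e₂ f, ← comm_layer_fitting (htE hz₂) hf, ← mul_assoc] at h3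
        exact mul_right_cancel h3
      rw [mul_assoc, h2, ← mul_assoc, h1, mul_assoc]
    have hyF : (⟨e₂ * f, hyB⟩ : B) ∈ fittingSubgroup ↥B := by
      have hn : Group.IsNilpotent ↥((fittingSubgroup G).subgroupOf B) := by
        have := isNilpotent_fittingSubgroup (G := G)
        refine Subgroup.isNilpotent_of_ker_le_center (B.subtype.subgroupComap (fittingSubgroup G)) ?_
        intro a ha
        rw [show a = 1 from Subtype.ext (Subtype.ext (congrArg (fun z : fittingSubgroup G => (z : G)) ha))]
        exact one_mem _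
      exact le_fittingSubgroup hn (show e₂ * f ∈ fittingSubgroup G from mul_mem he₂Z.1 hf)
    rw [generalizedFittingSubgroup, Subgroup.map_sup, mul_assoc e₁]
    exact Subgroup.mul_mem_sup (hs he₁) ⟨_, hyF, rfl⟩
  · rw [generalizedFittingSubgroup, Subgroup.map_sup]
    exact sup_le (le_inf ((map_layer_le B).trans layer_le_generalized) (Subgroup.map_subtype_le _))
      (le_inf ((map_fittingSubgroup_le B).trans fittingSubgroup_le_generalized) (Subgroup.map_subtype_le _))

theorem gfit_top_of_normal [Finite G] (h : generalizedFittingSubgroup G = ⊤) (B : Subgroup G) [B.Normal] :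
    generalizedFittingSubgroup ↥B = ⊤ := by
  refine Subgroup.map_injective B.subtype_injective ?_
  rw [← gfit_inf_normal, h, top_inf_eq, ← MonoidHom.range_eq_map, Subgroup.range_subtype]

theorem gfit_top_of_subnormal [Finite G] (h : generalizedFittingSubgroup G = ⊤) {H : Subgroup G} (hH : H.IsSubnormal) :
    generalizedFittingSubgroup ↥H = ⊤ := by
  induction hn : Nat.card G using Nat.strong_induction_on generalizing G with
  | h n ih =>
    subst hn
    rcases hH.lt_normal with rfl | ⟨M, hM, hHM, hMlt⟩
    · rw [← map_generalizedFittingSubgroup_equiv (Subgroup.topEquiv (G := G)).symm, h,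
        Subgroup.map_top_of_surjective _ Subgroup.topEquiv.symm.surjective]
    · have h1 := ih _ (card_lt_of_lt_top hMlt) (gfit_top_of_normal h M) (hH.subgroupOf (K := M)) rfl
      rw [← map_generalizedFittingSubgroup_equiv (Subgroup.subgroupOfEquivOfLe hHM), h1,
        Subgroup.map_top_of_surjective _ (Subgroup.subgroupOfEquivOfLe hHM).surjective]

theorem gfit_gfit [Finite G] : generalizedFittingSubgroup ↥(generalizedFittingSubgroup G) = ⊤ := by
  refine Subgroup.map_injective (generalizedFittingSubgroup G).subtype_injective ?_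
  rw [← gfit_inf_normal, inf_idem, ← MonoidHom.range_eq_map, Subgroup.range_subtype]

/-- `C_G(O_p(G)) ≤ O_p(G)` in terms of `F*`. -/
theorem gfit_eq_pCore_iff [Finite G] (p : ℕ) [Fact p.Prime] :
    generalizedFittingSubgroup G = pCore p G ↔
      Subgroup.centralizer (pCore p G : Set G) ≤ pCore p G := by
  constructor
  · intro h
    rw [← h]
    exact centralizer_generalizedFitting_le
  · intro hC
    refine le_antisymm (sup_le (sSup_le fun K hK => ?_) ?_)
      ((pCore_le_fittingSubgroup Fact.out).trans fittingSubgroup_le_generalized)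
    · exfalso
      refine component_not_le_fitting hK (((?_ : K ≤ _).trans hC).trans (pCore_le_fittingSubgroup Fact.out))
      exact (le_layer hK).trans (layer_le_centralizer_fitting.trans
        (Subgroup.centralizer_le (pCore_le_fittingSubgroup Fact.out)))
    · rw [fittingSubgroup_eq_iSup_pCore]
      refine iSup_le fun q => ?_
      rcases eq_or_ne (q : ℕ) p with e | e
      · rw [e]
      · refine le_trans ?_ hC
        rw [← Subgroup.commutator_eq_bot_iff_le_centralizer, eq_bot_iff]
        refine (Subgroup.commutator_le_inf _ _).trans ?_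
        haveI : Fact (q : ℕ).Prime := ⟨q.2⟩
        rw [(IsPGroup.disjoint_of_ne (q : ℕ) p e _ _ (isPGroup_pCore (q : ℕ)) (isPGroup_pCore p)).eq_bot]

theorem isPGroup_gfit_iff [Finite G] (p : ℕ) [Fact p.Prime] :
    IsPGroup p ↥(generalizedFittingSubgroup G) ↔ Subgroup.centralizer (pCore p G : Set G) ≤ pCore p G := by
  rw [← gfit_eq_pCore_iff]
  exact ⟨fun h => le_antisymm (le_pCore h) ((pCore_le_fittingSubgroup Fact.out).trans fittingSubgroup_le_generalized),
    fun h => h ▸ isPGroup_pCore p⟩

end CfsgLib.Comp
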