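import Cfsg.Agent.Lib.Comp.PumpY
import Cfsg.Agent.Lib.Comp.CompMove
import Cfsg.Prelude.Def_EvenTechniques

/-!
Hypothesis on sections (`B_p`-property and Schreier property) and its inheritance; homomorphic images
of quasisimple groups and of `p`-components.
-/

set_option autoImplicit false
set_option linter.unusedSectionVars false

namespace CfsgLib.Comp

open Cfsg Subgroup

universe u v

theorem isQuasisimple_of_surj_nontrivial {A : Type u} {B : Type v} [Group A] [Group B] (g : A →* B)
    (hg : Function.Surjective g) (h : IsQuasisimple A) [Nontrivial B] : IsQuasisimple B := by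
  haveI := h.1
  haveI hperf : Group.IsPerfect B := Group.IsPerfect.ofSurjective hg
  refine ⟨hperf, ?_⟩
  have hc : (Subgroup.center B).comap g = Subgroup.center A := by
    refine le_antisymm ((quasisimple_normal_le_center_or_eq_top h _).resolve_right fun e => ?_) ?_
    · refine Group.IsPerfect.not_isSolvable B (Group.isSolvable_of_comm fun a b => ?_)
      obtain ⟨a, rfl⟩ := hg a
      exact (Subgroup.mem_center_iff.mp (show g a ∈ Subgroup.center B from
        (e ▸ Subgroup.mem_top a : a ∈ (Subgroup.center B).comap g)) b).symm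
    · intro a ha
      rw [Subgroup.mem_comap, Subgroup.mem_center_iff]
      intro b
      obtain ⟨b, rfl⟩ := hg b
      rw [← map_mul, ← map_mul, Subgroup.mem_center_iff.mp ha b]
  have hker : ((QuotientGroup.mk' (Subgroup.center B)).comp g).ker = Subgroup.center A := by
    rw [← MonoidHom.comap_ker, QuotientGroup.ker_mk', hc]
  exact ((QuotientGroup.quotientMulEquivOfEq hker.symm).trans
    (QuotientGroup.quotientKerEquivOfSurjective _
      ((QuotientGroup.mk'_surjective _).comp hg))).isSimpleGroup_congr.mp h.2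

theorem subnormal_le_center_or_top {A : Type u} [Group A] [Finite A] (h : IsQuasisimple A) {S : Subgroup A}
    (hS : S.IsSubnormal) : S ≤ Subgroup.center A ∨ S = ⊤ := by
  have hc : IsComponent (⊤ : Subgroup A) :=
    ⟨Subgroup.IsSubnormal.top, isQuasisimple_of_equiv Subgroup.topEquiv.symm h⟩
  rcases exists_split_of_subnormal hS hc with h1 | h1
  · exact Or.inr (top_le_iff.mp h1)
  · left
    rw [Subgroup.commutator_comm, Subgroup.commutator_eq_bot_iff_le_centralizer, Subgroup.coe_top,
      Subgroup.centralizer_univ] at h1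
    exact h1

theorem map_center_of_equiv {A : Type u} {B : Type v} [Group A] [Group B] (e : A ≃* B) :
    (Subgroup.center A).map e.toMonoidHom = Subgroup.center B := by
  ext x
  rw [Subgroup.mem_map_equiv, Subgroup.mem_center_iff, Subgroup.mem_center_iff]
  constructor
  · intro h y
    apply e.symm.injective
    rw [map_mul, map_mul, h]
  · intro h y
    apply e.injective
    rw [map_mul, map_mul, e.apply_symm_apply, h]

theorem out_congr {A : Type u} {B : Type v} [Group A] [Group B] (e : A ≃* B)
    (h : Group.IsSolvable (Cfsg.Out A)) : Group.IsSolvable (Cfsg.Out B) := by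
  haveI := h
  have hi : (Cfsg.Inn A).map (MulAut.congr e).toMonoidHom = Cfsg.Inn B := by
    ext α
    constructor
    · rintro ⟨-, ⟨g, rfl⟩, rfl⟩
      exact ⟨e g, MulEquiv.ext fun x => by simp [MulAut.congr, map_mul, map_inv]⟩
    · rintro ⟨g, rfl⟩
      exact ⟨_, ⟨e.symm g, rfl⟩, MulEquiv.ext fun x => by simp [MulAut.congr, map_mul, map_inv]⟩
  let E := QuotientGroup.congr (Cfsg.Inn A) (Cfsg.Inn B) (MulAut.congr e) hi
  exact Group.isSolvable_of_surjective (f := E.toMonoidHom) E.surjective

/-- The two properties asked of a section. -/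
def SecGood (p : ℕ) (S : Type u) [Group S] : Prop :=
  HasQuasisimpleGeneralizedFitting S → pPrimeCore p S = ⊥ → HasBpProperty p S ∧
    Group.IsSolvable (Cfsg.Out (↥(generalizedFittingSubgroup S) ⧸
      Subgroup.center ↥(generalizedFittingSubgroup S)))

/-- Every section has the `B_p`-property and the Schreier property. -/
def BHyp (p : ℕ) (X : Type u) [Group X] : Prop :=
  ∀ (H : Subgroup X) (N : Subgroup ↥H) [N.Normal], SecGood p (↥H ⧸ N)

variable {p : ℕ} [Fact p.Prime]

theorem SecGood.of_equiv {A : Type u} {B : Type v} [Group A] [Group B] [Finite A] [Finite B] (e : A ≃* B)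
    (h : SecGood p A) : SecGood p B := by
  intro hq hO
  let eF : ↥(generalizedFittingSubgroup A) ≃* ↥(generalizedFittingSubgroup B) :=
    (e.subgroupMap _).trans (MulEquiv.subgroupCongr (map_generalizedFittingSubgroup_equiv e))
  have hOA : pPrimeCore p A = ⊥ := by
    have h2 := pPrimeCore_map_equiv p e.symm
    rw [hO, Subgroup.map_bot] at h2
    exact h2.symm
  obtain ⟨⟨-, hB⟩, hS⟩ := h (isQuasisimple_of_equiv eF.symm hq) hOA
  refine ⟨⟨hO, fun y hy K hK => ?_⟩, out_congr (QuotientGroup.congr _ _ eF (map_center_of_equiv eF)) hS⟩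
  set y' := e.symm y with hy'
  have hord : orderOf y' = p := by rw [hy', MulEquiv.orderOf_eq, hy]
  have hmap : (Subgroup.centralizer ({y} : Set B)).map e.symm.toMonoidHom = Subgroup.centralizer ({y'} : Set A) := by
    ext a
    rw [Subgroup.mem_map_equiv, MulEquiv.symm_symm, Subgroup.mem_centralizer_singleton_iff,
      Subgroup.mem_centralizer_singleton_iff, ← e.symm.injective.eq_iff, map_mul, map_mul,
      e.symm_apply_apply, hy']
  let eC : ↥(Subgroup.centralizer ({y} : Set B)) ≃* ↥(Subgroup.centralizer ({y'} : Set A)) :=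
    (e.symm.subgroupMap _).trans (MulEquiv.subgroupCongr hmap)
  have hK' : IsPComponent p (K.map eC.toMonoidHom) := isPComponent_map_surjective eC.toMonoidHom eC.surjective
    (by rw [(MonoidHom.ker_eq_bot_iff eC.toMonoidHom).mpr eC.injective]; exact bot_le) hK
  exact isQuasisimple_of_equiv (eC.subgroupMap K).symm (hB y' hord _ hK')

theorem BHyp.of_surj {X : Type u} {Y : Type u} [Group X] [Group Y] [Finite X] [Finite Y] (h : BHyp p X)
    (M : Subgroup X) (g : ↥M →* Y) (hg : Function.Surjective g) : BHyp p Y := by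
  intro H N _
  let e1 := Subgroup.equivMapOfInjective (H.comap g) M.subtype M.subtype_injective
  let φ : ↥((H.comap g).map M.subtype) →* ↥H ⧸ N :=
    (QuotientGroup.mk' N).comp ((g.subgroupComap H).comp e1.symm.toMonoidHom)
  have hφ : Function.Surjective φ := by
    intro z
    obtain ⟨w, rfl⟩ := QuotientGroup.mk'_surjective N z
    obtain ⟨m, hm⟩ := hg w
    refine ⟨e1 ⟨m, show g m ∈ H from hm ▸ w.2⟩, ?_⟩
    show QuotientGroup.mk' N ((g.subgroupComap H) (e1.symm (e1 _))) = _
    rw [e1.symm_apply_apply]
    exact congrArg _ (Subtype.ext hm)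
  exact (h ((H.comap g).map M.subtype) φ.ker).of_equiv (QuotientGroup.quotientKerEquivOfSurjective φ hφ)

theorem generalizedFitting_eq_top {A : Type u} [Group A] (h : IsQuasisimple A) :
    generalizedFittingSubgroup A = ⊤ :=
  top_le_iff.mp (le_trans (le_layer ⟨Subgroup.IsSubnormal.top, isQuasisimple_of_equiv Subgroup.topEquiv.symm h⟩)
    layer_le_generalized)

theorem BHyp.schreier {X : Type u} [Group X] [Finite X] (h : BHyp p X) :
    ∀ J : Subgroup (X ⧸ pPrimeCore p X), IsComponent J →
      Group.IsSolvable (Cfsg.Out (↥J ⧸ Subgroup.center ↥J)) := by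
  intro J hJ
  have hQ : BHyp p (X ⧸ pPrimeCore p X) := h.of_surj ⊤ ((bar p X).comp Subgroup.topEquiv.toMonoidHom)
    ((bar_surjective p).comp (show Function.Surjective (Subgroup.topEquiv (G := X)).toMonoidHom from Subgroup.topEquiv.surjective))
  have hJ' : SecGood p ↥J := (hQ J ⊥).of_equiv QuotientGroup.quotientBot
  have hF := generalizedFitting_eq_top hJ.2
  let eF : ↥(generalizedFittingSubgroup ↥J) ≃* ↥J := (MulEquiv.subgroupCongr hF).trans Subgroup.topEquiv
  have hq : HasQuasisimpleGeneralizedFitting ↥J := isQuasisimple_of_equiv eF.symm hJ.2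
  have hO : pPrimeCore p ↥J = ⊥ := by
    rw [pPrimeCore_subgroupOf_subnormal hJ.1, pPrimeCore_quotient_eq_bot, Subgroup.bot_subgroupOf]
  exact out_congr (QuotientGroup.congr _ _ eF (map_center_of_equiv eF)) (hJ' hq hO).2

/-- Image of a `p`-component under a map with central kernel. -/
theorem IsPC.map_central {G : Type u} [Group G] [Finite G] {G' : Type v} [Group G'] [Finite G']
    {L H : Subgroup G} (h : IsPC p L H) (f : G →* G') {H' : Subgroup G'} (hle : L.map f ≤ H')
    (hsn : ((L.map f).subgroupOf H').IsSubnormal) (hker : L ⊓ f.ker ≤ Subgroup.centralizer (L : Set G)) :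
    IsPC p (L.map f) H' ∧ (IsQuasisimple ↥(L.map f) → IsQuasisimple ↥L) := by
  have hp : pEl p (L.map f) = L.map f := le_antisymm (pEl_le _) (by
    conv_lhs => rw [← h.pel]
    exact pEl_map_le f L)
  have hkc : (f.subgroupMap L).ker ≤ Subgroup.center ↥L := fun x hx => by
    rw [Subgroup.mem_center_iff]
    intro y
    refine Subtype.ext ?_
    exact hker (Subgroup.mem_inf.mpr ⟨x.2, MonoidHom.mem_ker.mpr (congrArg Subtype.val (MonoidHom.mem_ker.mp hx))⟩)
      y y.2
  let g : ↥L ⧸ pPrimeCore p ↥L →* ↥(L.map f) ⧸ pPrimeCore p ↥(L.map f) :=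
    QuotientGroup.map _ _ (f.subgroupMap L) (by
      haveI := (inferInstance : (pPrimeCore p ↥L).Normal).map _ (f.subgroupMap_surjective L)
      exact Subgroup.map_le_iff_le_comap.mp (le_pPrimeCore
        (Nat.Coprime.coprime_dvd_left (Subgroup.card_map_dvd _ _) (card_pPrimeCore_coprime p))))
  have hg : Function.Surjective g := by
    intro z
    obtain ⟨z, rfl⟩ := QuotientGroup.mk'_surjective _ z
    obtain ⟨w, rfl⟩ := f.subgroupMap_surjective L z
    exact ⟨QuotientGroup.mk w, rfl⟩
  haveI : Nontrivial (↥(L.map f) ⧸ pPrimeCore p ↥(L.map f)) := by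
    refine QuotientGroup.nontrivial_iff.mpr fun htop => h.not_comm fun a ha b hb => ?_
    have hc : (Nat.card ↥(L.map f)).Coprime p := by
      rw [← Subgroup.card_top (G := ↥(L.map f)), ← htop]
      exact card_pPrimeCore_coprime p
    have hb' : L.map f = ⊥ := hp.symm.trans (pEl_eq_bot_of_coprime hc)
    exact (hker (Subgroup.mem_inf.mpr ⟨ha, (Subgroup.map_eq_bot_iff L).mp hb' ha⟩) b hb).symm
  refine ⟨⟨hle, hsn, hp, isQuasisimple_of_surj_nontrivial g hg h.qs⟩, fun hq => ?_⟩
  refine quasisimple_of_central_quotient (Subgroup.isPerfect_iff.mpr h.perfect) _ hkc ?_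
  exact isQuasisimple_of_equiv
    (QuotientGroup.quotientKerEquivOfSurjective _ (f.subgroupMap_surjective L)).symm hq

end CfsgLib.Comp
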