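import Cfsg.Agent.Lib.Comp.CompMove
import Cfsg.Agent.Lib.Comp.CharPType
import Cfsg.Prelude.Def_Balance

/-!
From local balance of the components to balance: cores of centralizers of elements of order `p` normalise
every component and act on each of them inside the cores of centralizers in its automorphism group.
-/

set_option autoImplicit false
set_option linter.unusedSectionVars false

namespace CfsgLib.Comp

open Cfsg Subgroup
open scoped commutatorElement

universe u v
variable {G : Type u} [Group G] [Finite G] {p : ℕ} [Fact p.Prime]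

theorem card_centralizerCore_coprime (x : G) : (Nat.card (centralizerPPrimeCore p x)).Coprime p := by
  rw [centralizerPPrimeCore, Subgroup.card_map_of_injective (Subgroup.subtype_injective _)]
  exact card_pPrimeCore_coprime p

theorem centralizerCore_le (x : G) : centralizerPPrimeCore p x ≤ Subgroup.centralizer ({x} : Set G) :=
  Subgroup.map_subtype_le _

theorem centralizerCore_conj {x c d : G} (hc : c ∈ Subgroup.centralizer ({x} : Set G))
    (hd : d ∈ centralizerPPrimeCore p x) : c * d * c⁻¹ ∈ centralizerPPrimeCore p x := by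
  obtain ⟨d, hd, rfl⟩ := hd
  exact ⟨⟨c, hc⟩ * d * ⟨c, hc⟩⁻¹, (inferInstance : (pPrimeCore p _).Normal).conj_mem d hd _, rfl⟩

theorem le_centralizerCore {x : G} {W : Subgroup G} (hW : W ≤ Subgroup.centralizer ({x} : Set G))
    (hn : Subgroup.centralizer ({x} : Set G) ≤ Subgroup.normalizer (W : Set G))
    (hc : (Nat.card W).Coprime p) : W ≤ centralizerPPrimeCore p x := by
  haveI := (Subgroup.normal_subgroupOf_iff_le_normalizer hW).mpr hn
  calc W = (W.subgroupOf (Subgroup.centralizer ({x} : Set G))).map (Subgroup.centralizer ({x} : Set G)).subtype :=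
        (Subgroup.map_subgroupOf_eq_of_le hW).symm
    _ ≤ _ := Subgroup.map_mono
      (le_pPrimeCore (by rwa [Nat.card_congr (Subgroup.subgroupOfEquivOfLe hW).toEquiv]))

theorem zpowers_isPGroup_of_order {x : G} (hx : orderOf x = p) : IsPGroup p ↥(Subgroup.zpowers x) :=
  zpowers_isPGroup (n := 1) (by rw [pow_one, ← hx, pow_orderOf_eq_one])

theorem centralizerCore_centralizes_pCore {x : G} (hx : orderOf x = p) :
    centralizerPPrimeCore p x ≤ Subgroup.centralizer (pCore p G : Set G) := by
  intro d hd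
  haveI : (pCore p G).Normal := Subgroup.sSup_normal _ (fun _ h => h.1)
  refine centralizes_pCore (zpowers_isPGroup_of_order hx)
    (Nat.Coprime.coprime_dvd_left (Subgroup.orderOf_dvd_natCard _ hd) (card_centralizerCore_coprime x)) ?_ ?_
  · intro z hz
    obtain ⟨i, rfl⟩ := Subgroup.mem_zpowers_iff.mp hz
    exact ((show Commute x d from (Subgroup.mem_centralizer_singleton_iff.mp (centralizerCore_le x hd)).symm).zpow_left i).eq
  · intro y hy hyx
    have hyC : y ∈ Subgroup.centralizer ({x} : Set G) :=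
      Subgroup.mem_centralizer_singleton_iff.mpr (hyx x (Subgroup.mem_zpowers x)).symm
    have h1 : d * y * d⁻¹ * y⁻¹ ∈ centralizerPPrimeCore p x ⊓ pCore p G := by
      refine Subgroup.mem_inf.mpr ⟨?_, mul_mem ((inferInstance : (pCore p G).Normal).conj_mem y hy d) (inv_mem hy)⟩
      rw [show d * y * d⁻¹ * y⁻¹ = d * (y * d⁻¹ * y⁻¹) by group]
      exact mul_mem hd (centralizerCore_conj hyC (inv_mem hd))
    rw [Subgroup.inf_eq_bot_of_coprime, Subgroup.mem_bot] at h1
    · exact mul_inv_eq_iff_eq_mul.mp (mul_inv_eq_one.mp h1)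
    · obtain ⟨k, hk⟩ := IsPGroup.iff_card.mp (isPGroup_pCore (G := G) p)
      rw [hk]; exact (card_centralizerCore_coprime x).pow_right k

/-- An element centralising `Q ≥ O_p(G)` whose commutators with the layer in `N(Q)` lie in `O_{p'}(N(Q))`
permutes components as `Q` does. -/
theorem cj_mem_orbit (hO : pPrimeCore p G = ⊥) {Q : Subgroup G} (hQ : IsPGroup p Q) (hPQ : pCore p G ≤ Q)
    {J : Subgroup G} (hJ : IsComponent J) (k : ↥(Subgroup.normalizer (Q : Set G)))
    (hkQ : ∀ q ∈ Q, (k : G) * q = q * k)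
    (hkN : ∀ x : ↥(Subgroup.normalizer (Q : Set G)), (x : G) ∈ layer G →
      ⁅k, x⁆ ∈ pPrimeCore p ↥(Subgroup.normalizer (Q : Set G))) :
    ∃ q ∈ Q, cj (k : G) J = cj q J := by
  by_contra hne
  push Not at hne
  obtain ⟨x, hxE, hxN, ⟨n, hn⟩, b, hb, hxb⟩ := exists_noncentral_normalizing hO hQ hPQ hJ
  set E := orbitSup Q J with hE
  have hcomm : cj (k : G) E ≤ Subgroup.centralizer (E : Set G) := by
    rw [hE, cj, Subgroup.map_iSup]
    refine iSup_le fun q => ?_
    rw [Subgroup.le_centralizer_iff]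
    refine iSup_le fun r => ?_
    rw [← Subgroup.le_centralizer_iff, ← Subgroup.commutator_eq_bot_iff_le_centralizer]
    refine (components_eq_or_commute (isComponent_map_equiv (MulAut.conj (k : G))
      (isComponent_map_equiv (MulAut.conj (q : G)) hJ))
      (isComponent_map_equiv (MulAut.conj (r : G)) hJ)).resolve_left fun e => ?_
    refine hne ((q : G)⁻¹ * r) (Subgroup.mul_mem Q (Subgroup.inv_mem Q q.2) r.2) ?_
    have e' : cj (k : G) (cj (q : G) J) = cj (r : G) J := e
    rw [← cj_mul, hkQ q q.2, cj_mul] at e'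
    rw [cj_mul (q : G)⁻¹ (r : G), ← e', ← cj_mul, inv_mul_cancel]
    ext z
    simp [cj]
  set y := (k : G) * x * (k : G)⁻¹ with hy
  have hyE : y ∈ cj (k : G) E := ⟨x, hxE, rfl⟩
  have hxy : Commute y x := (hcomm hyE x hxE).symm
  have hyx : y * x⁻¹ = 1 := by
    have hmem := hkN ⟨x, hxN⟩ (orbitSup_le_layer Q hJ hxE)
    have e : ((⁅k, (⟨x, hxN⟩ : ↥(Subgroup.normalizer (Q : Set G)))⁆ : ↥(Subgroup.normalizer (Q : Set G))) : G) = y * x⁻¹ := by
      rw [commutatorElement_def]
      push_cast
      rfl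
    have hpow : (y * x⁻¹) ^ p ^ n = 1 := by
      rw [hxy.inv_right.mul_pow, hy, conj_pow, hn, inv_pow, hn]
      group
    rw [← e, OneMemClass.coe_eq_one]
    exact pElement_eq_one_of_coprime (card_pPrimeCore_coprime p) hmem (n := n)
      (Subtype.ext (by push_cast; rw [e]; exact hpow))
  have hxy' : y = x := mul_inv_eq_one.mp hyx
  exact hxb ((hcomm (hxy' ▸ hyE) b hb).symm)

/-- Elements of `O_{p'}(N(Q))`, `Q ≥ O_p(G)` a `p`-group, normalise every component. -/
theorem core_normalizer_normalizes (hO : pPrimeCore p G = ⊥) {Q : Subgroup G} (hQ : IsPGroup p Q)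
    (hPQ : pCore p G ≤ Q) {J : Subgroup G} (hJ : IsComponent J) :
    (pPrimeCore p ↥(Subgroup.normalizer (Q : Set G))).map (Subgroup.normalizer (Q : Set G)).subtype ≤
      Subgroup.normalizer (J : Set G) := by
  set M := Subgroup.normalizer (Q : Set G) with hM
  set O := pPrimeCore p ↥M with hOdef
  rintro _ ⟨k, hk, rfl⟩
  have hkQ : ∀ q ∈ Q, (k : G) * q = q * k := by
    intro q hq
    haveI : (Q.subgroupOf M).Normal :=
      (Subgroup.normal_subgroupOf_iff_le_normalizer Subgroup.le_normalizer).mpr le_rfl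
    have hmem : ⁅k, (⟨q, Subgroup.le_normalizer hq⟩ : ↥M)⁆ ∈ O ⊓ Q.subgroupOf M :=
      Subgroup.commutator_le_inf _ _ (Subgroup.commutator_mem_commutator hk hq)
    obtain ⟨a, ha⟩ := IsPGroup.iff_card.mp
      (hQ.of_equiv (Subgroup.subgroupOfEquivOfLe (Subgroup.le_normalizer : Q ≤ M)).symm)
    rw [Subgroup.inf_eq_bot_of_coprime (by rw [ha]; exact (card_pPrimeCore_coprime p).pow_right a),
      Subgroup.mem_bot, commutatorElement_eq_one_iff_mul_comm] at hmem
    exact congrArg Subtype.val hmem
  obtain ⟨q, hq, e⟩ := cj_mem_orbit hO hQ hPQ hJ k hkQ fun x _ => by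
    rw [commutatorElement_def, show k * x * k⁻¹ * x⁻¹ = k * (x * k⁻¹ * x⁻¹) by group]
    exact mul_mem hk ((inferInstance : O.Normal).conj_mem _ (inv_mem hk) x)
  have h1 := mem_normalizer_of_cj (cj_inv_eq e)
  obtain ⟨n, hn⟩ := hQ ⟨q, hq⟩
  have h2 := Subgroup.pow_mem _ h1 (p ^ n)
  have hc : Commute q⁻¹ (k : G) := (show Commute q (k : G) from (hkQ q hq).symm).inv_left
  rw [hc.mul_pow, inv_pow, show q ^ p ^ n = 1 from congrArg Subtype.val hn, inv_one, one_mul] at h2
  obtain ⟨m, hm⟩ := exists_pow_eq_self_of_coprime (x := (k : G)) (n := p ^ n) (by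
    rw [Subgroup.orderOf_coe]
    exact ((Nat.Coprime.coprime_dvd_left (Subgroup.orderOf_dvd_natCard _ hk) (card_pPrimeCore_coprime p)).pow_right n).symm)
  show (k : G) ∈ _
  rw [← hm]
  exact Subgroup.pow_mem _ h2 m

/-- `O_{p'}(C(x))` normalises every component. -/
theorem centralizerCore_normalizes (hO : pPrimeCore p G = ⊥) {x : G} (hx : orderOf x = p) {J : Subgroup G}
    (hJ : IsComponent J) : centralizerPPrimeCore p x ≤ Subgroup.normalizer (J : Set G) := by
  haveI : (pCore p G).Normal := Subgroup.sSup_normal _ (fun _ h => h.1)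
  set D := centralizerPPrimeCore p x with hD
  set Q := Subgroup.zpowers x ⊔ pCore p G with hQ
  have hQp : IsPGroup p Q := (zpowers_isPGroup_of_order hx).to_sup_of_normal_right (isPGroup_pCore p)
  set M := Subgroup.normalizer (Q : Set G) with hM
  set C := Subgroup.centralizer (Q : Set G) with hC
  have hDC : D ≤ C := by
    rw [hC, Subgroup.le_centralizer_iff]
    refine sup_le ?_ (Subgroup.le_centralizer_iff.mp (centralizerCore_centralizes_pCore hx))
    rw [Subgroup.zpowers_le]
    exact fun d hd => Subgroup.mem_centralizer_singleton_iff.mp (centralizerCore_le x hd)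
  have hCx : C ≤ Subgroup.centralizer ({x} : Set G) := fun c hc =>
    Subgroup.mem_centralizer_singleton_iff.mpr (hc x (Subgroup.mem_sup_left (Subgroup.mem_zpowers x))).symm
  have hCM : C ≤ M := centralizer_le_normalizer' Q
  haveI : (C.subgroupOf M).Normal := centralizer_subgroupOf_normalizer_normal Q
  have hsn : (D.subgroupOf M).IsSubnormal := by
    refine Subgroup.IsSubnormal.step _ (C.subgroupOf M) (fun z hz => hDC hz)
      (Subgroup.Normal.isSubnormal inferInstance) ?_
    refine (Subgroup.normal_subgroupOf_iff_le_normalizer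
      (show D.subgroupOf M ≤ C.subgroupOf M from fun z hz => hDC hz)).mpr fun g hg => ?_
    exact mem_normalizer_of_maps fun z hz => centralizerCore_conj (hCx hg) hz
  have hle := subnormal_coprime_le (p := p) hsn (by
    rw [Nat.card_congr (Subgroup.subgroupOfEquivOfLe (hDC.trans hCM)).toEquiv]
    exact card_centralizerCore_coprime x)
  intro d hd
  exact core_normalizer_normalizes hO hQp le_sup_right hJ ⟨⟨d, hCM (hDC hd)⟩, hle hd, rfl⟩

theorem center_le_pCore (hO : pPrimeCore p G = ⊥) {L : Subgroup G} (hL : IsComponent L) :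
    (Subgroup.center ↥L).map L.subtype ≤ pCore p G := by
  refine le_trans ?_ (fitting_eq_pCore (Fact.out : p.Prime) hO).le
  have h1 : (Subgroup.center ↥L).map L.subtype ≤ (Subgroup.center ↥(layer G)).map (layer G).subtype := by
    rw [center_layer]
    exact le_iSup (fun K : {K : Subgroup G // IsComponent K} =>
      (Subgroup.center ↥(K : Subgroup G)).map (K : Subgroup G).subtype) ⟨L, hL⟩
  exact h1.trans (center_layer_eq_inf.le.trans inf_le_left)

theorem centralizer_inf_le_center (L : Subgroup G) :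
    L ⊓ Subgroup.centralizer (L : Set G) ≤ (Subgroup.center ↥L).map L.subtype := fun z hz =>
  ⟨⟨z, (Subgroup.mem_inf.mp hz).1⟩, Subgroup.mem_center_iff.mpr fun y => Subtype.ext
    ((Subgroup.mem_inf.mp hz).2 y y.2), rfl⟩

/-- On a component normalised by `x`, the core of `C(x)` acts inside the core of the centralizer of `x`
in the group induced on the component. -/
theorem core_image_le (hO : pPrimeCore p G = ⊥) {x : G} (hx : orderOf x = p) {L : Subgroup G}
    (hL : IsComponent L) (H : Subgroup G) (hHN : H ≤ Subgroup.normalizer (L : Set G)) (hLH : L ≤ H)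
    (hxH : x ∈ H) (hHC : ∀ h ∈ H, ∃ l ∈ L, ∃ c ∈ H, c ∈ Subgroup.centralizer ({x} : Set G) ∧ h = l * c)
    {M : Type v} [Group M] [Finite M] (ρ : ↥H →* M) (hρ : Function.Surjective ρ)
    (hker : ρ.ker = (Subgroup.centralizer (L : Set G)).subgroupOf H)
    {d : ↥H} (hd : (d : G) ∈ centralizerPPrimeCore p x) :
    ρ d ∈ centralizerPPrimeCore p (ρ ⟨x, hxH⟩) := by
  set Cx := Subgroup.centralizer ({x} : Set G) with hCx
  set D₀ := (centralizerPPrimeCore p x).subgroupOf H with hD₀
  set N := Cx.subgroupOf H with hN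
  set xb : ↥H := ⟨x, hxH⟩ with hxb
  set LC := (L ⊓ Cx).subgroupOf H with hLC
  set B := D₀ ⊔ LC with hB
  have hDN : D₀ ≤ N := fun z hz => centralizerCore_le x hz
  have hBN : B ≤ N := sup_le hDN fun z hz => (Subgroup.mem_inf.mp hz).2
  have hBnorm : B ≤ Subgroup.normalizer (D₀ : Set ↥H) := fun c hc =>
    mem_normalizer_of_maps fun z hz => centralizerCore_conj (hBN hc) hz
  haveI hDBn : (D₀.subgroupOf B).Normal :=
    (Subgroup.normal_subgroupOf_iff_le_normalizer le_sup_left).mpr hBnorm
  -- the preimage of the centralizer of the image of `x` normalises `B`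
  set U := (Subgroup.centralizer ({ρ xb} : Set M)).comap ρ with hU
  have hcommL : ∀ c ∈ N, c ∈ Subgroup.normalizer (B : Set ↥H) := by
    intro c hc
    refine mem_normalizer_of_maps fun z hz => ?_
    have hle : B ≤ B.comap (MulAut.conj c).toMonoidHom := by
      refine sup_le (fun w hw => Subgroup.mem_sup_left (centralizerCore_conj hc hw)) fun w hw => ?_
      refine Subgroup.mem_sup_right (Subgroup.mem_inf.mpr ⟨?_, ?_⟩)
      · exact (Subgroup.mem_normalizer_iff.mp (hHN c.2) (w : G)).mp (Subgroup.mem_inf.mp hw).1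
      · exact mul_mem (mul_mem hc (Subgroup.mem_inf.mp hw).2) (inv_mem hc)
    exact hle hz
  have hUn : ∀ u ∈ U, u ∈ Subgroup.normalizer (B : Set ↥H) := by
    intro u hu
    obtain ⟨l, hl, c, hcH, hcx, e⟩ := hHC u u.2
    set lb : ↥H := ⟨l, hLH hl⟩ with hlb
    set cb : ↥H := ⟨c, hcH⟩ with hcb
    have hu' : u = lb * cb := Subtype.ext e
    have hcU : Commute (ρ cb) (ρ xb) :=
      (show Commute cb xb from Subtype.ext (Subgroup.mem_centralizer_singleton_iff.mp hcx)).map ρ
    have hlU : ρ (lb * xb * lb⁻¹ * xb⁻¹) = 1 := by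
      have h1 : Commute (ρ u) (ρ xb) := Subgroup.mem_centralizer_singleton_iff.mp hu
      rw [hu', map_mul] at h1
      have h2 : Commute (ρ lb) (ρ xb) := by
        have h3 := h1.mul_left hcU.inv_left
        rwa [mul_inv_cancel_right] at h3
      rw [map_mul, map_mul, map_mul, map_inv, map_inv, h2.eq, mul_inv_cancel_right, mul_inv_cancel]
    have hxN : x ∈ Subgroup.normalizer (L : Set G) := hHN hxH
    set z : G := l * x * l⁻¹ * x⁻¹ with hz
    have hzC : z ∈ Subgroup.centralizer (L : Set G) := by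
      have h1 : (lb * xb * lb⁻¹ * xb⁻¹) ∈ ρ.ker := MonoidHom.mem_ker.mpr hlU
      rw [hker] at h1
      exact h1
    have hzL : z ∈ L := by
      rw [hz, show l * x * l⁻¹ * x⁻¹ = l * (x * l⁻¹ * x⁻¹) by group]
      exact mul_mem hl ((Subgroup.mem_normalizer_iff.mp hxN _).mp (inv_mem hl))
    have hzP : z ∈ pCore p G := center_le_pCore hO hL (centralizer_inf_le_center L (Subgroup.mem_inf.mpr ⟨hzL, hzC⟩))
    rw [hu']
    refine Subgroup.mul_mem _ (mem_normalizer_of_maps fun w hw => ?_) (hcommL cb hcx)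
    have hxl : x * l * x⁻¹ = z⁻¹ * l := by rw [hz]; group
    have hle : B ≤ B.comap (MulAut.conj lb).toMonoidHom := by
      refine sup_le (fun v hv => ?_) fun v hv => Subgroup.mem_sup_right (Subgroup.mem_inf.mpr ?_)
      · -- commutators with `D₀` lie in `C_L(x)`
        have hvx : Commute x (v : G) := (Subgroup.mem_centralizer_singleton_iff.mp (hDN hv)).symm
        have hvz : Commute (v : G) z := (centralizerCore_centralizes_pCore hx hv z hzP).symm
        set m : G := l * (v : G) * l⁻¹ * (v : G)⁻¹ with hm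
        have hmL : m ∈ L := by
          rw [hm, show l * (v : G) * l⁻¹ * (v : G)⁻¹ = l * ((v : G) * l⁻¹ * (v : G)⁻¹) by group]
          exact mul_mem hl ((Subgroup.mem_normalizer_iff.mp (hHN v.2) _).mp (inv_mem hl))
        have hmz : Commute z m := ((hzC m hmL).symm : z * m = m * z)
        have hmx : x * m * x⁻¹ = m := by
          calc x * m * x⁻¹ = (x * l * x⁻¹) * (x * (v : G) * x⁻¹) * (x * l * x⁻¹)⁻¹ * (x * (v : G) * x⁻¹)⁻¹ := by
                rw [hm]; group
            _ = z⁻¹ * l * (v : G) * (z⁻¹ * l)⁻¹ * (v : G)⁻¹ := by rw [hxl, hvx.eq, mul_inv_cancel_right]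
            _ = z⁻¹ * (l * (v : G) * l⁻¹) * (z * (v : G)⁻¹) := by group
            _ = z⁻¹ * (l * (v : G) * l⁻¹) * ((v : G)⁻¹ * z) := by rw [hvz.inv_left.eq]
            _ = z⁻¹ * m * z := by rw [hm]; group
            _ = m := by rw [mul_assoc, ← hmz.eq, inv_mul_cancel_left]
        have hmC : (⟨m, hLH hmL⟩ : ↥H) ∈ B := Subgroup.mem_sup_right (Subgroup.mem_inf.mpr
          ⟨hmL, Subgroup.mem_centralizer_singleton_iff.mpr (mul_inv_eq_iff_eq_mul.mp hmx).symm⟩)
        show lb * v * lb⁻¹ ∈ B
        rw [show lb * v * lb⁻¹ = ⟨m, hLH hmL⟩ * v from Subtype.ext (by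
          push_cast
          rw [hm, inv_mul_cancel_right])]
        exact B.mul_mem hmC (Subgroup.mem_sup_left hv)
      · obtain ⟨hvL, hvC⟩ := Subgroup.mem_inf.mp hv
        refine ⟨mul_mem (mul_mem hl hvL) (inv_mem hl), Subgroup.mem_centralizer_singleton_iff.mpr ?_⟩
        have hvx : Commute x (v : G) := (Subgroup.mem_centralizer_singleton_iff.mp hvC).symm
        have h1 : x * (l * (v : G) * l⁻¹) * x⁻¹ = l * (v : G) * l⁻¹ := by
          calc x * (l * (v : G) * l⁻¹) * x⁻¹ = (x * l * x⁻¹) * (x * (v : G) * x⁻¹) * (x * l * x⁻¹)⁻¹ := by group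
            _ = z⁻¹ * (l * (v : G) * l⁻¹) * z := by rw [hxl, hvx.eq, mul_inv_cancel_right]; group
            _ = l * (v : G) * l⁻¹ := by
              rw [mul_assoc, ← show z * (l * (v : G) * l⁻¹) = l * (v : G) * l⁻¹ * z from
                (hzC _ (mul_mem (mul_mem hl hvL) (inv_mem hl))).symm, inv_mul_cancel_left]
        exact (mul_inv_eq_iff_eq_mul.mp h1).symm
    exact hle hw
  -- the odd core of `B`
  set W := (pPrimeCore p ↥B).map B.subtype with hW
  have hDW : D₀ ≤ W := by
    rw [← Subgroup.map_subgroupOf_eq_of_le (le_sup_left : D₀ ≤ B)]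
    refine Subgroup.map_mono (le_pPrimeCore ?_)
    rw [Nat.card_congr (Subgroup.subgroupOfEquivOfLe (le_sup_left : D₀ ≤ B)).toEquiv]
    exact Nat.Coprime.coprime_dvd_left (Subgroup.card_dvd_of_injective (H.subtype.subgroupComap (centralizerPPrimeCore p x))
      (fun a b e => Subtype.ext (Subtype.ext (congrArg (fun z : centralizerPPrimeCore p x => (z : G)) e))))
      (card_centralizerCore_coprime x)
  have hWn : Subgroup.normalizer (B : Set ↥H) ≤ Subgroup.normalizer (W : Set ↥H) := normalizer_le_normalizer_Om B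
  refine le_centralizerCore (W := W.map ρ) ?_ ?_ ?_ ⟨d, hDW hd, rfl⟩
  · rintro _ ⟨w, hw, rfl⟩
    exact Subgroup.mem_centralizer_singleton_iff.mpr
      (((show Commute w xb from Subtype.ext (Subgroup.mem_centralizer_singleton_iff.mp
        (hBN ((Subgroup.map_subtype_le _) hw)))).map ρ).eq)
  · intro g hg
    obtain ⟨u, rfl⟩ := hρ g
    exact Subgroup.le_normalizer_map ρ ⟨u, hWn (hUn u hg), rfl⟩
  · exact Nat.Coprime.coprime_dvd_left (Subgroup.card_map_dvd _ _)
      (by rw [hW, Subgroup.card_map_of_injective B.subtype_injective]; exact card_pPrimeCore_coprime p)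

/-- The kernel of the action on `L / Z(L)` centralises the component `L`. -/
theorem ker_quotAut {L : Subgroup G} (hL : IsComponent L) :
    (quotAut L).ker = (Subgroup.centralizer (L : Set G)).subgroupOf (Subgroup.normalizer (L : Set G)) := by
  set N := Subgroup.normalizer (L : Set G) with hN
  refine le_antisymm (fun g hg => ?_) fun g hg => ?_
  · set X := (quotAut L).ker.map N.subtype with hX
    have hXL : ⁅X, L⁆ ≤ (Subgroup.center ↥L).map L.subtype := by
      rw [Subgroup.commutator_le]
      rintro _ ⟨k, hk, rfl⟩ a ha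
      have h1 := congrArg (fun e : MulAut (↥L ⧸ Subgroup.center ↥L) => e (QuotientGroup.mk' _ ⟨a, ha⟩))
        (MonoidHom.mem_ker.mp hk)
      exact ⟨_, QuotientGroup.eq_iff_div_mem.mp h1, by rw [div_eq_mul_inv, commutatorElement_def]; rfl⟩
    exact Subgroup.le_centralizer_iff.mp (Subgroup.commutator_eq_bot_iff_le_centralizer.mp
      (centralizes_of_commutator_le_center hL hXL)) ⟨g, hg, rfl⟩
  · rw [MonoidHom.mem_ker]
    refine MulEquiv.ext fun a => ?_
    obtain ⟨a, rfl⟩ := QuotientGroup.mk'_surjective _ a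
    refine congrArg QuotientGroup.mk (Subtype.ext ?_)
    show (g : G) * a * (g : G)⁻¹ = a
    have h2 : (a : G) * g = g * a := hg a a.2
    rw [← h2, mul_inv_cancel_right]

theorem self_sup_normalizer {L : Subgroup G} {A : Subgroup G} (hA : A ≤ Subgroup.normalizer (L : Set G)) :
    L ⊔ A ≤ Subgroup.normalizer (L : Set G) := sup_le Subgroup.le_normalizer hA

/-- `O_{p'}(C(x)) = 1` for all `x` of order `p` follows from balance of the groups induced on components. -/
theorem centralizerCore_eq_bot (hO : pPrimeCore p G = ⊥) {x : G} (hx : orderOf x = p)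
    (h : ∀ L : Subgroup G, IsComponent L → x ∈ Subgroup.normalizer (L : Set G) →
      ⁅L, Subgroup.zpowers x⁆ = L → ⁅L, centralizerPPrimeCore p x⁆ = ⊥) : centralizerPPrimeCore p x = ⊥ := by
  set D := centralizerPPrimeCore p x with hD
  have hp : p.Prime := Fact.out
  have hDF : D ≤ Subgroup.centralizer (generalizedFittingSubgroup G : Set G) := by
    rw [Subgroup.le_centralizer_iff]
    refine sup_le (sSup_le fun L hL => ?_) ?_
    · rw [← Subgroup.commutator_eq_bot_iff_le_centralizer]
      by_cases hne : ⁅L, Subgroup.zpowers x⁆ = L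
      · refine h L hL ?_ hne
        have h1 := CfsgLib.right_le_normalizer_commutator (Subgroup.zpowers x) L (Subgroup.mem_zpowers x)
        rwa [hne] at h1
      · exact centralizerCore_centralizes hO hx hL hne
    · rw [fitting_eq_pCore hp hO, Subgroup.le_centralizer_iff]
      exact centralizerCore_centralizes_pCore hx
  rw [eq_bot_iff]
  intro d hd
  have h1 : d ∈ fittingSubgroup G := by
    refine le_fittingSubgroup (N := Subgroup.centralizer (generalizedFittingSubgroup G : Set G))
      (nilpotent_of_comm fun a ha b hb => hb a (centralizer_generalizedFitting_le ha)) (hDF hd)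
  rw [fitting_eq_pCore hp hO] at h1
  obtain ⟨n, hn⟩ := isPGroup_pCore (G := G) p ⟨d, h1⟩
  exact Subgroup.mem_bot.mpr (pElement_eq_one_of_coprime (card_centralizerCore_coprime x) hd (congrArg Subtype.val hn))

end CfsgLib.Comp
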