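import Cfsg.Agent.Lib.Comp.BpInherit

/-!
Balance for the non-quasisimple part of the `p`-layer.
-/

set_option autoImplicit false
set_option linter.unusedSectionVars false

namespace CfsgLib.Comp

open Cfsg Subgroup
open scoped commutatorElement

universe u
variable {G : Type u} [Group G] [Finite G] {p : ℕ} [Fact p.Prime]

/-- The part of the `p`-layer generated by quasisimple `p`-components. -/
def qsPLayer (p : ℕ) (X : Type u) [Group X] : Subgroup X :=
  ⨆ K : {K : Subgroup X // IsPComponent p K ∧ IsQuasisimple ↥K}, (K : Subgroup X)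

instance qsPLayer_normal : (qsPLayer p G).Normal := by
  refine ⟨fun x hx g => ?_⟩
  have h : qsPLayer p G ≤ (qsPLayer p G).comap (MulAut.conj g).toMonoidHom := iSup_le fun K => by
    rw [← Subgroup.map_le_iff_le_comap]
    exact le_iSup (fun K : {K : Subgroup G // IsPComponent p K ∧ IsQuasisimple ↥K} => (K : Subgroup G))
      ⟨_, pcomp_conj K.2.1 g, isQuasisimple_of_equiv ((MulAut.conj g).subgroupMap K) K.2.2⟩
  exact h hx

theorem pLayer_le_qs_sup : pLayer p G ≤ qsPLayer p G ⊔ nonQuasisimplePLayer p G := sSup_le fun K hK => by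
  by_cases h : IsQuasisimple ↥K
  · exact le_sup_of_le_left
      (le_iSup (fun K : {K : Subgroup G // IsPComponent p K ∧ IsQuasisimple ↥K} => (K : Subgroup G)) ⟨K, hK, h⟩)
  · exact le_sup_of_le_right
      (le_iSup (fun K : {K : Subgroup G // IsPComponent p K ∧ ¬ IsQuasisimple ↥K} => (K : Subgroup G)) ⟨K, hK, h⟩)

theorem qs_commute_nonqs : ⁅qsPLayer p G, nonQuasisimplePLayer p G⁆ = ⊥ := by
  rw [Subgroup.commutator_eq_bot_iff_le_centralizer, Subgroup.le_centralizer_iff]
  refine iSup_le fun J => ?_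
  rw [Subgroup.le_centralizer_iff]
  refine iSup_le fun K => ?_
  rw [← Subgroup.commutator_eq_bot_iff_le_centralizer]
  exact pcomp_commute_of_quasisimple K.2.1 J.2.1 (fun e => J.2.2 (e ▸ K.2.2)) K.2.2

theorem normalizer_le_normalizer_centralizer' (R : Subgroup G) :
    Subgroup.normalizer (R : Set G) ≤ Subgroup.normalizer ((Subgroup.centralizer (R : Set G) : Subgroup G) : Set G) :=
  fun g hg => mem_normalizer_of_maps fun c hc q hq => by
    have h2 := hc (g⁻¹ * q * g)
      (by simpa using (Subgroup.mem_normalizer_iff.mp (Subgroup.inv_mem _ hg) q).mp hq)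
    calc q * (g * c * g⁻¹) = g * (g⁻¹ * q * g * c) * g⁻¹ := by group
      _ = g * (c * (g⁻¹ * q * g)) * g⁻¹ := by rw [h2]
      _ = g * c * g⁻¹ * q := by group

theorem le_pLayer_of_centralizer (hG : BHyp p G) {R L : Subgroup G} (hR : IsPGroup p ↥R)
    (h : IsPC p L (Subgroup.centralizer (R : Set G))) : L ≤ pLayer p G := by
  have h1 := h.lift_normal (centralizer_le_normalizer' R) (normalizer_le_normalizer_centralizer' R)
  refine le_trans ?_ (pLayer_balance hG.schreier R hR)
  calc L = (L.subgroupOf (Subgroup.normalizer (R : Set G))).map (Subgroup.normalizer (R : Set G)).subtype :=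
        (Subgroup.map_subgroupOf_eq_of_le h1.le).symm
    _ ≤ _ := Subgroup.map_mono (le_sSup h1.toPComp)

theorem commutator_prod_of_commute {a a' b b' : G} (h1 : Commute a b') (h2 : Commute a' b)
    (h3 : Commute a b) (h4 : Commute a' b') : ⁅a * b, a' * b'⁆ = ⁅a, a'⁆ * ⁅b, b'⁆ := by
  have h5 : Commute ⁅b, b'⁆ a := by
    rw [commutatorElement_def]
    exact (((h3.symm.mul_left h1.symm).mul_left h3.symm.inv_left).mul_left h1.symm.inv_left)
  have h6 : Commute ⁅b, b'⁆ a' := by
    rw [commutatorElement_def]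
    exact (((h2.symm.mul_left h4.symm).mul_left h2.symm.inv_left).mul_left h4.symm.inv_left)
  have h7 : Commute ⁅b, b'⁆ (a * a') := h5.mul_right h6
  calc ⁅a * b, a' * b'⁆ = a * (b * a') * b' * b⁻¹ * a⁻¹ * b'⁻¹ * a'⁻¹ := by
        rw [commutatorElement_def]; group
    _ = a * a' * (b * b' * b⁻¹) * (a⁻¹ * b'⁻¹) * a'⁻¹ := by rw [← h2.eq]; group
    _ = a * a' * ⁅b, b'⁆ * a⁻¹ * a'⁻¹ := by
        rw [(h1.inv_inv).eq, commutatorElement_def]; group
    _ = ⁅b, b'⁆ * (a * a') * a⁻¹ * a'⁻¹ := by rw [h7.eq]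
    _ = (a * a' * a⁻¹ * a'⁻¹) * ⁅b, b'⁆ := by
        rw [((h7.mul_right h5.inv_right).mul_right h6.inv_right).symm.eq]; group
    _ = _ := rfl

/-- A `p`-component of a group of fixed points inside a commuting product lies in one factor. -/
theorem IsPC.split {L H N₁ N₂ : Subgroup G} {x : G} (h : IsPC p L H)
    (hH : H ≤ Subgroup.centralizer ({x} : Set G)) (hc : ⁅N₁, N₂⁆ = ⊥)
    (hx1 : x ∈ Subgroup.normalizer (N₁ : Set G)) (hx2 : x ∈ Subgroup.normalizer (N₂ : Set G))
    (hn : H ≤ Subgroup.normalizer (N₁ : Set G)) (hM : N₁ ⊓ Subgroup.centralizer ({x} : Set G) ≤ H)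
    (hL : L ≤ N₁ ⊔ N₂) : L ≤ N₁ ∨ L ≤ N₂ := by
  set M₀ := N₁ ⊓ Subgroup.centralizer ({x} : Set G) with hM₀
  have hnM : H ≤ Subgroup.normalizer (M₀ : Set G) := fun g hg => mem_normalizer_of_maps fun y hy => by
    obtain ⟨hy1, hy2⟩ := Subgroup.mem_inf.mp hy
    exact Subgroup.mem_inf.mpr ⟨(Subgroup.mem_normalizer_iff.mp (hn hg) y).mp hy1,
      Subgroup.mul_mem _ (Subgroup.mul_mem _ (hH hg) hy2) (Subgroup.inv_mem _ (hH hg))⟩
  haveI : (M₀.subgroupOf H).Normal := (Subgroup.normal_subgroupOf_iff_le_normalizer hM).mpr hnM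
  rcases pcomp_le_or_commutator h.toPComp (M₀.subgroupOf H) with h1 | h1
  · left
    have h2 := Subgroup.map_mono (f := H.subtype) h1
    rw [Subgroup.map_subgroupOf_eq_of_le h.le, Subgroup.map_subgroupOf_eq_of_le hM] at h2
    exact h2.trans inf_le_left
  right
  set A := (pPrimeCore p ↥H).map H.subtype ⊓ M₀ with hA
  have hAN : A ≤ N₁ := inf_le_right.trans inf_le_left
  have hAc : (Nat.card A).Coprime p := by
    refine Nat.Coprime.coprime_dvd_left (Subgroup.card_dvd_of_le inf_le_left) ?_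
    rw [Subgroup.card_map_of_injective H.subtype_injective]
    exact card_pPrimeCore_coprime p
  have hLM : ∀ l ∈ L, ∀ m ∈ M₀, ⁅l, m⁆ ∈ A := fun l hl m hm => by
    refine Subgroup.mem_inf.mpr ⟨⟨⁅(⟨l, h.le hl⟩ : ↥H), ⟨m, hM hm⟩⁆,
      h1 (Subgroup.commutator_mem_commutator hl hm), rfl⟩, ?_⟩
    rw [commutatorElement_def]
    exact Subgroup.mul_mem _ ((Subgroup.mem_normalizer_iff.mp (hnM (h.le hl)) m).mp hm) (Subgroup.inv_mem _ hm)
  have hcm : ∀ a ∈ N₁, ∀ b ∈ N₂, Commute a b := fun a ha b hb => comm_of_commutator_eq_bot hc ha hb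
  have hstep : ∀ l ∈ L, ∀ l' ∈ L, ⁅l, l'⁆ ∈ M₀ ⊔ N₂ := by
    intro l hl l' hl'
    obtain ⟨a, ha, b, hb, rfl⟩ := mem_sup_of_commutator_eq_bot hc (hL hl)
    obtain ⟨a', ha', b', hb', rfl⟩ := mem_sup_of_commutator_eq_bot hc (hL hl')
    rw [commutator_prod_of_commute (hcm a ha b' hb') (hcm a' ha' b hb) (hcm a ha b hb) (hcm a' ha' b' hb')]
    refine Subgroup.mul_mem_sup (Subgroup.mem_inf.mpr ⟨?_, ?_⟩) ?_
    · rw [commutatorElement_def]
      exact Subgroup.mul_mem _ (Subgroup.mul_mem _ (Subgroup.mul_mem _ ha ha') (Subgroup.inv_mem _ ha))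
        (Subgroup.inv_mem _ ha')
    · have key : ∀ c ∈ N₁, ∀ d ∈ N₂, c * d ∈ L →
          ∃ z, z ∈ N₁ ∧ z ∈ N₂ ∧ x * c * x⁻¹ = c * z := by
        intro c hc' d hd hcd
        have hfix : x * (c * d) * x⁻¹ = c * d := by
          rw [← Subgroup.mem_centralizer_singleton_iff.mp (hH (h.le hcd)), mul_inv_cancel_right]
        have he : c⁻¹ * (x * c * x⁻¹) = d * (x * d * x⁻¹)⁻¹ := by
          calc c⁻¹ * (x * c * x⁻¹) = c⁻¹ * (x * (c * d) * x⁻¹) * (x * d * x⁻¹)⁻¹ := by group
            _ = d * (x * d * x⁻¹)⁻¹ := by rw [hfix]; group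
        refine ⟨c⁻¹ * (x * c * x⁻¹), ?_, ?_, by group⟩
        · exact Subgroup.mul_mem _ (Subgroup.inv_mem _ hc') ((Subgroup.mem_normalizer_iff.mp hx1 c).mp hc')
        · rw [he]
          exact Subgroup.mul_mem _ hd (Subgroup.inv_mem _ ((Subgroup.mem_normalizer_iff.mp hx2 d).mp hd))
      obtain ⟨z, hz1, hz2, hz⟩ := key a ha b hb hl
      obtain ⟨z', hz1', hz2', hz'⟩ := key a' ha' b' hb' hl'
      rw [Subgroup.mem_centralizer_singleton_iff]
      have e : x * ⁅a, a'⁆ * x⁻¹ = ⁅a, a'⁆ := by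
        calc x * ⁅a, a'⁆ * x⁻¹ = ⁅x * a * x⁻¹, x * a' * x⁻¹⁆ := by
              rw [commutatorElement_def, commutatorElement_def]; group
          _ = ⁅a * z, a' * z'⁆ := by rw [hz, hz']
          _ = ⁅a, a'⁆ * ⁅z, z'⁆ := commutator_prod_of_commute (hcm a ha z' hz2') (hcm a' ha' z hz2)
              (hcm a ha z hz2) (hcm a' ha' z' hz2')
          _ = ⁅a, a'⁆ := by rw [commutatorElement_eq_one_iff_commute.mpr (hcm z hz1 z' hz2'), mul_one]
      calc ⁅a, a'⁆ * x = x * ⁅a, a'⁆ * x⁻¹ * x := by rw [e]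
        _ = x * ⁅a, a'⁆ := by group
    · rw [commutatorElement_def]
      exact Subgroup.mul_mem _ (Subgroup.mul_mem _ (Subgroup.mul_mem _ hb hb') (Subgroup.inv_mem _ hb))
        (Subgroup.inv_mem _ hb')
  have hMN : L ≤ M₀ ⊔ N₂ := h.perfect.ge.trans (Subgroup.commutator_le.mpr hstep)
  have hMc : ⁅M₀, N₂⁆ = ⊥ := by
    rw [eq_bot_iff, ← hc]; exact Subgroup.commutator_mono inf_le_left le_rfl
  have hAc' : ⁅A, N₂⁆ = ⊥ := by
    rw [eq_bot_iff, ← hc]; exact Subgroup.commutator_mono hAN le_rfl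
  have hLA : L ≤ A ⊔ N₂ := by
    refine h.perfect.ge.trans (Subgroup.commutator_le.mpr fun l hl l' hl' => ?_)
    obtain ⟨m, hm, n, hn', e⟩ := mem_sup_of_commutator_eq_bot hMc (hMN hl)
    obtain ⟨m', hm', n', hn'', e'⟩ := mem_sup_of_commutator_eq_bot hMc (hMN hl')
    have hm1 := (Subgroup.mem_inf.mp hm).1
    have hm1' := (Subgroup.mem_inf.mp hm').1
    rw [e, e', commutator_prod_of_commute (hcm m hm1 n' hn'') (hcm m' hm1' n hn') (hcm m hm1 n hn')
      (hcm m' hm1' n' hn'')]
    refine Subgroup.mul_mem_sup ?_ ?_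
    · have h3 := hLM l hl m' hm'
      have h4 : ⁅l, m'⁆ = ⁅m, m'⁆ := by
        rw [e, show ⁅m * n, m'⁆ = ⁅m * n, m' * 1⁆ by rw [mul_one],
          commutator_prod_of_commute (Commute.one_right m) (hcm m' hm1' n hn') (hcm m hm1 n hn')
          (Commute.one_right m'), commutatorElement_one_right, mul_one]
      rwa [h4] at h3
    · rw [commutatorElement_def]
      exact Subgroup.mul_mem _ (Subgroup.mul_mem _ (Subgroup.mul_mem _ hn' hn'') (Subgroup.inv_mem _ hn'))
        (Subgroup.inv_mem _ hn'')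
  rw [← h.pel, pEl, Subgroup.closure_le]
  rintro y ⟨hy, k, hk⟩
  obtain ⟨a, ha, n, hn', rfl⟩ := mem_sup_of_commutator_eq_bot hAc' (hLA hy)
  rw [(hcm a (hAN ha) n hn').mul_pow] at hk
  have h5 : a ^ p ^ k ∈ N₂ := by
    rw [eq_inv_of_mul_eq_one_left hk]
    exact Subgroup.inv_mem _ (Subgroup.pow_mem _ hn' _)
  obtain ⟨m, hm⟩ := exists_pow_eq_self_of_coprime (x := a) (n := p ^ k)
    (Nat.Coprime.coprime_dvd_right (Subgroup.orderOf_dvd_natCard _ ha) (hAc.symm.pow_left k))
  exact Subgroup.mul_mem _ (hm ▸ Subgroup.pow_mem _ h5 m) hn'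

/-- A subnormal non-abelian subgroup of a quasisimple subgroup is that subgroup. -/
theorem IsPC.eq_of_quasisimple {L K : Subgroup G} (hLK : IsPC p L K) (hK : IsQuasisimple ↥K) : L = K := by
  rcases subnormal_le_center_or_top hK hLK.subnormal with h | h
  · exact (hLK.not_comm fun a ha b hb => congrArg Subtype.val
      (Subgroup.mem_center_iff.mp (h (show (⟨b, hLK.le hb⟩ : ↥K) ∈ L.subgroupOf K from hb)) ⟨a, hLK.le ha⟩)).elim
  · exact le_antisymm hLK.le (Subgroup.subgroupOf_eq_top.mp h)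

/-- The case of one component. -/
theorem qs_case_fixed (hG : BHyp p G) {x : G} (hx : orderOf x = p) {L K : Subgroup G}
    (hK : IsPComponent p K) (hKq : IsQuasisimple ↥K) (hxK : x ∈ Subgroup.normalizer (K : Set G))
    (hL : IsPC p L (K ⊓ Subgroup.centralizer ({x} : Set G))) : IsQuasisimple ↥L := by
  have hKc : IsComponent K := ⟨hK.1, hKq⟩
  by_cases hxc : x ∈ Subgroup.centralizer (K : Set G)
  · have e : K ⊓ Subgroup.centralizer ({x} : Set G) = K :=
      inf_eq_left.mpr fun k hk => Subgroup.mem_centralizer_singleton_iff.mpr (hxc k hk)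
    rw [e] at hL
    rw [hL.eq_of_quasisimple hKq]
    exact hKq
  set U := K ⊔ Subgroup.zpowers x with hU
  have hUN : U ≤ Subgroup.normalizer (K : Set G) := sup_le Subgroup.le_normalizer (Subgroup.zpowers_le.mpr hxK)
  have hKU : K ≤ U := le_sup_left
  have hxU : x ∈ U := (le_sup_right : Subgroup.zpowers x ≤ U) (Subgroup.mem_zpowers x)
  set N := (Subgroup.centralizer (K : Set G)).subgroupOf U with hN
  haveI : N.Normal := ⟨fun c hc u => by
    exact (Subgroup.mem_normalizer_iff.mp (normalizer_le_normalizer_centralizer' K (hUN u.2)) c).mp hc⟩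
  let f : ↥U →* ↥U ⧸ N := QuotientGroup.mk' N
  have hKn : (K.subgroupOf U).Normal := (Subgroup.normal_subgroupOf_iff_le_normalizer hKU).mpr hUN
  set Kb := (K.subgroupOf U).map f with hKb
  haveI hKbn : Kb.Normal := hKn.map f (QuotientGroup.mk'_surjective N)
  have hZ : (Subgroup.center ↥K).map K.subtype ≤ Subgroup.centralizer (K : Set G) := by
    rintro _ ⟨z, hz, rfl⟩ k hk
    exact congrArg Subtype.val (Subgroup.mem_center_iff.mp hz ⟨k, hk⟩)
  let g : ↥K →* ↥Kb := (f.subgroupMap (K.subgroupOf U)).comp (Subgroup.subgroupOfEquivOfLe hKU).symm.toMonoidHom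
  have hg : Function.Surjective g :=
    (f.subgroupMap_surjective _).comp (Subgroup.subgroupOfEquivOfLe hKU).symm.surjective
  have hKbp : pEl p Kb = Kb := by
    refine le_antisymm (pEl_le _) (le_trans ?_ (pEl_map_le f (K.subgroupOf U)))
    refine le_of_eq (congrArg (Subgroup.map f) ?_).symm
    refine Subgroup.map_injective U.subtype_injective ?_
    rw [← pEl_map_subtype, Subgroup.map_subgroupOf_eq_of_le hKU, pcomp_pEl hK]
  have hKb1 : Kb ≠ ⊥ := by
    intro e
    rw [hKb, Subgroup.map_eq_bot_iff, QuotientGroup.ker_mk'] at e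
    exact component_not_centralizing hKc fun a ha b hb =>
      (e (show (⟨a, hKU ha⟩ : ↥U) ∈ K.subgroupOf U from ha) b hb).symm
  haveI : Nontrivial ↥Kb := (Subgroup.nontrivial_iff_ne_bot _).mpr hKb1
  have hKbq : IsQuasisimple ↥Kb := isQuasisimple_of_surj_nontrivial g hg hKq
  have hKbc : IsComponent Kb := ⟨hKbn.isSubnormal, hKbq⟩
  have hcen : Subgroup.centralizer (Kb : Set (↥U ⧸ N)) = ⊥ := by
    rw [eq_bot_iff]
    intro z hz
    obtain ⟨u, rfl⟩ := QuotientGroup.mk'_surjective N z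
    rw [Subgroup.mem_bot, QuotientGroup.mk'_apply, QuotientGroup.eq_one_iff]
    show (u : G) ∈ Subgroup.centralizer (K : Set G)
    set X := ((Subgroup.centralizer (Kb : Set (↥U ⧸ N))).comap f).map U.subtype with hX
    have h1 : ⁅X, K⁆ ≤ (Subgroup.center ↥K).map K.subtype := by
      rw [Subgroup.commutator_le]
      rintro _ ⟨w, hw, rfl⟩ k hk
      have hwk : ⁅(w : G), k⁆ ∈ Subgroup.centralizer (K : Set G) := by
        have h2 : f ⁅w, (⟨k, hKU hk⟩ : ↥U)⁆ = 1 := by
          rw [map_commutatorElement, commutatorElement_eq_one_iff_mul_comm]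
          exact (hw _ ⟨⟨k, hKU hk⟩, hk, rfl⟩).symm
        have h5 : ⁅w, (⟨k, hKU hk⟩ : ↥U)⁆ ∈ N := (QuotientGroup.eq_one_iff _).mp h2
        exact h5
      have hwK : ⁅(w : G), k⁆ ∈ K := by
        rw [commutatorElement_def]
        exact Subgroup.mul_mem K ((Subgroup.mem_normalizer_iff.mp (hUN w.2) k).mp hk) (Subgroup.inv_mem K hk)
      exact ⟨⟨_, hwK⟩, Subgroup.mem_center_iff.mpr fun b => Subtype.ext (hwk b b.2), rfl⟩
    exact Subgroup.le_centralizer_iff.mp (Subgroup.commutator_eq_bot_iff_le_centralizer.mp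
      (centralizes_of_commutator_le_center hKc h1)) ⟨u, hz, rfl⟩
  have hlay : layer (↥U ⧸ N) = Kb := by
    refine le_antisymm (sSup_le fun J hJ => ?_) (le_layer hKbc)
    rcases components_eq_or_commute hJ hKbc with e | e
    · exact e.le
    · rw [Subgroup.commutator_eq_bot_iff_le_centralizer, hcen] at e
      exact absurd (le_bot_iff.mp e) (isComponent_ne_bot hJ)
  have hF : generalizedFittingSubgroup (↥U ⧸ N) = Kb := by
    rw [generalizedFittingSubgroup, hlay]
    refine sup_eq_left.mpr ?_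
    have h1 := Subgroup.le_centralizer_iff.mp (layer_le_centralizer_fitting (G := ↥U ⧸ N))
    rw [hlay, hcen] at h1
    exact h1.trans bot_le
  have hq : HasQuasisimpleGeneralizedFitting (↥U ⧸ N) :=
    isQuasisimple_of_equiv (MulEquiv.subgroupCongr hF).symm hKbq
  have hO : pPrimeCore p (↥U ⧸ N) = ⊥ := by
    rcases component_le_or_commutator_eq_bot hKbc (pPrimeCore p (↥U ⧸ N)) with e | e
    · refine absurd ?_ hKb1
      rw [← hKbp]
      exact pEl_eq_bot_of_coprime (Nat.Coprime.coprime_dvd_left (Subgroup.card_dvd_of_le e)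
        (card_pPrimeCore_coprime p))
    · rw [Subgroup.commutator_comm, Subgroup.commutator_eq_bot_iff_le_centralizer, hcen] at e
      exact le_bot_iff.mp e
  obtain ⟨⟨-, hBp⟩, -⟩ := hG U N hq hO
  set xb := f ⟨x, hxU⟩ with hxb
  have hxbo : orderOf xb = p := by
    refine ((Fact.out : p.Prime).eq_one_or_self_of_dvd _ ?_).resolve_left fun e => ?_
    · refine (orderOf_map_dvd f (⟨x, hxU⟩ : ↥U)).trans ?_
      rw [← hx, ← Subgroup.orderOf_coe]
    · exact hxc ((QuotientGroup.eq_one_iff (⟨x, hxU⟩ : ↥U)).mp (orderOf_eq_one_iff.mp e))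
  set L' := L.subgroupOf U with hL'
  have hLK : L ≤ K := hL.le.trans inf_le_left
  have hLU : L ≤ U := hLK.trans hKU
  set P' := (K ⊓ Subgroup.centralizer ({x} : Set G)).subgroupOf U with hP'
  have hL'P : IsPC p L' P' := by
    refine ⟨fun l hl => hL.le hl, ?_, ?_, ?_⟩
    · let e := Subgroup.subgroupOfEquivOfLe (show K ⊓ Subgroup.centralizer ({x} : Set G) ≤ U from inf_le_left.trans hKU)
      have h2 := hL.subnormal.map (f := e.symm.toMonoidHom) e.symm.surjective
      have e2 : (L.subgroupOf (K ⊓ Subgroup.centralizer ({x} : Set G))).map e.symm.toMonoidHom =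
          L'.subgroupOf P' := by
        ext z
        rw [Subgroup.mem_map_equiv]
        rfl
      rwa [e2] at h2
    · refine Subgroup.map_injective U.subtype_injective ?_
      rw [← pEl_map_subtype, Subgroup.map_subgroupOf_eq_of_le hLU, hL.pel]
    · exact isQuasisimple_of_equiv (QuotientGroup.congr _ _ (Subgroup.subgroupOfEquivOfLe hLU).symm
        (pPrimeCore_map_equiv p _)) hL.qs
  have hker : L' ⊓ f.ker ≤ Subgroup.centralizer (L' : Set ↥U) := fun z hz l hl => by
    obtain ⟨-, hz2⟩ := Subgroup.mem_inf.mp hz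
    rw [QuotientGroup.ker_mk'] at hz2
    exact Subtype.ext (hz2 l (hLK hl))
  set Cb := Subgroup.centralizer ({xb} : Set (↥U ⧸ N)) with hCb
  have hPC : P'.map f ≤ Cb := by
    rintro _ ⟨w, hw, rfl⟩
    rw [hCb, Subgroup.mem_centralizer_singleton_iff, hxb, ← map_mul, ← map_mul]
    exact congrArg f (Subtype.ext (Subgroup.mem_centralizer_singleton_iff.mp (Subgroup.mem_inf.mp hw).2))
  set W := Kb ⊓ Cb with hW
  have hPW : P'.map f ≤ W := le_inf (Subgroup.map_mono fun w hw => (Subgroup.mem_inf.mp hw).1) hPC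
  have hWC : (W.subgroupOf Cb).Normal := ⟨fun n hn c => Subgroup.mem_inf.mpr
    ⟨hKbn.conj_mem _ (Subgroup.mem_inf.mp hn).1 _,
      Subgroup.mul_mem _ (Subgroup.mul_mem _ c.2 (Subgroup.mem_inf.mp hn).2) (Subgroup.inv_mem _ c.2)⟩⟩
  have hPWn : W ≤ Subgroup.normalizer ((P'.map f : Subgroup (↥U ⧸ N)) : Set (↥U ⧸ N)) := by
    intro z hz
    obtain ⟨⟨k, hkK, rfl⟩, hkc⟩ := Subgroup.mem_inf.mp hz
    refine mem_normalizer_of_maps ?_
    rintro _ ⟨w, hw, rfl⟩
    refine ⟨k * w * k⁻¹, ?_, by rw [map_mul, map_mul, map_inv]⟩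
    obtain ⟨hwK, hwx⟩ := Subgroup.mem_inf.mp hw
    refine Subgroup.mem_inf.mpr ⟨Subgroup.mul_mem K (Subgroup.mul_mem K hkK hwK) (Subgroup.inv_mem K hkK), ?_⟩
    have hz' : ((k : G)⁻¹ * (x * k * x⁻¹)) ∈ Subgroup.centralizer (K : Set G) := by
      have h3 : f (k⁻¹ * (⟨x, hxU⟩ * k * (⟨x, hxU⟩ : ↥U)⁻¹)) = 1 := by
        rw [map_mul, map_mul, map_mul, map_inv, map_inv, ← hxb,
          (Subgroup.mem_centralizer_singleton_iff.mp hkc).symm, mul_inv_cancel_right, inv_mul_cancel]
      have h5 : k⁻¹ * (⟨x, hxU⟩ * k * (⟨x, hxU⟩ : ↥U)⁻¹) ∈ N := (QuotientGroup.eq_one_iff _).mp h3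
      exact h5
    rw [Subgroup.mem_centralizer_singleton_iff]
    have hwk : x * (w : G) * x⁻¹ = w := by
      rw [show x * (w : G) = w * x from (Subgroup.mem_centralizer_singleton_iff.mp hwx).symm, mul_inv_cancel_right]
    have e : x * ((k : G) * w * (k : G)⁻¹) * x⁻¹ = (k : G) * w * (k : G)⁻¹ := by
      calc x * ((k : G) * w * (k : G)⁻¹) * x⁻¹
          = (k : G) * ((k : G)⁻¹ * (x * k * x⁻¹)) * (x * (w : G) * x⁻¹) *
              ((k : G)⁻¹ * (x * k * x⁻¹))⁻¹ * (k : G)⁻¹ := by group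
        _ = (k : G) * ((((k : G)⁻¹ * (x * k * x⁻¹)) * w) * ((k : G)⁻¹ * (x * k * x⁻¹))⁻¹) * (k : G)⁻¹ := by
            rw [hwk]; group
        _ = (k : G) * w * (k : G)⁻¹ := by rw [← hz' w hwK, mul_inv_cancel_right]
    calc ((k : G) * w * (k : G)⁻¹) * x = x * ((k : G) * w * (k : G)⁻¹) * x⁻¹ * x := by rw [e]
      _ = x * ((k : G) * w * (k : G)⁻¹) := by group
  have hsn : ((L'.map f).subgroupOf (P'.map f)).IsSubnormal := by
    have h2 := hL'P.subnormal.map (f := f.subgroupMap P') (f.subgroupMap_surjective P')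
    have e : (L'.subgroupOf P').map (f.subgroupMap P') = (L'.map f).subgroupOf (P'.map f) := by
      ext z
      constructor
      · rintro ⟨w, hw, rfl⟩
        exact ⟨w, hw, rfl⟩
      · rintro ⟨w, hw, e⟩
        exact ⟨⟨w, hL'P.le hw⟩, hw, Subtype.ext e⟩
    rwa [e] at h2
  obtain ⟨hpc, hback⟩ := hL'P.map_central f (Subgroup.map_mono hL'P.le) hsn hker
  have hpc2 : IsPC p (L'.map f) Cb :=
    (hpc.lift_normal hPW hPWn).lift_normal inf_le_right
      ((Subgroup.normal_subgroupOf_iff_le_normalizer inf_le_right).mp hWC)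
  have h4 := hback (isQuasisimple_of_equiv (Subgroup.subgroupOfEquivOfLe hpc2.le)
    (hBp xb hxbo _ hpc2.toPComp))
  exact isQuasisimple_of_equiv (Subgroup.subgroupOfEquivOfLe hLU) h4

/-- The case of an element of order `p`. -/
theorem nonqs_le_of_orderOf (hG : BHyp p G) {x : G} (hx : orderOf x = p) {L : Subgroup G}
    (hL : IsPC p L (Subgroup.centralizer ({x} : Set G))) (hnq : ¬ IsQuasisimple ↥L) :
    L ≤ nonQuasisimplePLayer p G := by
  have hCx : Subgroup.centralizer ({x} : Set G) = Subgroup.centralizer ((Subgroup.zpowers x : Subgroup G) : Set G) := by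
    rw [Subgroup.zpowers_eq_closure, Subgroup.centralizer_closure]
  have hxpow : x ^ p = 1 := by rw [← hx, pow_orderOf_eq_one]
  have hLp : L ≤ pLayer p G := le_pLayer_of_centralizer hG (zpowers_isPGroup (n := 1) (by rw [pow_one, hxpow]))
    (hCx ▸ hL)
  have htop : ∀ N : Subgroup G, N.Normal → ∀ g, g ∈ Subgroup.normalizer (N : Set G) := fun N hN g =>
    mem_normalizer_of_maps fun y hy => hN.conj_mem y hy g
  haveI hBn : (nonQuasisimplePLayer p G).Normal := by
    refine ⟨fun y hy g => ?_⟩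
    have h : nonQuasisimplePLayer p G ≤ (nonQuasisimplePLayer p G).comap (MulAut.conj g).toMonoidHom :=
      iSup_le fun K => by
        rw [← Subgroup.map_le_iff_le_comap]
        exact le_iSup (fun K : {K : Subgroup G // IsPComponent p K ∧ ¬ IsQuasisimple ↥K} => (K : Subgroup G))
          ⟨_, pcomp_conj K.2.1 g, fun e => K.2.2 (isQuasisimple_of_equiv ((MulAut.conj g).subgroupMap K).symm e)⟩
    exact h hy
  have hEn : (qsPLayer p G).Normal := inferInstance
  have hEC : qsPLayer p G ⊓ Subgroup.centralizer ({x} : Set G) ≤ Subgroup.centralizer ({x} : Set G) := inf_le_right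
  rcases hL.split le_rfl qs_commute_nonqs (htop _ hEn x) (htop _ hBn x) (fun g _ => htop _ hEn g) hEC
    (hLp.trans pLayer_le_qs_sup) with hLE | hLB
  swap
  · exact hLB
  exfalso
  obtain ⟨⟨K, hK, hKq⟩, hKL⟩ : ∃ K : {K : Subgroup G // IsPComponent p K ∧ IsQuasisimple ↥K},
      ¬ L ≤ Subgroup.centralizer ((K : Subgroup G) : Set G) := by
    by_contra hall
    push Not at hall
    have h1 : L ≤ Subgroup.centralizer ((qsPLayer p G : Subgroup G) : Set G) := by
      rw [Subgroup.le_centralizer_iff]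
      exact iSup_le fun K => Subgroup.le_centralizer_iff.mp (hall K)
    exact hL.not_comm fun a ha b hb => (h1 ha b (hLE hb)).symm
  set Q := Subgroup.zpowers x with hQ
  set D := orbitSup Q K with hD
  set D' := ⨆ J : {J : Subgroup G // IsPComponent p J ∧ IsQuasisimple ↥J ∧ ∀ q : ↥Q, cj (q : G) K ≠ J},
    (J : Subgroup G) with hD'
  have hc : ⁅D, D'⁆ = ⊥ := by
    rw [Subgroup.commutator_eq_bot_iff_le_centralizer, Subgroup.le_centralizer_iff]
    refine iSup_le fun J => ?_
    rw [Subgroup.le_centralizer_iff]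
    refine iSup_le fun q => ?_
    rw [← Subgroup.commutator_eq_bot_iff_le_centralizer]
    exact pcomp_commute_of_quasisimple (pcomp_conj hK (q : G)) J.2.1 (J.2.2.2 q)
      (isQuasisimple_of_equiv ((MulAut.conj (q : G)).subgroupMap K) hKq)
  have hED : qsPLayer p G ≤ D ⊔ D' := iSup_le fun J => by
    by_cases h : ∃ q : ↥Q, cj (q : G) K = J
    · obtain ⟨q, e⟩ := h
      exact le_sup_of_le_left (e ▸ le_iSup (fun q : ↥Q => cj (q : G) K) q)
    · exact le_sup_of_le_right
        (le_iSup (fun J : {J : Subgroup G // IsPComponent p J ∧ IsQuasisimple ↥J ∧ ∀ q : ↥Q, cj (q : G) K ≠ J} =>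
          (J : Subgroup G)) ⟨J, J.2.1, J.2.2, fun q e => h ⟨q, e⟩⟩)
  have hEN : qsPLayer p G ≤ Subgroup.normalizer (D : Set G) := by
    refine hED.trans (sup_le Subgroup.le_normalizer ?_)
    rw [Subgroup.commutator_eq_bot_iff_le_centralizer, Subgroup.le_centralizer_iff] at hc
    exact hc.trans (centralizer_le_normalizer' D)
  have hxD : x ∈ Subgroup.normalizer (D : Set G) := le_normalizer_orbitSup Q K (Subgroup.mem_zpowers x)
  have hxD' : x ∈ Subgroup.normalizer (D' : Set G) := by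
    refine mem_normalizer_of_maps fun y hy => ?_
    have h : D' ≤ D'.comap (MulAut.conj x).toMonoidHom := iSup_le fun J => by
      rw [← Subgroup.map_le_iff_le_comap]
      refine le_iSup (fun J : {J : Subgroup G // IsPComponent p J ∧ IsQuasisimple ↥J ∧ ∀ q : ↥Q, cj (q : G) K ≠ J} =>
          (J : Subgroup G)) ⟨_, pcomp_conj J.2.1 x, isQuasisimple_of_equiv ((MulAut.conj x).subgroupMap J) J.2.2.1,
            fun r e => J.2.2.2 ((⟨x, Subgroup.mem_zpowers x⟩ : ↥Q)⁻¹ * r) ?_⟩
      show cj (x⁻¹ * (r : G)) K = J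
      rw [cj_mul, e]
      show cj x⁻¹ (cj x J) = J
      rw [← cj_mul, inv_mul_cancel, cj_one]
    exact h hy
  set H' := Subgroup.centralizer ({x} : Set G) ⊓ Subgroup.normalizer (D : Set G) with hH'
  have hDH : D ⊓ Subgroup.centralizer ({x} : Set G) ≤ H' :=
    le_inf inf_le_right (inf_le_left.trans Subgroup.le_normalizer)
  have hLH : IsPC p L H' := hL.mono (le_inf hL.le (hLE.trans hEN)) inf_le_left
  rcases hLH.split inf_le_left hc hxD hxD' inf_le_right hDH (hLE.trans hED) with hLD | hLD'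
  swap
  · rw [Subgroup.commutator_eq_bot_iff_le_centralizer, Subgroup.le_centralizer_iff] at hc
    exact hKL (hLD'.trans (hc.trans (Subgroup.centralizer_le (self_le_orbitSup Q K))))
  have hLP : IsPC p L (D ⊓ Subgroup.centralizer ({x} : Set G)) :=
    hL.mono (le_inf hLD hL.le) inf_le_right
  by_cases hxK : x ∈ Subgroup.normalizer (K : Set G)
  · rw [hD, orbitSup_eq_self (Subgroup.zpowers_le.mpr hxK)] at hLP
    exact hnq (qs_case_fixed hG hx hK hKq hxK hLP)
  have hm : Moves p x K := ⟨hxpow, ⟨hK.1, hKq⟩, fun e => hxK (mem_normalizer_of_cj e)⟩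
  have hLr : L ≤ hm.delta.range := hm.le_range hLD hL.le hL.perfect
  have hrP : hm.delta.range ≤ D ⊓ Subgroup.centralizer ({x} : Set G) := by
    rintro _ ⟨j, rfl⟩
    exact Subgroup.mem_inf.mpr ⟨hm.delta_mem j, Subgroup.mem_centralizer_singleton_iff.mpr
      (mul_inv_eq_iff_eq_mul.mp (hm.delta_fixed j)).symm⟩
  have hLr' : IsPC p L hm.delta.range := hLP.mono hLr hrP
  haveI : Nontrivial ↥hm.delta.range := (Subgroup.nontrivial_iff_ne_bot _).mpr fun e =>
    hL.not_comm fun a ha b hb => by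
      rw [show a = 1 from Subgroup.mem_bot.mp (e ▸ hLr ha), one_mul, mul_one]
  have hrq : IsQuasisimple ↥hm.delta.range :=
    isQuasisimple_of_surj_nontrivial hm.delta.rangeRestrict hm.delta.rangeRestrict_surjective hKq
  exact hnq (hLr'.eq_of_quasisimple hrq ▸ hrq)

/-- Balance for centralizers of `p`-subgroups. -/
theorem nonqs_le_aux (n : ℕ) : ∀ (X : Type u) [Group X] [Finite X], BHyp p X → ∀ R : Subgroup X,
    Nat.card R = n → IsPGroup p ↥R → ∀ L : Subgroup X, IsPC p L (Subgroup.centralizer (R : Set X)) →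
      ¬ IsQuasisimple ↥L → L ≤ nonQuasisimplePLayer p X := by
  induction n using Nat.strong_induction_on with
  | _ n ih =>
  intro X _ _ hX R hn hR L hL hnq
  rcases eq_or_ne R ⊥ with rfl | hne
  · have hc : Subgroup.centralizer ((⊥ : Subgroup X) : Set X) = ⊤ := by
      rw [eq_top_iff]
      intro y _ r hr
      rw [SetLike.mem_coe, Subgroup.mem_bot] at hr
      rw [hr, one_mul, mul_one]
    have h1 : IsPComponent p L := by
      have h2 := hL.toPComp
      rw [hc] at h2
      exact (isPComponent_subgroupOf_iff ⊤ le_top).mp h2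
    exact le_iSup (fun K : {K : Subgroup X // IsPComponent p K ∧ ¬ IsQuasisimple ↥K} => (K : Subgroup X))
      ⟨L, h1, hnq⟩
  haveI : Nontrivial ↥R := (Subgroup.nontrivial_iff_ne_bot R).mpr hne
  haveI := hR.center_nontrivial
  haveI hcp : IsPGroup p ↥(Subgroup.center ↥R) := hR.to_subgroup _
  have hdvd : p ∣ Nat.card ↥(Subgroup.center ↥R) := by
    obtain ⟨k, hk, hk'⟩ := (IsPGroup.nontrivial_iff_card hcp).mp inferInstance
    rw [hk']
    exact dvd_pow_self p (by omega)
  obtain ⟨⟨⟨x, hxR⟩, hxc⟩, hxo⟩ := exists_prime_orderOf_dvd_card' p hdvd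
  rw [← Subgroup.orderOf_coe, ← Subgroup.orderOf_coe] at hxo
  set M := Subgroup.centralizer ({x} : Set X) with hM
  have hxM : x ∈ M := Subgroup.mem_centralizer_singleton_iff.mpr rfl
  have hRM : R ≤ M := fun r hr => Subgroup.mem_centralizer_singleton_iff.mpr
    (congrArg Subtype.val (Subgroup.mem_center_iff.mp hxc ⟨r, hr⟩))
  set CR := Subgroup.centralizer (R : Set X) with hCR
  have hCM : CR ≤ M := Subgroup.centralizer_le (Set.singleton_subset_iff.mpr hxR)
  have hLM : L ≤ M := hL.le.trans hCM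
  set z : ↥M := ⟨x, hxM⟩ with hz
  have hzc : z ∈ Subgroup.center ↥M := Subgroup.mem_center_iff.mpr fun g =>
    Subtype.ext (Subgroup.mem_centralizer_singleton_iff.mp g.2)
  have hZc : Subgroup.zpowers z ≤ Subgroup.center ↥M := Subgroup.zpowers_le.mpr hzc
  haveI : (Subgroup.zpowers z).Normal := ⟨fun a ha g => by
    rw [Subgroup.mem_center_iff.mp (hZc ha) g, mul_inv_cancel_right]; exact ha⟩
  let f : ↥M →* ↥M ⧸ Subgroup.zpowers z := QuotientGroup.mk' _
  have hf : Function.Surjective f := QuotientGroup.mk'_surjective _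
  have hBM : BHyp p ↥M := hX.of_surj M (MonoidHom.id ↥M) Function.surjective_id
  have hBQ : BHyp p (↥M ⧸ Subgroup.zpowers z) := hX.of_surj M f hf
  set L' := L.subgroupOf M with hL'
  set C' := CR.subgroupOf M with hC'
  have hL'C : IsPC p L' C' := by
    refine ⟨fun l hl => hL.le hl, ?_, ?_, ?_⟩
    · let e := Subgroup.subgroupOfEquivOfLe hCM
      have h2 := hL.subnormal.map (f := e.symm.toMonoidHom) e.symm.surjective
      have e2 : (L.subgroupOf CR).map e.symm.toMonoidHom = L'.subgroupOf C' := by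
        ext w
        rw [Subgroup.mem_map_equiv]
        rfl
      rwa [e2] at h2
    · refine Subgroup.map_injective M.subtype_injective ?_
      rw [← pEl_map_subtype, Subgroup.map_subgroupOf_eq_of_le hLM, hL.pel]
    · exact isQuasisimple_of_equiv (QuotientGroup.congr _ _ (Subgroup.subgroupOfEquivOfLe hLM).symm
        (pPrimeCore_map_equiv p _)) hL.qs
  have hnq' : ¬ IsQuasisimple ↥L' := fun e => hnq (isQuasisimple_of_equiv (Subgroup.subgroupOfEquivOfLe hLM) e)
  set R' := R.subgroupOf M with hR'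
  set Rb := R'.map f with hRb
  set Cb := Subgroup.centralizer (Rb : Set (↥M ⧸ Subgroup.zpowers z)) with hCb
  have hCC : C'.map f ≤ Cb := by
    rintro _ ⟨c, hc, rfl⟩ _ ⟨r, hr, rfl⟩
    rw [← map_mul, ← map_mul]
    exact congrArg f (Subtype.ext (hc r hr))
  have hCn : Cb ≤ Subgroup.normalizer ((C'.map f : Subgroup (↥M ⧸ Subgroup.zpowers z)) :
      Set (↥M ⧸ Subgroup.zpowers z)) := by
    intro w hw
    obtain ⟨m, rfl⟩ := hf w
    have hmR : (m : X) ∈ Subgroup.normalizer (R : Set X) := mem_normalizer_of_maps fun r hr => by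
      have h1 : f (m * ⟨r, hRM hr⟩ * m⁻¹) = f ⟨r, hRM hr⟩ := by
        rw [map_mul, map_mul, map_inv, ← hw _ ⟨⟨r, hRM hr⟩, hr, rfl⟩, mul_inv_cancel_right]
      have h2 := QuotientGroup.eq.mp h1.symm
      obtain ⟨i, hi⟩ := Subgroup.mem_zpowers_iff.mp h2
      have h3 := congrArg Subtype.val hi
      push_cast at h3
      have h4 : (m : X) * r * (m : X)⁻¹ = r * x ^ i := by
        rw [hz] at h3
        rw [h3, mul_inv_cancel_left]
      rw [h4]
      exact Subgroup.mul_mem R hr (Subgroup.zpow_mem R hxR i)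
    refine mem_normalizer_of_maps ?_
    rintro _ ⟨c, hc, rfl⟩
    refine ⟨m * c * m⁻¹, ?_, by rw [map_mul, map_mul, map_inv]⟩
    exact (Subgroup.mem_normalizer_iff.mp (normalizer_le_normalizer_centralizer' R hmR) c).mp hc
  have hker : L' ⊓ f.ker ≤ Subgroup.centralizer (L' : Set ↥M) := fun w hw l _ => by
    obtain ⟨-, hw2⟩ := Subgroup.mem_inf.mp hw
    rw [QuotientGroup.ker_mk'] at hw2
    exact Subgroup.mem_center_iff.mp (hZc hw2) l
  have hsn : ((L'.map f).subgroupOf (C'.map f)).IsSubnormal := by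
    have h2 := hL'C.subnormal.map (f := f.subgroupMap C') (f.subgroupMap_surjective C')
    have e : (L'.subgroupOf C').map (f.subgroupMap C') = (L'.map f).subgroupOf (C'.map f) := by
      ext w
      constructor
      · rintro ⟨v, hv, rfl⟩
        exact ⟨v, hv, rfl⟩
      · rintro ⟨v, hv, e⟩
        exact ⟨⟨v, hL'C.le hv⟩, hv, Subtype.ext e⟩
    rwa [e] at h2
  obtain ⟨hpc, hback⟩ := hL'C.map_central f (Subgroup.map_mono hL'C.le) hsn hker
  have hRp : IsPGroup p ↥Rb := (hR.of_equiv (Subgroup.subgroupOfEquivOfLe hRM).symm).map _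
  have hlt : Nat.card Rb < n := by
    have hzR : z ∈ R' := hxR
    have h1 : Nat.card R' = n := (Nat.card_congr (Subgroup.subgroupOfEquivOfLe hRM).toEquiv).trans hn
    have h2 : Nat.card (f.subgroupMap R').ker * Nat.card Rb = Nat.card R' := by
      rw [← Nat.card_congr (QuotientGroup.quotientKerEquivOfSurjective _ (f.subgroupMap_surjective R')).toEquiv,
        mul_comm, ← Subgroup.card_eq_card_quotient_mul_card_subgroup]
    have h3 : 2 ≤ Nat.card (f.subgroupMap R').ker := by
      rw [← Nat.succ_le_iff.symm.trans Iff.rfl]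
      haveI : Nontrivial ↥(f.subgroupMap R').ker := ⟨⟨⟨⟨z, hzR⟩,
        MonoidHom.mem_ker.mpr (Subtype.ext ((QuotientGroup.eq_one_iff z).mpr (Subgroup.mem_zpowers z)))⟩, 1,
        fun e => (Fact.out : p.Prime).one_lt.ne' (hxo.symm.trans
          (orderOf_eq_one_iff.mpr (congrArg (fun a : ↥(f.subgroupMap R').ker => (((a : ↥R') : ↥M) : X)) e)))⟩⟩
      exact Finite.one_lt_card
    have h4 : 0 < Nat.card Rb := Nat.card_pos
    rw [← h1, ← h2]
    exact lt_mul_of_one_lt_left h4 (by omega)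
  have hIH := ih _ hlt (↥M ⧸ Subgroup.zpowers z) hBQ Rb rfl hRp (L'.map f) (hpc.lift_normal hCC hCn)
    (fun e => hnq' (hback e))
  -- back in `M`
  have hLp : L' ≤ pLayer p ↥M := by
    refine le_pLayer_of_centralizer hBM (hR.of_equiv (Subgroup.subgroupOfEquivOfLe hRM).symm) (R := R') ?_
    have e : Subgroup.centralizer (R' : Set ↥M) = C' := by
      ext c
      exact ⟨fun h r hr => congrArg Subtype.val (h ⟨r, hRM hr⟩ hr), fun h r hr => Subtype.ext (h r hr)⟩
    rw [e]
    exact hL'C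
  have hLE : L' ≤ Subgroup.centralizer ((qsPLayer p ↥M : Subgroup ↥M) : Set ↥M) := by
    rw [Subgroup.le_centralizer_iff]
    refine iSup_le fun K => ?_
    rw [Subgroup.le_centralizer_iff, ← Subgroup.commutator_eq_bot_iff_le_centralizer]
    have hKpc : IsPC p (K : Subgroup ↥M) ⊤ := IsPC.of_pcompOf ⟨le_top, (isPComponent_subgroupOf_iff ⊤ le_top).mpr K.2.1⟩
    have hKker : (K : Subgroup ↥M) ⊓ f.ker ≤ Subgroup.centralizer ((K : Subgroup ↥M) : Set ↥M) := fun w hw l _ => by
      obtain ⟨-, hw2⟩ := Subgroup.mem_inf.mp hw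
      rw [QuotientGroup.ker_mk'] at hw2
      exact Subgroup.mem_center_iff.mp (hZc hw2) l
    have hKsn : (((K : Subgroup ↥M).map f).subgroupOf ⊤).IsSubnormal := (K.2.1.1.map hf).subgroupOf
    have hKb := (isPComponent_subgroupOf_iff ⊤ le_top).mp (hKpc.map_central f le_top hKsn hKker).1.toPComp
    haveI : Nontrivial ↥((K : Subgroup ↥M).map f) := (Subgroup.nontrivial_iff_ne_bot _).mpr fun e =>
      pcomp_not_le_core hKb (e ▸ bot_le)
    have hKbq : IsQuasisimple ↥((K : Subgroup ↥M).map f) :=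
      isQuasisimple_of_surj_nontrivial (f.subgroupMap _) (f.subgroupMap_surjective _) K.2.2
    have h1 : L'.map f ≤ Subgroup.centralizer (((K : Subgroup ↥M).map f : Subgroup _) : Set _) := by
      refine hIH.trans (iSup_le fun J => ?_)
      rw [← Subgroup.commutator_eq_bot_iff_le_centralizer, Subgroup.commutator_comm]
      exact pcomp_commute_of_quasisimple hKb J.2.1 (fun e => J.2.2 (e ▸ hKbq)) hKbq
    have h2 : ⁅L', (K : Subgroup ↥M)⁆ ≤ Subgroup.center ↥M := by
      refine le_trans ?_ hZc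
      rw [← QuotientGroup.ker_mk' (Subgroup.zpowers z), ← Subgroup.map_eq_bot_iff, Subgroup.map_commutator,
        Subgroup.commutator_eq_bot_iff_le_centralizer]
      exact h1
    have h3 : ⁅⁅L', (K : Subgroup ↥M)⁆, L'⁆ = ⊥ := by
      rw [Subgroup.commutator_eq_bot_iff_le_centralizer]
      exact h2.trans (Subgroup.center_le_centralizer _)
    have h4 : ⁅⁅(K : Subgroup ↥M), L'⁆, L'⁆ = ⊥ := by rwa [Subgroup.commutator_comm (K : Subgroup ↥M) L']
    have h5 := Subgroup.commutator_commutator_eq_bot_of_rotate (H₁ := L') (H₂ := L') (H₃ := (K : Subgroup ↥M)) h3 h4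
    rwa [hL'C.perfect] at h5
  have hLB : L' ≤ nonQuasisimplePLayer p ↥M := by
    refine hL'C.perfect.ge.trans (Subgroup.commutator_le.mpr fun l hl l' hl' => ?_)
    have hd : ∀ l ∈ L', ∃ e ∈ qsPLayer p ↥M, ∃ b ∈ nonQuasisimplePLayer p ↥M, l = e * b ∧
        ∀ a ∈ qsPLayer p ↥M, Commute e a := by
      intro l hl
      obtain ⟨e, he, b, hb, rfl⟩ := mem_sup_of_commutator_eq_bot qs_commute_nonqs (pLayer_le_qs_sup (hLp hl))
      refine ⟨e, he, b, hb, rfl, fun a ha => ?_⟩
      have h1 : Commute (e * b) a := (hLE hl a ha).symm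
      have h2 : Commute b a := (comm_of_commutator_eq_bot qs_commute_nonqs ha hb).symm
      have h3 := h1.mul_left h2.inv_left
      rwa [mul_inv_cancel_right] at h3
    obtain ⟨e, he, b, hb, rfl, hec⟩ := hd l hl
    obtain ⟨e', he', b', hb', rfl, -⟩ := hd l' hl'
    rw [commutator_prod_of_commute (comm_of_commutator_eq_bot qs_commute_nonqs he hb')
      (comm_of_commutator_eq_bot qs_commute_nonqs he' hb) (comm_of_commutator_eq_bot qs_commute_nonqs he hb)
      (comm_of_commutator_eq_bot qs_commute_nonqs he' hb'),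
      commutatorElement_eq_one_iff_commute.mpr (hec e' he'), one_mul, commutatorElement_def]
    exact Subgroup.mul_mem _ (Subgroup.mul_mem _ (Subgroup.mul_mem _ hb hb') (Subgroup.inv_mem _ hb))
      (Subgroup.inv_mem _ hb')
  calc L = L'.map M.subtype := (Subgroup.map_subgroupOf_eq_of_le hLM).symm
    _ ≤ (nonQuasisimplePLayer p ↥M).map M.subtype := Subgroup.map_mono hLB
    _ ≤ nonQuasisimplePLayer p X := by
      rw [Subgroup.map_le_iff_le_comap]
      refine iSup_le fun K => ?_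
      rw [← Subgroup.map_le_iff_le_comap]
      have hKX : IsPC p ((K : Subgroup ↥M).map M.subtype) M := IsPC.of_pcompOf ⟨Subgroup.map_subtype_le _, by
        rw [Subgroup.subgroupOf, Subgroup.comap_map_eq_self_of_injective M.subtype_injective]; exact K.2.1⟩
      exact nonqs_le_of_orderOf hX hxo hKX fun e => K.2.2
        (isQuasisimple_of_equiv (Subgroup.equivMapOfInjective _ _ M.subtype_injective).symm e)

/-- `B_{p'}`-balance. -/
theorem nonQuasisimplePLayer_balance (hG : BHyp p G) (R : Subgroup G) (hR : IsPGroup p ↥R) :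
    (nonQuasisimplePLayer p ↥(Subgroup.normalizer (R : Set G))).map (Subgroup.normalizer (R : Set G)).subtype ≤
      nonQuasisimplePLayer p G := by
  set N := Subgroup.normalizer (R : Set G) with hN
  rw [Subgroup.map_le_iff_le_comap]
  refine iSup_le fun K => ?_
  rw [← Subgroup.map_le_iff_le_comap]
  haveI : (R.subgroupOf N).Normal :=
    (Subgroup.normal_subgroupOf_iff_le_normalizer Subgroup.le_normalizer).mpr le_rfl
  have hle : R.subgroupOf N ≤ pCore p ↥N :=
    le_pCore (hR.of_equiv (Subgroup.subgroupOfEquivOfLe Subgroup.le_normalizer).symm)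
  have hLC : (K : Subgroup ↥N).map N.subtype ≤ Subgroup.centralizer (R : Set G) := by
    rintro _ ⟨k, hk, rfl⟩ q hq
    exact congrArg Subtype.val (pcomp_centralizes_pCore K.2.1 hk ⟨q, Subgroup.le_normalizer hq⟩ (hle hq))
  have hKN : IsPC p ((K : Subgroup ↥N).map N.subtype) N := IsPC.of_pcompOf ⟨Subgroup.map_subtype_le _, by
    rw [Subgroup.subgroupOf, Subgroup.comap_map_eq_self_of_injective N.subtype_injective]; exact K.2.1⟩
  exact nonqs_le_aux _ G hG R rfl hR _ (hKN.mono hLC (centralizer_le_normalizer' R)) fun e =>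
    K.2.2 (isQuasisimple_of_equiv (Subgroup.equivMapOfInjective _ _ N.subtype_injective).symm e)

end CfsgLib.Comp
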