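import Cfsg.Agent.Lib.Comp.PCompMore
import Cfsg.Prelude.Def_Balance

/-!
The extended 2-layer; balance.
-/

set_option autoImplicit false
set_option linter.unusedSectionVars false

namespace CfsgLib.Comp

open Cfsg Subgroup
open scoped commutatorElement

universe u v
variable {G : Type u} [Group G]

/-- `O(C_G(A))` inside `G`. -/
def coreC (A : Subgroup G) : Subgroup G :=
  (oddCore ↥(Subgroup.centralizer (A : Set G))).map (Subgroup.centralizer (A : Set G)).subtype

theorem centralizer_map_conj (A : Subgroup G) (g : G) :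
    (Subgroup.centralizer (A : Set G)).map (MulAut.conj g).toMonoidHom =
      Subgroup.centralizer ((A.map (MulAut.conj g).toMonoidHom : Subgroup G) : Set G) := by
  ext x
  rw [Subgroup.mem_map_equiv]
  constructor
  · rintro h _ ⟨a, ha, rfl⟩
    have h1 := h a ha
    simp only [MulAut.conj_symm_apply] at h1
    simp only [MulEquiv.coe_toMonoidHom, MulAut.conj_apply]
    calc g * a * g⁻¹ * x = g * (a * (g⁻¹ * x * g)) * g⁻¹ := by group
      _ = g * (g⁻¹ * x * g * a) * g⁻¹ := by rw [h1]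
      _ = x * (g * a * g⁻¹) := by group
  · intro h a ha
    have h1 := h (g * a * g⁻¹) ⟨a, ha, rfl⟩
    simp only [MulAut.conj_symm_apply]
    calc a * (g⁻¹ * x * g) = g⁻¹ * (g * a * g⁻¹ * x) * g := by group
      _ = g⁻¹ * (x * (g * a * g⁻¹)) * g := by rw [h1]
      _ = g⁻¹ * x * g * a := by group

theorem coreC_conj [Finite G] (A : Subgroup G) (g : G) :
    (coreC A).map (MulAut.conj g).toMonoidHom = coreC (A.map (MulAut.conj g).toMonoidHom) := by
  have key : ∀ C : Subgroup G, ((pPrimeCore 2 ↥C).map C.subtype).map (MulAut.conj g).toMonoidHom =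
      (pPrimeCore 2 ↥(C.map (MulAut.conj g).toMonoidHom)).map (C.map (MulAut.conj g).toMonoidHom).subtype := by
    intro C
    refine Eq.trans ?_ (congrArg (Subgroup.map (C.map (MulAut.conj g).toMonoidHom).subtype)
      (pPrimeCore_map_equiv 2 ((MulAut.conj g).subgroupMap C)))
    rw [Subgroup.map_map]
    erw [Subgroup.map_map]
    rfl
  unfold coreC
  refine (key _).trans ?_
  rw [centralizer_map_conj]

theorem odd_card_coreC [Finite G] (A : Subgroup G) : Odd (Nat.card (coreC A)) := by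
  rw [coreC, Subgroup.card_map_of_injective (Subgroup.subtype_injective _)]
  exact odd_card_oddCore

theorem coreC_centralizes (A : Subgroup G) : coreC A ≤ Subgroup.centralizer (A : Set G) :=
  Subgroup.map_subtype_le _

variable [Finite G]

/-- `L_{2'}(G) O_{2',2}(G)`. -/
abbrev LP (G : Type u) [Group G] : Subgroup G := pLayer 2 G ⊔ pPrimePCore 2 G

/-- The image of a Sylow subgroup of `LP G`. -/
abbrev TT (T : Sylow 2 ↥(LP G)) : Subgroup G := (T : Subgroup ↥(LP G)).map (LP G).subtype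

theorem extended_eq : extendedTwoLayer G = pLayer 2 G ⊔ oddCore G ⊔ ⨆ T : Sylow 2 ↥(LP G), coreC (TT T) := rfl

theorem map_conj_normal {N : Subgroup G} (hN : N.Normal) (g : G) : N.map (MulAut.conj g).toMonoidHom = N := by
  refine Subgroup.eq_of_le_of_card_ge ?_ ?_
  · rintro _ ⟨x, hx, rfl⟩; exact hN.conj_mem x hx g
  · rw [Subgroup.card_map_of_injective (MulAut.conj g).injective]

theorem TT_conj (T : Sylow 2 ↥(LP G)) (g : G) :
    ∃ T' : Sylow 2 ↥(LP G), (TT T).map (MulAut.conj g).toMonoidHom = TT T' := by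
  haveI : (LP G).Normal := inferInstance
  let e : MulAut ↥(LP G) := MulAut.conjNormal g
  refine ⟨T.mapSurjective (f := e.toMonoidHom) e.surjective, ?_⟩
  show ((T : Subgroup ↥(LP G)).map (LP G).subtype).map (MulAut.conj g).toMonoidHom =
    ((T : Subgroup ↥(LP G)).map e.toMonoidHom).map (LP G).subtype
  rw [Subgroup.map_map, Subgroup.map_map]
  rfl

theorem extended_normal : (extendedTwoLayer G).Normal := by
  haveI : (oddCore G).Normal := Subgroup.sSup_normal _ (fun _ h => h.1)
  constructor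
  intro x hx g
  have hle : (extendedTwoLayer G).map (MulAut.conj g).toMonoidHom ≤ extendedTwoLayer G := by
    rw [extended_eq, Subgroup.map_sup, Subgroup.map_sup, map_conj_normal inferInstance, map_conj_normal inferInstance,
      Subgroup.map_iSup]
    refine sup_le_sup le_rfl (iSup_le fun T => ?_)
    obtain ⟨T', hT'⟩ := TT_conj T g
    rw [coreC_conj, hT']
    exact le_iSup (fun T => coreC (TT T)) T'
  exact hle ⟨x, hx, rfl⟩

theorem LP_eq_sup (T : Sylow 2 ↥(LP G)) : LP G = pLayer 2 G ⊔ oddCore G ⊔ TT T := by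
  haveI : Fact (Nat.Prime 2) := ⟨Nat.prime_two⟩
  haveI : (oddCore G).Normal := Subgroup.sSup_normal _ (fun _ h => h.1)
  set N := pLayer 2 G ⊔ oddCore G with hN
  have hNle : N ≤ LP G := sup_le_sup le_rfl core_le_pPrimePCore
  have hres : pResidual 2 ↥(LP G) ≤ N.subgroupOf (LP G) := by
    refine pResidual_le_of_isPGroup_quotient ?_
    intro z
    obtain ⟨⟨x, hx⟩, rfl⟩ := QuotientGroup.mk'_surjective _ z
    obtain ⟨a, ha, b, hb, rfl⟩ := Subgroup.mem_sup_of_normal_right.mp hx
    obtain ⟨k, hk⟩ := isPGroup_pCore (G := G ⧸ pPrimeCore 2 G) 2 ⟨bar 2 G b, hb⟩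
    refine ⟨k, ?_⟩
    rw [show (⟨a * b, hx⟩ : LP G) = ⟨a, Subgroup.mem_sup_left ha⟩ * ⟨b, Subgroup.mem_sup_right hb⟩ from rfl,
      map_mul, show QuotientGroup.mk' (N.subgroupOf (LP G)) ⟨a, Subgroup.mem_sup_left ha⟩ = 1 from
        (QuotientGroup.eq_one_iff _).mpr (Subgroup.mem_sup_left ha), one_mul, ← map_pow, QuotientGroup.mk'_apply,
      QuotientGroup.eq_one_iff, Subgroup.mem_subgroupOf]
    push_cast
    refine Subgroup.mem_sup_right ?_
    show b ^ 2 ^ k ∈ pPrimeCore 2 G
    rw [← QuotientGroup.eq_one_iff]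
    exact congrArg Subtype.val hk
  have hsup := sylow_sup_eq_top_of_pResidual_le T hres
  refine le_antisymm ?_ (sup_le hNle (Subgroup.map_subtype_le _))
  intro x hx
  obtain ⟨a, ha, b, hb, e⟩ := Subgroup.mem_sup_of_normal_left.mp (hsup.symm ▸ Subgroup.mem_top (⟨x, hx⟩ : LP G))
  have e' : (a : G) * b = x := congrArg Subtype.val e
  rw [← e']
  exact Subgroup.mul_mem_sup ha ⟨b, hb, rfl⟩

theorem normalizer_le_normalizer_coreC (A : Subgroup G) :
    Subgroup.normalizer (A : Set G) ≤ Subgroup.normalizer (coreC A : Set G) := by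
  intro g hg
  refine mem_normalizer_of_maps fun x hx => ?_
  have h : A.map (MulAut.conj g).toMonoidHom = A := by
    refine Subgroup.eq_of_le_of_card_ge ?_ ?_
    · rintro _ ⟨y, hy, rfl⟩; exact (Subgroup.mem_normalizer_iff.mp hg y).mp hy
    · rw [Subgroup.card_map_of_injective (MulAut.conj g).injective]
  have h2 : g * x * g⁻¹ ∈ (coreC A).map (MulAut.conj g).toMonoidHom := ⟨x, hx, rfl⟩
  rwa [coreC_conj, h] at h2

theorem extended_single (T : Sylow 2 ↥(LP G)) :
    extendedTwoLayer G = pLayer 2 G ⊔ oddCore G ⊔ coreC (TT T) := by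
  haveI : (oddCore G).Normal := Subgroup.sSup_normal _ (fun _ h => h.1)
  rw [extended_eq]
  refine le_antisymm (sup_le le_sup_left (iSup_le fun T' => ?_)) (sup_le_sup le_rfl (le_iSup (fun T => coreC (TT T)) T))
  obtain ⟨m, hm⟩ := MulAction.exists_smul_eq ↥(LP G) T T'
  have hTT : TT T' = (TT T).map (MulAut.conj (m : G)).toMonoidHom := by
    rw [← hm]
    unfold TT
    rw [Sylow.coe_subgroup_smul, Subgroup.pointwise_smul_def]
    show ((T : Subgroup ↥(LP G)).map (MulAut.conj m).toMonoidHom).map (LP G).subtype = _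
    rw [Subgroup.map_map, Subgroup.map_map]
    rfl
  obtain ⟨n, hn, t, ht, e⟩ := Subgroup.mem_sup_of_normal_left.mp
    ((LP_eq_sup T) ▸ m.2 : (m : G) ∈ pLayer 2 G ⊔ oddCore G ⊔ TT T)
  rw [hTT, ← coreC_conj]
  rintro _ ⟨w, hw, rfl⟩
  rw [← e]
  simp only [MulEquiv.coe_toMonoidHom, MulAut.conj_apply]
  have h1 : t * w * t⁻¹ ∈ coreC (TT T) :=
    (Subgroup.mem_normalizer_iff.mp (normalizer_le_normalizer_coreC _ (Subgroup.le_normalizer ht)) w).mp hw
  have h2 : n ∈ pLayer 2 G ⊔ oddCore G ⊔ coreC (TT T) := Subgroup.mem_sup_left hn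
  rw [show n * t * w * (n * t)⁻¹ = n * (t * w * t⁻¹) * n⁻¹ by group]
  exact mul_mem (mul_mem h2 (Subgroup.mem_sup_right h1)) (inv_mem h2)

theorem extended_odd_part : ∃ F : Subgroup G, Odd (Nat.card F) ∧
    (∃ S : Sylow 2 G, (S : Subgroup G) ≤ Subgroup.normalizer (F : Set G)) ∧
    extendedTwoLayer G = pLayer 2 G ⊔ F := by
  haveI : Fact (Nat.Prime 2) := ⟨Nat.prime_two⟩
  haveI : (oddCore G).Normal := Subgroup.sSup_normal _ (fun _ h => h.1)
  haveI : (LP G).Normal := inferInstance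
  obtain ⟨T⟩ : Nonempty (Sylow 2 ↥(LP G)) := inferInstance
  refine ⟨oddCore G ⊔ coreC (TT T), ?_, ?_, by rw [extended_single T, sup_assoc]⟩
  · have h := card_sup_dvd_mul (coreC (TT T)) (oddCore G)
    rw [sup_comm] at h
    exact Odd.of_dvd_nat ((odd_card_coreC _).mul odd_card_oddCore) h
  · -- a Sylow subgroup containing `T` normalises it
    have hTp : IsPGroup 2 (TT T) := T.2.map _
    obtain ⟨S, hS⟩ := hTp.exists_le_sylow
    refine ⟨S, fun s hs => ?_⟩
    have hsT : s ∈ Subgroup.normalizer (TT T : Set G) := by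
      have hmax : (S : Subgroup G) ⊓ LP G ≤ TT T := by
        have h1 : IsPGroup 2 ((S : Subgroup G).subgroupOf (LP G)) :=
          S.2.of_injective ((LP G).subtype.subgroupComap (S : Subgroup G))
            (fun a b e => Subtype.ext (Subtype.ext (congrArg (fun z : (S : Subgroup G) => (z : G)) e)))
        have h2 := T.3 h1 (fun x hx => hS ⟨x, hx, rfl⟩)
        rintro x ⟨hx1, hx2⟩
        exact ⟨⟨x, hx2⟩, (h2 ▸ hx1 : (⟨x, hx2⟩ : LP G) ∈ (T : Subgroup ↥(LP G))), rfl⟩
      refine mem_normalizer_of_maps fun x hx => hmax (Subgroup.mem_inf.mpr ⟨Subgroup.mul_mem _ (Subgroup.mul_mem _ hs (hS hx)) (Subgroup.inv_mem _ hs), ?_⟩)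
      exact (inferInstance : (LP G).Normal).conj_mem x (Subgroup.map_subtype_le _ hx) s
    refine mem_normalizer_of_maps fun x hx => ?_
    obtain ⟨a, ha, b, hb, rfl⟩ := Subgroup.mem_sup_of_normal_left.mp hx
    rw [show s * (a * b) * s⁻¹ = (s * a * s⁻¹) * (s * b * s⁻¹) by group]
    exact Subgroup.mul_mem_sup ((inferInstance : (oddCore G).Normal).conj_mem a ha s)
      ((Subgroup.mem_normalizer_iff.mp (normalizer_le_normalizer_coreC _ hsT) b).mp hb)

theorem pcomp_extended {K : Subgroup G} (hK : IsPComponent 2 K) :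
    K ≤ extendedTwoLayer G ∧ (K.subgroupOf (extendedTwoLayer G)).Normal := by
  haveI : Fact (Nat.Prime 2) := ⟨Nat.prime_two⟩
  have hle : K ≤ extendedTwoLayer G :=
    (le_sSup hK : K ≤ pLayer 2 G).trans (le_sup_left.trans le_sup_left)
  refine ⟨hle, (Subgroup.normal_subgroupOf_iff_le_normalizer hle).mpr ?_⟩
  have hNK : pLayer 2 G ⊔ oddCore G ≤ Subgroup.normalizer (K : Set G) :=
    sup_le (pLayer_le_normalizer hK) (core_le_normalizer hK)
  rw [extended_eq]
  refine sup_le hNK (iSup_le fun T x hx => ?_)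
  have hxT := coreC_centralizes _ hx
  set K' := K.map (MulAut.conj x).toMonoidHom with hK'
  by_cases hsame : K' = K
  · exact mem_normalizer_of_maps fun y hy => hsame ▸ ⟨y, hy, rfl⟩
  exfalso
  have hc := (components_eq_or_commute (pcomp_conj hK x).2.1 hK.2.1).resolve_left
    fun h => hsame (pcomp_unique (pcomp_conj hK x) hK h)
  refine isQuasisimple_not_isSolvable hK.2.1.2 (Group.isSolvable_of_comm fun a b => Subtype.ext ?_)
  have hcentral : pEl 2 K ≤ (Subgroup.centralizer
      ((K.map (bar 2 G) : Subgroup _) : Set (G ⧸ pPrimeCore 2 G))).comap (bar 2 G) := by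
    rw [pEl, Subgroup.closure_le]
    rintro y ⟨hy, k, hk⟩
    have hyM : y ∈ LP G := Subgroup.mem_sup_left ((le_sSup hK : K ≤ pLayer 2 G) hy)
    have hyp : IsPGroup 2 (Subgroup.zpowers (⟨y, hyM⟩ : LP G)) := by
      refine IsPGroup.of_card_dvd_pow (n := k) ?_
      rw [Nat.card_zpowers]
      exact orderOf_dvd_of_pow_eq_one (Subtype.ext hk)
    obtain ⟨T', hT'⟩ := hyp.exists_le_sylow
    obtain ⟨m, hm⟩ := MulAction.exists_smul_eq ↥(LP G) T T'
    have hy' : (⟨y, hyM⟩ : LP G) ∈ (T' : Subgroup ↥(LP G)) := hT' (Subgroup.mem_zpowers _)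
    rw [← hm, Sylow.coe_subgroup_smul, Subgroup.pointwise_smul_def] at hy'
    obtain ⟨t, ht, et⟩ := hy'
    have et' : (m : G) * t * (m : G)⁻¹ = y := congrArg Subtype.val et
    obtain ⟨n, hn, t', ht', e⟩ := Subgroup.mem_sup_of_normal_left.mp
      ((LP_eq_sup T) ▸ m.2 : (m : G) ∈ pLayer 2 G ⊔ oddCore G ⊔ TT T)
    set s := t' * (t : G) * t'⁻¹ with hs
    have hsT : s ∈ TT T := mul_mem (mul_mem ht' ⟨t, ht, rfl⟩) (inv_mem ht')
    have hys : y = n * s * n⁻¹ := by rw [← et', ← e, hs]; group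
    have hnb := (Subgroup.mem_normalizer_iff.mp (hNK hn) s).mpr (by rw [← hys]; exact hy)
    have hsK' : s ∈ K' := by
      refine ⟨s, hnb, ?_⟩
      simp only [MulEquiv.coe_toMonoidHom, MulAut.conj_apply]
      rw [← hxT s hsT, mul_inv_cancel_right]
    rw [SetLike.mem_coe, Subgroup.mem_comap, Subgroup.mem_centralizer_iff]
    rintro _ ⟨z, hz, rfl⟩
    have hz' : n⁻¹ * z * n ∈ K := (Subgroup.mem_normalizer_iff''.mp (hNK hn) z).mp hz
    have h2 := comm_of_commutator_eq_bot hc (Subgroup.mem_map_of_mem (bar 2 G) hsK')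
      (Subgroup.mem_map_of_mem (bar 2 G) hz')
    rw [hys]
    calc bar 2 G z * bar 2 G (n * s * n⁻¹)
        = bar 2 G n * (bar 2 G (n⁻¹ * z * n) * bar 2 G s) * (bar 2 G n)⁻¹ := by
          simp only [map_mul, map_inv]; group
      _ = bar 2 G n * (bar 2 G s * bar 2 G (n⁻¹ * z * n)) * (bar 2 G n)⁻¹ := by rw [← h2]
      _ = bar 2 G (n * s * n⁻¹) * bar 2 G z := by simp only [map_mul, map_inv]; group
  rw [pcomp_pEl hK] at hcentral
  obtain ⟨a', ha', e⟩ := a.2
  obtain ⟨b', hb', e'⟩ := b.2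
  show (a : G ⧸ pPrimeCore 2 G) * b = b * a
  rw [← e, ← e']
  exact ((hcentral ha') (bar 2 G b') (Subgroup.mem_map_of_mem (bar 2 G) hb')).symm

theorem balanced_iff : IsBalanced G ↔ IsKBalanced 2 1 G := by
  haveI : Fact (Nat.Prime 2) := ⟨Nat.prime_two⟩
  have hdelta : ∀ (A : Subgroup G) (a : G), a ∈ A → a ≠ 1 → Nat.card A = 2 →
      signalizerDelta 2 A = centralizerPPrimeCore 2 a := by
    intro A a ha ha1 hA
    refine le_antisymm (iInf_le (fun b : {b : G // b ∈ A ∧ b ≠ 1} => centralizerPPrimeCore 2 (b : G)) ⟨a, ha, ha1⟩)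
      (le_iInf fun ⟨b, hb, hb1⟩ => ?_)
    have : b = a := by
      obtain ⟨z, hz⟩ := (Nat.card_eq_two_iff' (1 : A)).mp hA
      have h1 := hz.2 ⟨a, ha⟩ (fun h => ha1 (congrArg Subtype.val h))
      have h2 := hz.2 ⟨b, hb⟩ (fun h => hb1 (congrArg Subtype.val h))
      exact congrArg Subtype.val (h2.trans h1.symm)
    subst this
    exact le_rfl
  have hcle : ∀ x : G, centralizerPPrimeCore 2 x ≤ Subgroup.centralizer {x} := fun x => Subgroup.map_subtype_le _
  constructor
  · intro h A hA hcard b hb hcomm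
    rw [pow_one] at hcard
    haveI : Nontrivial A := Finite.one_lt_card_iff_nontrivial.mp (by omega)
    obtain ⟨⟨a, ha⟩, ha1⟩ := exists_ne (1 : A)
    have ha1' : a ≠ 1 := fun e => ha1 (Subtype.ext e)
    have hord : orderOf a = 2 := by
      have h2 : orderOf (⟨a, ha⟩ : A) ∣ Nat.card A := orderOf_dvd_natCard _
      rw [hcard, Subgroup.orderOf_mk] at h2
      exact ((Nat.dvd_prime Nat.prime_two).mp h2).resolve_left fun h => ha1' (orderOf_eq_one_iff.mp h)
    rw [hdelta A a ha ha1' hcard, h a b hord hb (hcomm a ha)]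
    exact inf_le_left
  · intro h x y hx hy hxy
    have key : ∀ x y : G, orderOf x = 2 → orderOf y = 2 → x * y = y * x →
        centralizerPPrimeCore 2 x ⊓ Subgroup.centralizer {y} ≤
          centralizerPPrimeCore 2 y ⊓ Subgroup.centralizer {x} := by
      intro x y hx hy hxy
      have hcard : Nat.card (Subgroup.zpowers x) = 2 := by rw [Nat.card_zpowers, hx]
      have hx1 : x ≠ 1 := fun e => by rw [e, orderOf_one] at hx; omega
      have hA : IsElementaryAbelian 2 (Subgroup.zpowers x) := by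
        refine ⟨⟨⟨fun a b => Subtype.ext ?_⟩⟩, fun a ha => ?_⟩
        · obtain ⟨i, hi⟩ := Subgroup.mem_zpowers_iff.mp a.2
          obtain ⟨j, hj⟩ := Subgroup.mem_zpowers_iff.mp b.2
          push_cast
          rw [← hi, ← hj, ← _root_.zpow_add, ← _root_.zpow_add, add_comm]
        · refine orderOf_dvd_iff_pow_eq_one.mp ?_
          rw [← hcard]
          exact Subgroup.orderOf_dvd_natCard _ ha
      have hh := h _ hA (by rw [hcard, pow_one]) y hy (fun a ha => by
        obtain ⟨i, rfl⟩ := Subgroup.mem_zpowers_iff.mp ha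
        exact ((show Commute x y from hxy).zpow_left i).eq)
      rw [hdelta _ x (Subgroup.mem_zpowers x) hx1 hcard] at hh
      exact le_inf hh (inf_le_left.trans (hcle x))
    exact le_antisymm (key x y hx hy hxy) (key y x hy hx hxy.symm)

end CfsgLib.Comp
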