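import Cfsg.Agent.Lib.Comp.BalanceTwo
import Cfsg.Agent.Lib.Comp.Extended

/-!
Core balance for all finite groups: `O(C(R))` lies in the extended `2`-layer for every `2`-subgroup `R`.
The centralizer of a Sylow `2`-subgroup `T` of `F*(G)` is `2`-nilpotent when `O(G) = 1`, by the
`Z^*`-theorem, and the cores move up to `C(T)` by coprime action.
-/

set_option autoImplicit false
set_option linter.unusedSectionVars false

namespace CfsgLib.Comp

open Cfsg Subgroup Cfsg.FusionSystem
open scoped commutatorElement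

universe u v
variable {G : Type u} [Group G] [Finite G]

theorem eq_one_of_odd_of_two_pow {x : G} {k : ℕ} (hx : Odd (orderOf x)) (hk : x ^ 2 ^ k = 1) : x = 1 :=
  orderOf_eq_one_iff.mp (Nat.eq_one_of_dvd_coprimes ((Nat.coprime_two_right.mpr hx).pow_right k) dvd_rfl
    (orderOf_dvd_of_pow_eq_one hk))

theorem odd_orderOf_map {H : Type v} [Group H] (f : G →* H) {x : G} (hx : Odd (orderOf x)) :
    Odd (orderOf (f x)) := Odd.of_dvd_nat hx (orderOf_map_dvd f x)

theorem map_eq_one_of_odd {H : Type v} [Group H] [Finite H] (f : G →* H) {x : G} (hx : Odd (orderOf x))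
    {S : Subgroup H} (hS : IsPGroup 2 S) (hxS : f x ∈ S) : f x = 1 := by
  obtain ⟨k, hk⟩ := hS ⟨f x, hxS⟩
  exact eq_one_of_odd_of_two_pow (odd_orderOf_map f hx) (congrArg Subtype.val hk)

/-- In a central extension of a group with a normal `2`-complement by a `2`-group, the elements of odd order
lie in the odd core. -/
theorem odd_mem_core_of_central {M : Type v} [Group M] [Finite M] (f : G →* M) (hsurj : Function.Surjective f)
    (hker : f.ker ≤ Subgroup.center G) (hkerp : IsPGroup 2 f.ker) (S : Sylow 2 M)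
    (hc : Subgroup.normalizer ((S : Subgroup M) : Set M) ≤ Subgroup.centralizer ((S : Subgroup M) : Set M))
    {x : G} (hx : Odd (orderOf x)) : x ∈ pPrimeCore 2 G := by
  set N := (MonoidHom.transferSylow S hc).ker with hN
  set H0 := N.comap f with hH0
  have hxH0 : x ∈ H0 := by
    show f x ∈ N
    rw [hN, MonoidHom.mem_ker]
    obtain ⟨k, hk⟩ := S.2 (MonoidHom.transferSylow S hc (f x))
    exact eq_one_of_odd_of_two_pow (odd_orderOf_map ((MonoidHom.transferSylow S hc).comp f) hx) hk
  have hkle : f.ker ≤ H0 := MonoidHom.ker_le_comap f N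
  have hZp : IsPGroup 2 ↥(f.ker.subgroupOf H0) :=
    hkerp.of_equiv (Subgroup.subgroupOfEquivOfLe hkle).symm
  have hidx : (f.ker.subgroupOf H0).index ∣ Nat.card N := by
    have h3 : (f.subgroupComap N).ker = f.ker.subgroupOf H0 := by
      ext a
      rw [MonoidHom.mem_ker, Subgroup.mem_subgroupOf, MonoidHom.mem_ker]
      exact ⟨fun h => congrArg Subtype.val h, fun h => Subtype.ext h⟩
    rw [← h3, Subgroup.index_ker]
    exact Subgroup.card_subgroup_dvd_card _
  set Z : Sylow 2 ↥H0 := hZp.toSylow (fun h => MonoidHom.not_dvd_card_ker_transferSylow S hc (h.trans hidx))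
    with hZ
  have hcZ : Subgroup.normalizer ((Z : Subgroup ↥H0) : Set ↥H0) ≤
      Subgroup.centralizer ((Z : Subgroup ↥H0) : Set ↥H0) := fun g _ z hz =>
    Subtype.ext (Subgroup.mem_center_iff.mp (hker (show (z : G) ∈ f.ker from hz)) (g : G)).symm
  have hle : (MonoidHom.transferSylow Z hcZ).ker ≤ pPrimeCore 2 ↥H0 :=
    le_pPrimeCore ((Nat.prime_two.coprime_iff_not_dvd.mpr
      (MonoidHom.not_dvd_card_ker_transferSylow Z hcZ)).symm)
  refine map_pPrimeCore_le 2 H0 ⟨⟨x, hxH0⟩, hle ?_, rfl⟩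
  rw [MonoidHom.mem_ker]
  obtain ⟨k, hk⟩ := Z.2 (MonoidHom.transferSylow Z hcZ ⟨x, hxH0⟩)
  exact eq_one_of_odd_of_two_pow
    (odd_orderOf_map (MonoidHom.transferSylow Z hcZ) (by rwa [Subgroup.orderOf_mk])) hk

theorem le_coreC {A W : Subgroup G} (hW : W ≤ Subgroup.centralizer (A : Set G))
    (hn : Subgroup.centralizer (A : Set G) ≤ Subgroup.normalizer (W : Set G))
    (hc : (Nat.card W).Coprime 2) : W ≤ coreC A := by
  haveI := (Subgroup.normal_subgroupOf_iff_le_normalizer hW).mpr hn
  calc W = (W.subgroupOf (Subgroup.centralizer (A : Set G))).map (Subgroup.centralizer (A : Set G)).subtype :=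
        (Subgroup.map_subgroupOf_eq_of_le hW).symm
    _ ≤ coreC A := Subgroup.map_mono
      (le_pPrimeCore (by rwa [Nat.card_congr (Subgroup.subgroupOfEquivOfLe hW).toEquiv]))

theorem centralizer_le_normalizer_coreC (A : Subgroup G) :
    Subgroup.centralizer (A : Set G) ≤ Subgroup.normalizer (coreC A : Set G) :=
  (centralizer_le_normalizer' A).trans (normalizer_le_normalizer_coreC A)

theorem coreC_inf_centralizer_le {A B : Subgroup G} (h : A ≤ B) :
    coreC A ⊓ Subgroup.centralizer (B : Set G) ≤ coreC B := by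
  refine le_coreC inf_le_right (fun g hg => mem_normalizer_of_maps fun x hx => Subgroup.mem_inf.mpr ⟨?_, ?_⟩)
    (Nat.Coprime.coprime_dvd_left (Subgroup.card_dvd_of_le inf_le_left)
      (Nat.coprime_two_right.mpr (odd_card_coreC A)))
  · exact (Subgroup.mem_normalizer_iff.mp
      (centralizer_le_normalizer_coreC A (Subgroup.centralizer_le h hg)) x).mp (Subgroup.mem_inf.mp hx).1
  · exact Subgroup.mul_mem _ (Subgroup.mul_mem _ hg (Subgroup.mem_inf.mp hx).2) (Subgroup.inv_mem _ hg)

/-- Elements of odd order in `F*(G)` lie in the layer when `O(G) = 1`. -/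
theorem odd_mem_layer (hO : pPrimeCore 2 G = ⊥) {x : G} (hx : Odd (orderOf x))
    (hxF : x ∈ generalizedFittingSubgroup G) : x ∈ layer G := by
  rw [generalizedFittingSubgroup, fitting_eq_pCore Nat.prime_two hO] at hxF
  obtain ⟨e, he, u, hu, hxe⟩ := Subgroup.mem_sup_of_normal_left.mp hxF
  rw [← QuotientGroup.eq_one_iff (N := layer G)]
  obtain ⟨k, hk⟩ := isPGroup_pCore (G := G) 2 ⟨u, hu⟩
  refine eq_one_of_odd_of_two_pow (k := k) (odd_orderOf_map (QuotientGroup.mk' (layer G)) hx) ?_
  show (QuotientGroup.mk' (layer G) x) ^ 2 ^ k = 1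
  rw [← hxe, map_mul, show QuotientGroup.mk' (layer G) e = 1 from (QuotientGroup.eq_one_iff e).mpr he, one_mul,
    ← map_pow, show u ^ 2 ^ k = 1 from congrArg Subtype.val hk, map_one]

/-- The centralizer of a Sylow `2`-subgroup of `F*(G)` is `2`-nilpotent when `O(G) = 1`. -/
theorem odd_mem_coreC_of_centralizes (hO : pPrimeCore 2 G = ⊥) (P : Sylow 2 G) {x : G} (hx : Odd (orderOf x))
    (hxT : x ∈ Subgroup.centralizer (((P : Subgroup G) ⊓ generalizedFittingSubgroup G : Subgroup G) : Set G)) :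
    x ∈ coreC ((P : Subgroup G) ⊓ generalizedFittingSubgroup G) := by
  set Y := generalizedFittingSubgroup G with hY
  set T := (P : Subgroup G) ⊓ Y with hT
  set H := Subgroup.centralizer (T : Set G) with hH
  haveI hYn : Y.Normal := inferInstance
  obtain ⟨-, hTp, hTidx⟩ := isSylowIn_inf_of_subnormal P (Subgroup.Normal.isSubnormal hYn)
  let TY : Sylow 2 ↥Y :=
    (hTp.of_equiv (Subgroup.subgroupOfEquivOfLe (inf_le_right : T ≤ Y)).symm).toSylow hTidx
  have hOY : pPrimeCore 2 ↥Y = ⊥ := by rw [pPrimeCore_subgroupOf Y, hO, Subgroup.bot_subgroupOf]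
  let ψ : ↥H →* MulAut ↥Y := (MulAut.conjNormal).comp H.subtype
  have hker : ∀ h : ↥H, h ∈ ψ.ker → (h : G) ∈ T := by
    intro h hh
    have hC : (h : G) ∈ Subgroup.centralizer (Y : Set G) := by
      intro y hy
      have h1 : ψ h ⟨y, hy⟩ = ⟨y, hy⟩ := by rw [MonoidHom.mem_ker.mp hh]; rfl
      have h2 : (h : G) * y * (h : G)⁻¹ = y := by
        have := congrArg Subtype.val h1
        simpa [ψ, MulAut.conjNormal_apply] using this
      exact (mul_inv_eq_iff_eq_mul.mp h2).symm
    have hZY : Subgroup.centralizer (Y : Set G) ≤ fittingSubgroup G :=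
      le_fittingSubgroup (nilpotent_of_comm fun a ha b hb =>
        hb a (centralizer_generalizedFitting_le ha))
    refine Subgroup.mem_inf.mpr ⟨?_, centralizer_generalizedFitting_le hC⟩
    have hle : pCore 2 G ≤ (P : Subgroup G) := by
      haveI : (pCore 2 G).Normal := Subgroup.sSup_normal _ (fun _ h => h.1)
      exact le_trans le_sup_left (le_of_eq (P.3 ((isPGroup_pCore 2).to_sup_of_normal_left P.2) le_sup_right))
    refine hle ?_
    rw [← fitting_eq_pCore Nat.prime_two hO]
    exact hZY hC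
  have hsurj : Function.Surjective ψ.rangeRestrict := MonoidHom.rangeRestrict_surjective ψ
  haveI : Finite ↥ψ.range := Finite.of_surjective _ hsurj
  obtain ⟨S⟩ : Nonempty (Sylow 2 ↥ψ.range) := Sylow.nonempty
  have hfix : ∀ d ∈ ψ.range, ∀ s ∈ (TY : Subgroup ↥Y), d s = s := by
    rintro _ ⟨h, rfl⟩ s hs
    refine Subtype.ext ?_
    show (((MulAut.conjNormal (h : G)) s : ↥Y) : G) = s
    rw [MulAut.conjNormal_apply, ← (h.2 (s : G) hs), mul_inv_cancel_right]
  have hc : Subgroup.normalizer ((S : Subgroup ↥ψ.range) : Set ↥ψ.range) ≤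
      Subgroup.centralizer ((S : Subgroup ↥ψ.range) : Set ↥ψ.range) := by
    intro d hd z hz
    set S' := (S : Subgroup ↥ψ.range).map ψ.range.subtype with hS'
    have hdN : (d : MulAut ↥Y) ∈ Subgroup.normalizer (S' : Set (MulAut ↥Y)) := by
      refine Subgroup.mem_normalizer_iff.mpr fun y => ⟨?_, ?_⟩
      · rintro ⟨w, hw, rfl⟩
        exact ⟨d * w * d⁻¹, (Subgroup.mem_normalizer_iff.mp hd w).mp hw, rfl⟩
      · rintro ⟨w, hw, e⟩
        refine ⟨d⁻¹ * w * d, (Subgroup.mem_normalizer_iff''.mp hd w).mp hw, ?_⟩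
        show ((d⁻¹ * w * d : ↥ψ.range) : MulAut ↥Y) = y
        push_cast
        rw [show (w : MulAut ↥Y) = (d : MulAut ↥Y) * y * (d : MulAut ↥Y)⁻¹ from e]
        group
    have h := CfsgLib.CentSylow.conj_eq_of_fix hOY TY (T := S') (S.2.map _)
      (fun t ht => hfix t (Subgroup.map_subtype_le _ ht)) hdN (hfix d d.2) z ⟨z, hz, rfl⟩
    refine Subtype.ext ?_
    push_cast
    calc (z : MulAut ↥Y) * d = ((d : MulAut ↥Y) * z * (d : MulAut ↥Y)⁻¹) * d := by rw [h]
      _ = d * z := by group
  refine ⟨⟨x, hxT⟩, odd_mem_core_of_central ψ.rangeRestrict hsurj ?_ ?_ S hc (by rwa [Subgroup.orderOf_mk]), rfl⟩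
  · rw [MonoidHom.ker_rangeRestrict]
    intro h hh
    rw [Subgroup.mem_center_iff]
    intro g
    exact Subtype.ext (g.2 (h : G) (hker h hh)).symm
  · rw [MonoidHom.ker_rangeRestrict]
    intro h
    obtain ⟨k, hk⟩ := hTp ⟨_, hker h h.2⟩
    exact ⟨k, Subtype.ext (Subtype.ext (congrArg Subtype.val hk : _))⟩

/-- Core balance when `O(G) = 1`. -/
theorem core_balance_reduced (hO : pPrimeCore 2 G = ⊥) (P : Sylow 2 G) (R : Subgroup G)
    (hR : R ≤ (P : Subgroup G)) :
    coreC R ≤ layer G ⊔ coreC ((P : Subgroup G) ⊓ generalizedFittingSubgroup G) := by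
  induction hn : Nat.card G - Nat.card R using Nat.strong_induction_on generalizing R with
  | h n ih =>
    subst hn
    haveI hFn : (generalizedFittingSubgroup G).Normal := inferInstance
    set T := (P : Subgroup G) ⊓ generalizedFittingSubgroup G with hT
    have hodd : ∀ x ∈ coreC R, Odd (orderOf x) := fun x hx =>
      Odd.of_dvd_nat (odd_card_coreC R) (Subgroup.orderOf_dvd_natCard _ hx)
    by_cases hTR : T ≤ R
    · exact fun x hx => Subgroup.mem_sup_right (odd_mem_coreC_of_centralizes hO P (hodd x hx)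
        (Subgroup.centralizer_le hTR (coreC_centralizes R hx)))
    have hRT : R ≤ Subgroup.normalizer (T : Set G) := fun g hg => mem_normalizer_of_maps fun x hx =>
      Subgroup.mem_inf.mpr ⟨Subgroup.mul_mem _ (Subgroup.mul_mem _ (hR hg) (Subgroup.mem_inf.mp hx).1)
        (Subgroup.inv_mem _ (hR hg)), hFn.conj_mem x (Subgroup.mem_inf.mp hx).2 g⟩
    set S0 := T ⊓ Subgroup.normalizer (R : Set G) with hS0
    set R' := R ⊔ S0 with hR'
    have hR'P : R' ≤ (P : Subgroup G) := sup_le hR (inf_le_left.trans inf_le_left)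
    have hlt : R < R' := by
      refine lt_of_le_of_ne le_sup_left fun e => ?_
      have hU : R < R ⊔ T := lt_of_le_of_ne le_sup_left fun e' => hTR (e' ▸ le_sup_right)
      obtain ⟨g, hg, hgR⟩ := SetLike.exists_of_lt (lt_normalizerIn (P.2.to_le (sup_le hR inf_le_left)) hU)
      obtain ⟨hgU, hgN⟩ := hg
      have hgU' : g ∈ ((R ⊔ T : Subgroup G) : Set G) := hgU
      rw [Subgroup.coe_mul_of_left_le_normalizer_right R T hRT] at hgU'
      obtain ⟨q, hq, t, ht, rfl⟩ := hgU'
      have htN : t ∈ Subgroup.normalizer (R : Set G) := by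
        have := Subgroup.mul_mem _ (Subgroup.inv_mem _ (Subgroup.le_normalizer hq)) hgN
        rwa [inv_mul_cancel_left] at this
      exact hgR (R.mul_mem hq (e ▸ Subgroup.mem_sup_right (Subgroup.mem_inf.mpr ⟨ht, htN⟩)))
    have hcard : Nat.card G - Nat.card R' < Nat.card G - Nat.card R := by
      have h1 : Nat.card R < Nat.card R' :=
        lt_of_not_ge fun h => hlt.ne (Subgroup.eq_of_le_of_card_ge hlt.le h)
      have h2 := Subgroup.card_le_card_group R'
      omega
    have hIH := ih _ hcard R' hR'P rfl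
    set D := coreC R with hD
    have hS0D : S0 ≤ Subgroup.normalizer (D : Set G) :=
      inf_le_right.trans (normalizer_le_normalizer_coreC R)
    have hS0p : IsPGroup 2 S0 := P.2.to_le (inf_le_left.trans inf_le_left)
    have hcop : (Nat.card S0).Coprime (Nat.card D) := by
      haveI : Fact (Nat.Prime 2) := ⟨Nat.prime_two⟩
      obtain ⟨k, hk⟩ := hS0p.exists_card_eq
      rw [hk]
      exact ((Nat.coprime_two_right.mpr (odd_card_coreC R)).pow_right k).symm
    haveI : Fact (Nat.Prime 2) := ⟨Nat.prime_two⟩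
    haveI := hS0p.isNilpotent
    intro d hd
    obtain ⟨a, ha, c, hc, rfl⟩ := coprime_decomp hS0D hcop (Or.inl inferInstance) hd
    refine mul_mem (Subgroup.mem_sup_left ?_) (hIH (coreC_inf_centralizer_le le_sup_left
      (Subgroup.mem_inf.mpr ⟨(Subgroup.mem_inf.mp hc).1, ?_⟩)))
    · refine odd_mem_layer hO (hodd a (commutator_le_of_le_normalizer hS0D ha)) ?_
      exact (Subgroup.commutator_le_right _ _)
        (Subgroup.commutator_mono le_top (inf_le_left.trans inf_le_right) ha)
    · exact Subgroup.le_centralizer_iff.mp (sup_le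
        (Subgroup.le_centralizer_iff.mp (inf_le_left.trans (coreC_centralizes R)))
        (Subgroup.le_centralizer_iff.mp inf_le_right)) hc

/-- Centralizers of `2`-subgroups cover those modulo the core. -/
theorem bar_centralizer_two {A : Subgroup G} (hA : IsPGroup 2 A) :
    (Subgroup.centralizer (A : Set G)).map (bar 2 G) =
      Subgroup.centralizer ((A.map (bar 2 G) : Subgroup _) : Set (G ⧸ pPrimeCore 2 G)) := by
  haveI : Fact (Nat.Prime 2) := ⟨Nat.prime_two⟩
  refine le_antisymm ?_ fun z hz => ?_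
  · rintro _ ⟨y, hy, rfl⟩ _ ⟨a, ha, rfl⟩
    rw [← map_mul, ← map_mul, hy a ha]
  · obtain ⟨y, rfl⟩ := bar_surjective 2 z
    obtain ⟨y', hy', e⟩ := exists_centralizing_lift hA y (centralizer_le_normalizer' _ hz)
    exact ⟨y', centralizes_of_bar hA hy' (fun a ha => by rw [e]; exact (hz _ ⟨a, ha, rfl⟩).symm), e⟩

theorem coreC_map_le {A : Subgroup G} (hA : IsPGroup 2 A) :
    (coreC A).map (bar 2 G) ≤ coreC (A.map (bar 2 G)) := by
  refine le_coreC ((Subgroup.map_mono (coreC_centralizes A)).trans (bar_centralizer_two hA).le) ?_ ?_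
  · rw [← bar_centralizer_two hA]
    exact (Subgroup.map_mono (centralizer_le_normalizer_coreC A)).trans (Subgroup.le_normalizer_map _)
  · exact Nat.Coprime.coprime_dvd_left (Subgroup.card_map_dvd _ _) (Nat.coprime_two_right.mpr (odd_card_coreC A))

theorem le_coreC_map {A : Subgroup G} (hA : IsPGroup 2 A) :
    coreC (A.map (bar 2 G)) ≤ (coreC A).map (bar 2 G) := by
  intro z hz
  obtain ⟨y, hy, rfl⟩ := (bar_centralizer_two hA).ge (coreC_centralizes _ hz)
  refine ⟨y, ?_, rfl⟩
  set W := Subgroup.centralizer (A : Set G) ⊓ (coreC (A.map (bar 2 G))).comap (bar 2 G) with hW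
  refine le_coreC (W := W) inf_le_left ?_ ?_ (Subgroup.mem_inf.mpr ⟨hy, hz⟩)
  · intro g hg
    refine mem_normalizer_of_maps fun x hx => Subgroup.mem_inf.mpr
      ⟨Subgroup.mul_mem _ (Subgroup.mul_mem _ hg (Subgroup.mem_inf.mp hx).1) (Subgroup.inv_mem _ hg), ?_⟩
    rw [Subgroup.mem_comap, map_mul, map_mul, map_inv]
    exact (Subgroup.mem_normalizer_iff.mp (centralizer_le_normalizer_coreC _
      ((bar_centralizer_two hA).le ⟨g, hg, rfl⟩)) _).mp (Subgroup.mem_inf.mp hx).2
  · refine Nat.Coprime.coprime_dvd_left ((Subgroup.card_dvd_of_le inf_le_right).trans ?_)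
      ((Nat.coprime_two_right.mpr (odd_card_coreC (A.map (bar 2 G)))).mul_left (card_pPrimeCore_coprime (G := G) 2))
    set D := coreC (A.map (bar 2 G))
    set B := D.comap (bar 2 G) with hB
    have hle : pPrimeCore 2 G ≤ B := fun o ho => by
      show bar 2 G o ∈ D
      rw [show bar 2 G o = 1 from (QuotientGroup.eq_one_iff o).mpr ho]
      exact one_mem _
    rw [← Subgroup.index_mul_card ((pPrimeCore 2 G).subgroupOf B),
      Nat.card_congr (Subgroup.subgroupOfEquivOfLe hle).toEquiv]
    refine Nat.mul_dvd_mul ?_ dvd_rfl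
    have h3 : ((bar 2 G).subgroupComap D).ker = (pPrimeCore 2 G).subgroupOf B := by
      ext a
      rw [MonoidHom.mem_ker, Subgroup.mem_subgroupOf, ← QuotientGroup.eq_one_iff]
      exact ⟨fun h => congrArg Subtype.val h, fun h => Subtype.ext h⟩
    rw [← h3, Subgroup.index_ker]
    exact Subgroup.card_subgroup_dvd_card _

/-- Core balance: `O(C(R))` lies in the extended `2`-layer. -/
theorem coreC_le_extended (R : Subgroup G) (hR : IsPGroup 2 R) : coreC R ≤ extendedTwoLayer G := by
  haveI : Fact (Nat.Prime 2) := ⟨Nat.prime_two⟩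
  haveI hLn : (LP G).Normal := inferInstance
  obtain ⟨P, hP⟩ := hR.exists_le_sylow
  set TX := (P : Subgroup G) ⊓ LP G with hTX
  have hTXp : IsPGroup 2 TX := P.2.to_le inf_le_left
  set Pb : Sylow 2 (G ⧸ pPrimeCore 2 G) := P.mapSurjective (bar_surjective (G := G) 2) with hPb
  have hF : (LP G).map (bar 2 G) = generalizedFittingSubgroup (G ⧸ pPrimeCore 2 G) := by
    rw [Subgroup.map_sup, map_pLayer, map_pPrimePCore, generalizedFittingSubgroup,
      fitting_eq_pCore Nat.prime_two (pPrimeCore_quotient_eq_bot 2)]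
  have hTb : TX.map (bar 2 G) = (Pb : Subgroup _) ⊓ generalizedFittingSubgroup (G ⧸ pPrimeCore 2 G) := by
    rw [← hF]
    refine le_antisymm (Subgroup.map_inf_le _ _ _) ?_
    rintro _ ⟨⟨p, hp, rfl⟩, ⟨l, hl, e⟩⟩
    refine ⟨p, Subgroup.mem_inf.mpr ⟨hp, ?_⟩, rfl⟩
    have h1 : l⁻¹ * p ∈ pPrimeCore 2 G := QuotientGroup.eq.mp e
    have h2 := Subgroup.mul_mem (LP G) hl ((le_sup_of_le_right core_le_pPrimePCore : pPrimeCore 2 G ≤ LP G) h1)
    rwa [mul_inv_cancel_left] at h2
  have hT : coreC TX ≤ extendedTwoLayer G := by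
    obtain ⟨-, hp, hidx⟩ := isSylowIn_inf_of_subnormal P (Subgroup.Normal.isSubnormal hLn)
    let T : Sylow 2 ↥(LP G) :=
      (hp.of_equiv (Subgroup.subgroupOfEquivOfLe (inf_le_right : TX ≤ LP G)).symm).toSylow hidx
    rw [extended_eq]
    refine le_sup_of_le_right (le_trans (le_of_eq ?_) (le_iSup (fun T => coreC (TT T)) T))
    rw [show TT T = TX from Subgroup.map_subgroupOf_eq_of_le inf_le_right]
  have h1 : (coreC R).map (bar 2 G) ≤ (pLayer 2 G ⊔ coreC TX).map (bar 2 G) := by
    rw [Subgroup.map_sup, map_pLayer]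
    refine (coreC_map_le hR).trans ((core_balance_reduced (pPrimeCore_quotient_eq_bot 2) Pb (R.map (bar 2 G))
      (Subgroup.map_mono hP)).trans (sup_le_sup le_rfl ?_))
    rw [← hTb]
    exact le_coreC_map hTXp
  rw [Subgroup.map_le_iff_le_comap, Subgroup.comap_map_eq, QuotientGroup.ker_mk'] at h1
  refine h1.trans (sup_le (sup_le ?_ hT) ?_)
  · exact le_sup_left.trans le_sup_left
  · exact le_sup_right.trans le_sup_left

end CfsgLib.Comp
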