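import Cfsg.Agent.Lib.Comp.CoreBalance

/-!
Balance for the extended `2`-layer: it is monotone along normal subgroups and along centralizers of
`2`-subgroups.
-/

set_option autoImplicit false
set_option linter.unusedSectionVars false

namespace CfsgLib.Comp

open Cfsg Subgroup Cfsg.FusionSystem
open scoped commutatorElement

universe u v
variable {G : Type u} [Group G] [Finite G] {A : Type v} [Group A] [Finite A]

theorem pPrimeCore_map_le_of_normal_range (f : A →* G) (hf : Function.Injective f) [f.range.Normal] :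
    (pPrimeCore 2 A).map f ≤ pPrimeCore 2 G := by
  haveI : Fact (Nat.Prime 2) := ⟨Nat.prime_two⟩
  refine le_trans (le_of_eq ?_) (map_pPrimeCore_le 2 f.range)
  rw [← pPrimeCore_map_equiv 2 (MonoidHom.ofInjective hf), Subgroup.map_map]
  rfl

theorem pLayer_map_le_of_normal_range (f : A →* G) (hf : Function.Injective f) [f.range.Normal] :
    (pLayer 2 A).map f ≤ pLayer 2 G := by
  haveI : Fact (Nat.Prime 2) := ⟨Nat.prime_two⟩
  rw [Subgroup.map_le_iff_le_comap]
  refine sSup_le fun K hK => ?_
  rw [← Subgroup.map_le_iff_le_comap]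
  let e := MonoidHom.ofInjective hf
  have h1 := isPComponent_map_surjective e.toMonoidHom e.surjective
    (by rw [(MonoidHom.ker_eq_bot_iff e.toMonoidHom).mpr e.injective]; exact bot_le) hK
  have h2 : IsPComponent 2 ((K.map e.toMonoidHom).map f.range.subtype) :=
    (isPComponent_subgroupOf_iff f.range (Subgroup.map_subtype_le _)).mp (by
      rw [show ((K.map e.toMonoidHom).map f.range.subtype).subgroupOf f.range = K.map e.toMonoidHom from
        Subgroup.comap_map_eq_self_of_injective (Subgroup.subtype_injective _) _]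
      exact h1)
  refine le_trans (le_of_eq ?_) (le_sSup h2)
  rw [Subgroup.map_map]
  rfl

theorem coreC_map_le_of_normal (f : A →* G) (hf : Function.Injective f) (B : Subgroup A) (B' : Subgroup G)
    (h1 : (Subgroup.centralizer (B : Set A)).map f ≤ Subgroup.centralizer (B' : Set G))
    (h2 : Subgroup.centralizer (B' : Set G) ≤
      Subgroup.normalizer (((Subgroup.centralizer (B : Set A)).map f : Subgroup G) : Set G)) :
    (coreC B).map f ≤ coreC B' := by
  set C := Subgroup.centralizer (B : Set A) with hC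
  let φ : ↥C →* ↥(Subgroup.centralizer (B' : Set G)) :=
    (f.comp C.subtype).codRestrict _ (fun c => h1 ⟨c, c.2, rfl⟩)
  have hφ : Function.Injective φ := fun a b e => Subtype.ext (hf (congrArg Subtype.val e))
  haveI : φ.range.Normal := by
    refine ⟨fun x hx g => ?_⟩
    obtain ⟨c, rfl⟩ := hx
    obtain ⟨c', hc', e⟩ := (Subgroup.mem_normalizer_iff.mp (h2 g.2) _).mp ⟨(c : A), c.2, rfl⟩
    exact ⟨⟨c', hc'⟩, Subtype.ext e⟩
  rintro _ ⟨_, ⟨c, hc, rfl⟩, rfl⟩
  exact ⟨φ c, pPrimeCore_map_le_of_normal_range φ hφ ⟨c, hc, rfl⟩, rfl⟩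

theorem extended_map_le (f : A →* G) (h1 : (pLayer 2 A).map f ≤ extendedTwoLayer G)
    (h2 : (oddCore A).map f ≤ extendedTwoLayer G)
    (h3 : ∀ B : Subgroup A, IsPGroup 2 B → (coreC B).map f ≤ extendedTwoLayer G) :
    (extendedTwoLayer A).map f ≤ extendedTwoLayer G := by
  rw [extended_eq (G := A), Subgroup.map_sup, Subgroup.map_sup, Subgroup.map_iSup]
  exact sup_le (sup_le h1 h2) (iSup_le fun T => h3 _ (T.2.map _))

theorem coreC_bot_eq : coreC (⊥ : Subgroup G) = oddCore G := by
  haveI : Fact (Nat.Prime 2) := ⟨Nat.prime_two⟩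
  haveI : (oddCore G).Normal := Subgroup.sSup_normal _ (fun _ h => h.1)
  refine le_antisymm ?_ (le_coreC ?_ ?_ (card_pPrimeCore_coprime 2))
  · haveI : (Subgroup.centralizer ((⊥ : Subgroup G) : Set G)).Normal := inferInstance
    exact map_pPrimeCore_le 2 _
  · intro x _ y hy
    rw [SetLike.mem_coe, Subgroup.mem_bot] at hy
    rw [hy, one_mul, mul_one]
  · intro g _
    exact Subgroup.normalizer_eq_top (H := oddCore G) ▸ Subgroup.mem_top g

/-- The extended `2`-layer is monotone along normal subgroups. -/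
theorem extended_map_le_of_normal_range (f : A →* G) (hf : Function.Injective f) [f.range.Normal] :
    (extendedTwoLayer A).map f ≤ extendedTwoLayer G := by
  refine extended_map_le f ((pLayer_map_le_of_normal_range f hf).trans (le_sup_left.trans le_sup_left))
    ((pPrimeCore_map_le_of_normal_range f hf).trans (le_sup_right.trans le_sup_left)) fun B hB => ?_
  have heq : (Subgroup.centralizer (B : Set A)).map f =
      f.range ⊓ Subgroup.centralizer ((B.map f : Subgroup G) : Set G) := by
    refine le_antisymm ?_ ?_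
    · rintro _ ⟨c, hc, rfl⟩
      refine Subgroup.mem_inf.mpr ⟨⟨c, rfl⟩, ?_⟩
      rintro _ ⟨b, hb, rfl⟩
      rw [← map_mul, ← map_mul, hc b hb]
    · rintro x hx
      obtain ⟨⟨c, rfl⟩, hc⟩ := Subgroup.mem_inf.mp hx
      exact ⟨c, fun b hb => hf (by rw [map_mul, map_mul]; exact hc _ ⟨b, hb, rfl⟩), rfl⟩
  refine (coreC_map_le_of_normal f hf B (B.map f) (heq.le.trans inf_le_right) ?_).trans
    (coreC_le_extended _ (hB.map f))
  rw [heq]
  intro g hg
  exact mem_normalizer_of_maps fun x hx => Subgroup.mem_inf.mpr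
    ⟨(inferInstance : f.range.Normal).conj_mem x (Subgroup.mem_inf.mp hx).1 g,
      Subgroup.mul_mem _ (Subgroup.mul_mem _ hg (Subgroup.mem_inf.mp hx).2) (Subgroup.inv_mem _ hg)⟩

/-- `L^*`-balance for centralizers of `2`-subgroups. -/
theorem extended_map_le_of_centralizer (f : A →* G) (hf : Function.Injective f) (R : Subgroup G)
    (hR : IsPGroup 2 R) (hrange : f.range = Subgroup.centralizer (R : Set G)) :
    (extendedTwoLayer A).map f ≤ extendedTwoLayer G := by
  haveI : Fact (Nat.Prime 2) := ⟨Nat.prime_two⟩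
  have hcore : ∀ B : Subgroup A, IsPGroup 2 B → (coreC B).map f ≤ extendedTwoLayer G := by
    intro B hB
    have hfB : B.map f ≤ Subgroup.centralizer (R : Set G) := hrange ▸ Subgroup.map_le_range f B
    have hp : IsPGroup 2 ↥(B.map f ⊔ R : Subgroup G) :=
      (hB.map f).to_sup_of_normal_right' hR (hfB.trans (centralizer_le_normalizer' R))
    refine (coreC_map_le_of_normal f hf B (B.map f ⊔ R) ?_ ?_).trans (coreC_le_extended _ hp)
    · rw [Subgroup.le_centralizer_iff]
      refine sup_le ?_ ?_
      · rintro _ ⟨b, hb, rfl⟩ _ ⟨c, hc, rfl⟩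
        rw [← map_mul, ← map_mul, hc b hb]
      · rw [Subgroup.le_centralizer_iff, ← hrange]
        exact Subgroup.map_le_range f _
    · intro g hg
      refine Subgroup.le_normalizer ?_
      obtain ⟨c, rfl⟩ : g ∈ f.range := hrange ▸ (Subgroup.centralizer_le (show (R : Set G) ⊆ ((B.map f ⊔ R : Subgroup G) : Set G) from fun z hz => Subgroup.mem_sup_right hz) hg)
      refine ⟨c, fun b hb => hf ?_, rfl⟩
      rw [map_mul, map_mul]
      exact hg _ (Subgroup.mem_sup_left ⟨b, hb, rfl⟩)
  refine extended_map_le f ?_ ?_ hcore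
  · let e : A ≃* ↥(Subgroup.centralizer (R : Set G)) :=
      (MonoidHom.ofInjective hf).trans (MulEquiv.subgroupCongr hrange)
    haveI : e.toMonoidHom.range.Normal := by
      rw [MonoidHom.range_eq_top.mpr e.surjective]; infer_instance
    refine le_trans ?_ ((pLayer_balance_two_centralizer R hR).trans (le_sup_left.trans le_sup_left))
    refine le_trans ?_ (Subgroup.map_mono (pLayer_map_le_of_normal_range e.toMonoidHom e.injective))
    rw [Subgroup.map_map]
    rfl
  · rw [← coreC_bot_eq]
    exact hcore ⊥ IsPGroup.of_bot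

end CfsgLib.Comp
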