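import Cfsg.Agent.Lib.Comp.BalanceLocal

/-!
`k`-balance from local `k`-balance of the components of centralizers.
-/

set_option autoImplicit false
set_option linter.unusedSectionVars false

namespace CfsgLib.Comp

open Cfsg Subgroup
open scoped commutatorElement

universe u
variable {G : Type u} [Group G] [Finite G] {p : ℕ} [Fact p.Prime]

/-- `Δ(A) = 1` when `O_{p'}(G) = 1` and the components are locally `k`-balanced. -/
theorem delta_eq_bot (hO : pPrimeCore p G = ⊥) {k : ℕ} (hk : 1 ≤ k) (A : Subgroup G)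
    (hA : IsElementaryAbelian p A) (hAc : Nat.card A = p ^ k)
    (hloc : ∀ L : Subgroup G, IsComponent L → IsLocallyKBalanced p k (↥L ⧸ Subgroup.center ↥L)) :
    signalizerDelta p A = ⊥ := by
  have hp : p.Prime := Fact.out
  set D := signalizerDelta p A with hD
  have hcomm : ∀ a ∈ A, ∀ b ∈ A, a * b = b * a := fun a ha b hb =>
    congrArg Subtype.val (hA.1.is_comm.comm ⟨a, ha⟩ ⟨b, hb⟩)
  have hord : ∀ a ∈ A, a ≠ 1 → orderOf a = p := fun a ha ha1 => orderOf_eq_prime (hA.2 a ha) ha1
  have hDle : ∀ a ∈ A, a ≠ 1 → D ≤ centralizerPPrimeCore p a := fun a ha ha1 =>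
    iInf_le (fun b : {b : G // b ∈ A ∧ b ≠ 1} => centralizerPPrimeCore p (b : G)) ⟨a, ha, ha1⟩
  obtain ⟨a₀, ha₀, ha₀1⟩ : ∃ a ∈ A, a ≠ 1 := by
    by_contra h
    push Not at h
    rw [(Subgroup.eq_bot_iff_forall A).mpr h, Subgroup.card_bot] at hAc
    have := Nat.one_lt_pow (by omega : k ≠ 0) hp.one_lt
    omega
  have hDF : D ≤ Subgroup.centralizer (generalizedFittingSubgroup G : Set G) := by
    rw [Subgroup.le_centralizer_iff]
    refine sup_le (sSup_le fun L hL => ?_) ?_
    swap
    · rw [fitting_eq_pCore hp hO, Subgroup.le_centralizer_iff]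
      exact (hDle a₀ ha₀ ha₀1).trans (centralizerCore_centralizes_pCore (hord a₀ ha₀ ha₀1))
    rw [← Subgroup.commutator_eq_bot_iff_le_centralizer]
    by_cases hex : ∃ a ∈ A, a ≠ 1 ∧ ⁅L, Subgroup.zpowers a⁆ ≠ L
    · obtain ⟨a, ha, ha1, hne⟩ := hex
      rw [eq_bot_iff, ← centralizerCore_centralizes hO (hord a ha ha1) hL hne]
      exact Subgroup.commutator_mono le_rfl (hDle a ha ha1)
    push Not at hex
    have hAN : A ≤ Subgroup.normalizer (L : Set G) := by
      intro a ha
      rcases eq_or_ne a 1 with rfl | ha1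
      · exact one_mem _
      · have h1 := CfsgLib.right_le_normalizer_commutator (Subgroup.zpowers a) L (Subgroup.mem_zpowers a)
        rwa [hex a ha ha1] at h1
    have hDN : D ≤ Subgroup.normalizer (L : Set G) :=
      (hDle a₀ ha₀ ha₀1).trans (centralizerCore_normalizes hO (hord a₀ ha₀ ha₀1) hL)
    set H := L ⊔ (A ⊔ D) with hH
    have hXN : A ⊔ D ≤ Subgroup.normalizer (L : Set G) := sup_le hAN hDN
    have hHN : H ≤ Subgroup.normalizer (L : Set G) := sup_le Subgroup.le_normalizer hXN
    have hAH : A ≤ H := le_sup_of_le_right le_sup_left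
    let ρ₀ : ↥H →* MulAut (↥L ⧸ Subgroup.center ↥L) := (quotAut L).comp (Subgroup.inclusion hHN)
    haveI : Finite ↥ρ₀.range := Finite.of_surjective _ ρ₀.rangeRestrict_surjective
    have hker : ρ₀.rangeRestrict.ker = (Subgroup.centralizer (L : Set G)).subgroupOf H := by
      rw [MonoidHom.ker_rangeRestrict, ← MonoidHom.comap_ker, ker_quotAut hL]
      rfl
    have hinn : (MulAut.conj : ↥L ⧸ Subgroup.center ↥L →* MulAut (↥L ⧸ Subgroup.center ↥L)).range ≤ ρ₀.range := by
      rintro _ ⟨c, rfl⟩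
      obtain ⟨l, rfl⟩ := QuotientGroup.mk'_surjective _ c
      refine ⟨⟨(l : G), (le_sup_left : L ≤ H) l.2⟩, MulEquiv.ext fun a => ?_⟩
      obtain ⟨a, rfl⟩ := QuotientGroup.mk'_surjective _ a
      show QuotientGroup.mk (L.normalizerMonoidHom ⟨(l : G), hHN ((le_sup_left : L ≤ H) l.2)⟩ a) = _
      rw [MulAut.conj_apply, ← map_inv, ← map_mul, ← map_mul]
      rfl
    let f : ↥A →* ↥ρ₀.range := ρ₀.rangeRestrict.comp (Subgroup.inclusion hAH)
    have hf : Function.Injective f := by
      rw [injective_iff_map_eq_one]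
      rintro ⟨a, ha⟩ he
      by_contra hne
      have ha1 : a ≠ 1 := fun e => hne (Subtype.ext e)
      have h1 : Subgroup.inclusion hAH ⟨a, ha⟩ ∈ ρ₀.rangeRestrict.ker := he
      rw [hker] at h1
      have h2 : ⁅L, Subgroup.zpowers a⁆ = ⊥ := by
        rw [Subgroup.commutator_comm, Subgroup.commutator_eq_bot_iff_le_centralizer]
        exact Subgroup.zpowers_le.mpr h1
      exact isComponent_ne_bot hL ((hex a ha ha1) ▸ h2)
    have hcard : Nat.card f.range = p ^ k := by
      rw [← Nat.card_congr (MonoidHom.ofInjective hf).toEquiv, hAc]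
    have hea : IsElementaryAbelian p f.range := by
      refine ⟨⟨⟨?_⟩⟩, ?_⟩
      · rintro ⟨_, a, rfl⟩ ⟨_, b, rfl⟩
        refine Subtype.ext ?_
        show f a * f b = f b * f a
        rw [← map_mul, ← map_mul, show a * b = b * a from Subtype.ext (hcomm a a.2 b b.2)]
      · rintro _ ⟨a, rfl⟩
        rw [← map_pow, show a ^ p = 1 from Subtype.ext (by push_cast; exact hA.2 a a.2), map_one]
    have hΔ := hloc L hL ρ₀.range hinn f.range hea hcard
    rw [Subgroup.commutator_comm, Subgroup.commutator_eq_bot_iff_le_centralizer]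
    intro d hd
    have hdH : d ∈ H := Subgroup.mem_sup_right (Subgroup.mem_sup_right hd)
    have h1 : ρ₀.rangeRestrict ⟨d, hdH⟩ ∈ signalizerDelta p f.range := by
      refine Subgroup.mem_iInf.mpr ?_
      rintro ⟨_, ⟨a, rfl⟩, hne⟩
      have ha1 : (a : G) ≠ 1 := fun e => hne (by rw [show a = 1 from Subtype.ext e, map_one])
      refine core_image_le hO (hord a a.2 ha1) hL H hHN le_sup_left (hAH a.2) ?_ ρ₀.rangeRestrict
        ρ₀.rangeRestrict_surjective hker (d := ⟨d, hdH⟩) (hDle a a.2 ha1 hd)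
      intro h hh
      obtain ⟨l, hl, c, hc, e⟩ := CfsgLib.mem_sup_of_le_normalizer hXN hh
      refine ⟨l, hl, c, Subgroup.mem_sup_right hc, ?_, e.symm⟩
      refine (sup_le (fun b hb => ?_) ((hDle a a.2 ha1).trans (centralizerCore_le _)) :
        A ⊔ D ≤ Subgroup.centralizer ({(a : G)} : Set G)) hc
      exact Subgroup.mem_centralizer_singleton_iff.mpr (hcomm b hb a a.2)
    rw [hΔ, Subgroup.mem_bot] at h1
    have h2 : (⟨d, hdH⟩ : ↥H) ∈ ρ₀.rangeRestrict.ker := h1
    rw [hker] at h2
    exact h2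
  rw [eq_bot_iff]
  intro d hd
  have h1 : d ∈ fittingSubgroup G := le_fittingSubgroup
    (N := Subgroup.centralizer (generalizedFittingSubgroup G : Set G))
    (nilpotent_of_comm fun a ha b hb => hb a (centralizer_generalizedFitting_le ha)) (hDF hd)
  rw [fitting_eq_pCore hp hO] at h1
  obtain ⟨n, hn⟩ := isPGroup_pCore (G := G) p ⟨d, h1⟩
  exact Subgroup.mem_bot.mpr (pElement_eq_one_of_coprime (card_centralizerCore_coprime a₀) (hDle a₀ ha₀ ha₀1 hd)
    (congrArg Subtype.val hn))

/-- Cores of centralizers map into cores of centralizers modulo `O_{p'}`. -/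
theorem centralizerCore_bar_le {a : G} (ha : orderOf a = p) :
    (centralizerPPrimeCore p a).map (bar p G) ≤ centralizerPPrimeCore p (bar p G a) := by
  refine le_centralizerCore ?_ ?_ (Nat.Coprime.coprime_dvd_left (Subgroup.card_map_dvd _ _)
    (card_centralizerCore_coprime a))
  · rintro _ ⟨d, hd, rfl⟩
    rw [Subgroup.mem_centralizer_singleton_iff, ← map_mul, ← map_mul,
      Subgroup.mem_centralizer_singleton_iff.mp (centralizerCore_le a hd)]
  · intro z hz
    obtain ⟨y, rfl⟩ := bar_surjective p z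
    have hP : IsPGroup p ↥(Subgroup.zpowers a) := zpowers_isPGroup_of_order ha
    have hy : bar p G y ∈ Subgroup.centralizer
        (((Subgroup.zpowers a).map (bar p G) : Subgroup _) : Set (G ⧸ pPrimeCore p G)) := by
      rintro _ ⟨b, hb, rfl⟩
      obtain ⟨i, rfl⟩ := Subgroup.mem_zpowers_iff.mp hb
      rw [map_zpow]
      exact ((show Commute (bar p G a) (bar p G y) from
        (Subgroup.mem_centralizer_singleton_iff.mp hz).symm).zpow_left i).eq
    obtain ⟨y', hy', e⟩ := exists_centralizing_lift hP y (centralizer_le_normalizer' _ hy)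
    have hy'' : y' ∈ Subgroup.centralizer ({a} : Set G) := by
      have h1 := centralizes_of_bar hP hy' (fun b hb => by rw [e]; exact (hy _ ⟨b, hb, rfl⟩).symm)
      exact Subgroup.mem_centralizer_singleton_iff.mpr (h1 a (Subgroup.mem_zpowers a)).symm
    rw [← e]
    refine mem_normalizer_of_maps ?_
    rintro _ ⟨d, hd, rfl⟩
    exact ⟨y' * d * y'⁻¹, centralizerCore_conj hy'' hd, by rw [map_mul, map_mul, map_inv]⟩

/-- `k`-balance from local `k`-balance. -/
theorem isKBalanced_of_local {k : ℕ} (hk : 1 ≤ k)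
    (h : ∀ x : G, orderOf x = p → ∀ K : Subgroup (↥(Subgroup.centralizer ({x} : Set G)) ⧸
      pPrimeCore p ↥(Subgroup.centralizer ({x} : Set G))), IsComponent K →
      IsLocallyKBalanced p k (↥K ⧸ Subgroup.center ↥K)) : IsKBalanced p k G := by
  intro A hA hAc b hb hcomm d hd
  set C := Subgroup.centralizer ({b} : Set G) with hC
  have hdC : d ∈ C := (Subgroup.mem_inf.mp hd).2
  have hAC : A ≤ C := fun a ha => Subgroup.mem_centralizer_singleton_iff.mpr (hcomm a ha)
  let f : ↥A →* ↥C ⧸ pPrimeCore p ↥C := (bar p ↥C).comp (Subgroup.inclusion hAC)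
  have hf : Function.Injective f := by
    rw [injective_iff_map_eq_one]
    intro a ha
    have h1 : Subgroup.inclusion hAC a ∈ pPrimeCore p ↥C := (QuotientGroup.eq_one_iff _).mp ha
    have h2 := pElement_eq_one_of_coprime (card_pPrimeCore_coprime p) h1 (n := 1)
      (by rw [pow_one]; exact Subtype.ext (by push_cast; exact hA.2 a a.2))
    exact Subgroup.inclusion_injective hAC (h2.trans (map_one _).symm)
  have hcard : Nat.card f.range = p ^ k := by
    rw [← Nat.card_congr (MonoidHom.ofInjective hf).toEquiv, hAc]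
  have hea : IsElementaryAbelian p f.range := by
    refine ⟨⟨⟨?_⟩⟩, ?_⟩
    · rintro ⟨_, a, rfl⟩ ⟨_, c, rfl⟩
      refine Subtype.ext ?_
      show f a * f c = f c * f a
      rw [← map_mul, ← map_mul, hA.1.is_comm.comm a c]
    · rintro _ ⟨a, rfl⟩
      rw [← map_pow, show a ^ p = 1 from Subtype.ext (by push_cast; exact hA.2 a a.2), map_one]
  have hΔ := delta_eq_bot (pPrimeCore_quotient_eq_bot p) hk f.range hea hcard (h b hb)
  have hmem : bar p ↥C ⟨d, hdC⟩ ∈ signalizerDelta p f.range := by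
    refine Subgroup.mem_iInf.mpr ?_
    rintro ⟨_, ⟨a, rfl⟩, hne⟩
    have ha1 : (a : G) ≠ 1 := fun e => hne (by rw [show a = 1 from Subtype.ext e, map_one])
    have hord : orderOf (Subgroup.inclusion hAC a) = p := by
      rw [← Subgroup.orderOf_coe]
      exact orderOf_eq_prime (hA.2 a a.2) ha1
    refine centralizerCore_bar_le hord ⟨⟨d, hdC⟩, ?_, rfl⟩
    refine le_centralizerCore (W := (centralizerPPrimeCore p (a : G)).subgroupOf C ⊓
      Subgroup.centralizer ({Subgroup.inclusion hAC a} : Set ↥C)) inf_le_right ?_ ?_ ?_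
    · intro g hg
      refine mem_normalizer_of_maps fun w hw => Subgroup.mem_inf.mpr ⟨?_, ?_⟩
      · exact centralizerCore_conj (Subgroup.mem_centralizer_singleton_iff.mpr
          (congrArg Subtype.val (Subgroup.mem_centralizer_singleton_iff.mp hg))) (Subgroup.mem_inf.mp hw).1
      · exact mul_mem (mul_mem hg (Subgroup.mem_inf.mp hw).2) (inv_mem hg)
    · exact Nat.Coprime.coprime_dvd_left ((Subgroup.card_dvd_of_le inf_le_left).trans
        (Subgroup.card_dvd_of_injective (C.subtype.subgroupComap (centralizerPPrimeCore p (a : G)))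
          (fun u v e => Subtype.ext (Subtype.ext (congrArg (fun z : centralizerPPrimeCore p (a : G) => (z : G)) e)))))
        (card_centralizerCore_coprime _)
    · have hda : d ∈ centralizerPPrimeCore p (a : G) :=
        (iInf_le (fun c : {c : G // c ∈ A ∧ c ≠ 1} => centralizerPPrimeCore p (c : G)) ⟨a, a.2, ha1⟩)
          (Subgroup.mem_inf.mp hd).1
      exact Subgroup.mem_inf.mpr ⟨hda, Subgroup.mem_centralizer_singleton_iff.mpr
        (Subtype.ext (Subgroup.mem_centralizer_singleton_iff.mp (centralizerCore_le _ hda)))⟩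
  rw [hΔ, Subgroup.mem_bot] at hmem
  exact ⟨⟨d, hdC⟩, (QuotientGroup.eq_one_iff _).mp hmem, rfl⟩

end CfsgLib.Comp
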