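import Cfsg.Agent.Lib.Comp.Balance
import Cfsg.Prelude.Def_ClassificationStages

/-!
Consequences for `p`-components: elements acting trivially on `K / O_{p'}(K)`.
-/

set_option autoImplicit false
set_option linter.unusedSectionVars false

namespace CfsgLib.Comp

open Cfsg Subgroup
open scoped commutatorElement

universe u v
variable {G : Type u} [Group G] [Finite G] {p : ℕ} [Fact p.Prime]

theorem pEl_index_coprime (H : Subgroup G) : ((pEl p H).subgroupOf H).index.Coprime p := by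
  obtain ⟨P⟩ : Nonempty (Sylow p ↥H) := inferInstance
  have hle : (P : Subgroup ↥H) ≤ (pEl p H).subgroupOf H := fun x hx => by
    obtain ⟨k, hk⟩ := P.2 ⟨x, hx⟩
    exact Subgroup.subset_closure ⟨x.2, k, congrArg (fun z : (P : Subgroup ↥H) => ((z : ↥H) : G)) hk⟩
  exact Nat.Coprime.coprime_dvd_left (Subgroup.index_dvd_of_le hle)
    (((Fact.out : p.Prime).coprime_iff_not_dvd.mpr P.not_dvd_index).symm)

theorem map_core_eq_inf {K : Subgroup G} (hK : IsPComponent p K) :
    (pPrimeCore p ↥K).map K.subtype = pPrimeCore p G ⊓ K := by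
  rw [oddCore_pcomp hK, Subgroup.subgroupOf_map_subtype]

/-- A group with quasisimple quotient modulo `O_{p'}`: the `p`-layer covers it. -/
theorem pLayer_sup_core (h : IsQuasisimple (G ⧸ pPrimeCore p G)) : pLayer p G ⊔ pPrimeCore p G = ⊤ := by
  have htop : layer (G ⧸ pPrimeCore p G) = ⊤ :=
    top_le_iff.mp (le_layer ⟨Subgroup.Normal.isSubnormal inferInstance,
      isQuasisimple_of_equiv Subgroup.topEquiv.symm h⟩)
  rw [← QuotientGroup.ker_mk' (pPrimeCore p G), ← Subgroup.comap_map_eq, map_pLayer, htop, Subgroup.comap_top]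

theorem le_pLayerOf_self {K : Subgroup G} (hq : IsQuasisimple (↥K ⧸ pPrimeCore p ↥K)) (hp : pEl p K = K) :
    K ≤ pLayerOf p K := by
  have h2 : (⊤ : Subgroup ↥K) ≤ pLayer p ↥K ⊔ pPrimeCore p ↥K := (pLayer_sup_core hq).ge
  calc K = pEl p K := hp.symm
    _ = (pEl p (⊤ : Subgroup ↥K)).map K.subtype := by
        rw [← pEl_map_subtype, ← MonoidHom.range_eq_map, Subgroup.range_subtype]
    _ ≤ pLayerOf p K := Subgroup.map_mono ((pEl_mono h2).trans (pEl_sup_core_le (pLayer p ↥K)))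

/-- `p`-components of a subgroup, seen in the group. -/
theorem pcompOf_facts {K H : Subgroup G} (hK : IsPComponentOf p K H) :
    IsQuasisimple (↥K ⧸ pPrimeCore p ↥K) ∧ pEl p K = K ∧
      ∀ z ∈ (pPrimeCore p ↥(K.subgroupOf H)).map ((H.subtype).comp (K.subgroupOf H).subtype),
        z ∈ (pPrimeCore p ↥K).map K.subtype := by
  have hm := pPrimeCore_map_equiv p (Subgroup.subgroupOfEquivOfLe hK.1)
  refine ⟨isQuasisimple_of_equiv (QuotientGroup.congr _ _ (Subgroup.subgroupOfEquivOfLe hK.1) hm)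
    (pcomp_quotient_quasisimple hK.2), ?_, ?_⟩
  · rw [← Subgroup.map_subgroupOf_eq_of_le hK.1, pEl_map_subtype, pcomp_pEl hK.2]
  · rintro _ ⟨z, hz, rfl⟩
    exact ⟨Subgroup.subgroupOfEquivOfLe hK.1 z, hm ▸ Subgroup.mem_map_of_mem _ hz, rfl⟩

/-- Coprime lifting: a `p`-element acting trivially on `K / O_{p'}(K)` fixes a supplement of `O_{p'}(K)`. -/
theorem exists_fixed_lift {K W : Subgroup G} (hWK : W ≤ K) (hKW : K ≤ Subgroup.normalizer (W : Set G))
    (hW : (Nat.card W).Coprime p) {y : G} (hy : orderOf y = p)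
    (hyK : ∀ k ∈ K, y * k * y⁻¹ * k⁻¹ ∈ W) {k : G} (hk : k ∈ K) :
    ∃ w ∈ W, y * (k * w) = k * w * y := by
  have hyW : y ∈ Subgroup.normalizer (W : Set G) := mem_normalizer_of_maps fun x hx => by
    have := Subgroup.mul_mem _ (hyK x (hWK hx)) hx
    rwa [inv_mul_cancel_right] at this
  set A := Subgroup.zpowers y with hA
  have hcard : Nat.card A = p := by rw [hA, Nat.card_zpowers, hy]
  have hcop : (Nat.card A).Coprime (Nat.card W) := by rw [hcard]; exact hW.symm
  have hsolv : Group.IsSolvable A ∨ Group.IsSolvable W :=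
    Or.inl (Group.isSolvable_of_comm fun a b => by
      obtain ⟨i, hi⟩ := Subgroup.mem_zpowers_iff.mp a.2
      obtain ⟨j, hj⟩ := Subgroup.mem_zpowers_iff.mp b.2
      refine Subtype.ext ?_
      show (a : G) * b = b * a
      rw [← hi, ← hj]
      exact ((Commute.refl y).zpow_zpow i j).eq)
  have hka : ∀ a ∈ A, k⁻¹ * a * k ∈ W ⊔ A := by
    have hle : A ≤ (W ⊔ A).comap (MulAut.conj k⁻¹).toMonoidHom := by
      rw [hA, Subgroup.zpowers_le]
      show (MulAut.conj k⁻¹) y ∈ (W ⊔ Subgroup.zpowers y : Subgroup G)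
      rw [MulAut.conj_apply, inv_inv]
      have h1 := (Subgroup.mem_normalizer_iff.mp (hKW (Subgroup.inv_mem _ hk)) _).mp (hyK k hk)
      have h2 := Subgroup.mul_mem_sup h1 (Subgroup.mem_zpowers y)
      simpa [mul_assoc] using h2
    intro a ha
    have := hle ha
    simpa using this
  obtain ⟨w, hw, h⟩ := coprime_key_normalize hcop hsolv (Subgroup.zpowers_le.mpr hyW) hka
  refine ⟨w, hw, ?_⟩
  have h1 : y * (k * w) * y⁻¹ * (k * w)⁻¹ ∈ W := hyK _ (Subgroup.mul_mem _ hk (hWK hw))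
  have h2 : y * (k * w) * y⁻¹ * (k * w)⁻¹ ∈ A := by
    have h3 := h y⁻¹ (Subgroup.inv_mem _ (Subgroup.mem_zpowers y))
    have h4 := Subgroup.mul_mem _ (Subgroup.mem_zpowers y) h3
    simpa [mul_assoc] using h4
  have h3 := Subgroup.disjoint_def.mp (Subgroup.disjoint_of_coprime_natCard hcop) h2 h1
  rw [mul_inv_eq_one, mul_inv_eq_iff_eq_mul] at h3
  exact h3

theorem pcomp_pLayer_fixed {K : Subgroup G} (hK : IsPComponent p K) {y : G} (hy : orderOf y = p)
    (hyK : ∀ k ∈ K, y * k * y⁻¹ * k⁻¹ ∈ (pPrimeCore p ↥K).map K.subtype) :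
    K ≤ pLayerOf p (K ⊓ Subgroup.centralizer ({y} : Set G)) ⊔ (pPrimeCore p ↥K).map K.subtype := by
  set W := (pPrimeCore p ↥K).map K.subtype with hW
  have hWK : W ≤ K := Subgroup.map_subtype_le _
  have hWn : K ≤ Subgroup.normalizer (W : Set G) := fun k hk => mem_normalizer_of_maps fun x hx => by
    obtain ⟨x, hx, rfl⟩ := hx
    exact ⟨⟨k, hk⟩ * x * ⟨k, hk⟩⁻¹, (inferInstance : (pPrimeCore p ↥K).Normal).conj_mem x hx _, rfl⟩
  have hWcop : (Nat.card W).Coprime p := by
    rw [hW, Subgroup.card_map_of_injective K.subtype_injective]; exact card_pPrimeCore_coprime p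
  set C := K ⊓ Subgroup.centralizer ({y} : Set G) with hC
  let g : ↥C →* ↥K ⧸ pPrimeCore p ↥K :=
    (QuotientGroup.mk' (pPrimeCore p ↥K)).comp (Subgroup.inclusion (inf_le_left : C ≤ K))
  have hg : Function.Surjective g := by
    intro z
    obtain ⟨⟨k, hk⟩, rfl⟩ := QuotientGroup.mk'_surjective _ z
    obtain ⟨w, hw, hc⟩ := exists_fixed_lift hWK hWn hWcop hy hyK hk
    obtain ⟨w', hw', rfl⟩ := hw
    refine ⟨⟨k * w', ⟨Subgroup.mul_mem _ hk w'.2, Subgroup.mem_centralizer_singleton_iff.mpr hc.symm⟩⟩, ?_⟩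
    show QuotientGroup.mk' (pPrimeCore p ↥K) ((⟨k, hk⟩ : ↥K) * w') = _
    rw [map_mul, show QuotientGroup.mk' (pPrimeCore p ↥K) w' = 1 from (QuotientGroup.eq_one_iff w').mpr hw', mul_one]
  have hker : g.ker = pPrimeCore p ↥C := by
    refine le_antisymm (le_pPrimeCore ?_) ?_
    · refine Nat.Coprime.coprime_dvd_left ?_ (card_pPrimeCore_coprime (G := ↥K) p)
      refine Subgroup.card_dvd_of_injective
        (((Subgroup.inclusion (inf_le_left : C ≤ K)).comp g.ker.subtype).codRestrict (pPrimeCore p ↥K) fun x => ?_)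
        (fun a b e => Subtype.ext (Subgroup.inclusion_injective (inf_le_left : C ≤ K) (by exact congrArg Subtype.val e)))
      exact (QuotientGroup.eq_one_iff _).mp (MonoidHom.mem_ker.mp x.2)
    · rw [← Subgroup.map_eq_bot_iff, eq_bot_iff, ← pPrimeCore_quotient_eq_bot (G := ↥K) p]
      haveI := (inferInstance : (pPrimeCore p ↥C).Normal).map g hg
      exact le_pPrimeCore (Nat.Coprime.coprime_dvd_left (Subgroup.card_map_dvd _ _) (card_pPrimeCore_coprime p))
  have hq : IsQuasisimple (↥C ⧸ pPrimeCore p ↥C) :=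
    isQuasisimple_of_equiv ((QuotientGroup.quotientMulEquivOfEq hker.symm).trans
      (QuotientGroup.quotientKerEquivOfSurjective g hg)).symm (pcomp_quotient_quasisimple hK)
  intro k hk
  obtain ⟨c, hc⟩ := hg (QuotientGroup.mk' _ ⟨k, hk⟩)
  obtain ⟨a, ha, o, ho, e⟩ := Subgroup.mem_sup_of_normal_right.mp ((pLayer_sup_core hq).symm ▸ Subgroup.mem_top c)
  have hoW : (o : G) ∈ W := by
    rw [← hker] at ho
    exact ⟨Subgroup.inclusion inf_le_left o, (QuotientGroup.eq_one_iff _).mp (MonoidHom.mem_ker.mp ho), rfl⟩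
  have hcW : (c : G)⁻¹ * k ∈ W := ⟨_, (QuotientGroup.eq.mp hc), rfl⟩
  have e' : (a : G) * ((o : G) * ((c : G)⁻¹ * k)) = k := by
    have : (a : G) * o = c := congrArg Subtype.val e
    rw [← mul_assoc, this, mul_inv_cancel_left]
  rw [← e']
  exact Subgroup.mul_mem_sup ⟨a, ha, rfl⟩ (Subgroup.mul_mem _ hoW hcW)

/-- An element centralising a `p`-component modulo `O_{p'}` normalises it. -/
theorem normalizes_of_centralizes_bar {K : Subgroup G} (hK : IsPComponent p K) {e : G}
    (he : bar p G e ∈ Subgroup.centralizer ((K.map (bar p G) : Subgroup _) : Set (G ⧸ pPrimeCore p G))) :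
    e ∈ Subgroup.normalizer (K : Set G) ∧
      ∀ k ∈ K, e * k * e⁻¹ * k⁻¹ ∈ (pPrimeCore p ↥K).map K.subtype := by
  have hmod : ∀ k : G, bar p G k ∈ K.map (bar p G) → bar p G (e * k * e⁻¹) = bar p G k := fun k hk => by
    rw [map_mul, map_mul, map_inv, ← he _ hk, mul_inv_cancel_right]
  have hn : e ∈ Subgroup.normalizer (K : Set G) := by
    rw [pcomp_eq hK]
    refine normalizer_le_normalizer_pEl _ (mem_normalizer_of_maps fun x hx => ?_)
    rw [Subgroup.mem_comap, hmod x hx]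
    exact hx
  refine ⟨hn, fun k hk => ?_⟩
  rw [map_core_eq_inf hK]
  refine Subgroup.mem_inf.mpr ⟨?_, Subgroup.mul_mem _ ((Subgroup.mem_normalizer_iff.mp hn k).mp hk) (Subgroup.inv_mem _ hk)⟩
  rw [← QuotientGroup.eq_one_iff]
  show bar p G (e * k * e⁻¹ * k⁻¹) = 1
  rw [map_mul, hmod k (Subgroup.mem_map_of_mem _ hk), map_inv, mul_inv_cancel]

end CfsgLib.Comp
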