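import Cfsg.Agent.Lib.Comp.PumpY

/-!
Pumping up a `p`-component `K` of `C(x)` to `C(y)` for `y` acting trivially on `K / O_{p'}(K)`.
-/

set_option autoImplicit false
set_option linter.unusedSectionVars false

namespace CfsgLib.Comp

open Cfsg Subgroup
open scoped commutatorElement

universe u v

section General

variable {G : Type u} [Group G] [Finite G] {p : ℕ} [Fact p.Prime]

theorem map_centralizer_bar {x : G} {n : ℕ} (hx : x ^ p ^ n = 1) :
    (Subgroup.centralizer ({x} : Set G)).map (bar p G) = Subgroup.centralizer ({bar p G x} : Set (G ⧸ pPrimeCore p G)) := by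
  refine le_antisymm ?_ fun z hz => ?_
  · rintro _ ⟨c, hc, rfl⟩
    rw [Subgroup.mem_centralizer_singleton_iff, ← map_mul, ← map_mul,
      Subgroup.mem_centralizer_singleton_iff.mp hc]
  obtain ⟨c, rfl⟩ := bar_surjective p z
  have hP := zpowers_isPGroup (p := p) hx
  have hn : bar p G c ∈ Subgroup.normalizer
      (((Subgroup.zpowers x).map (bar p G) : Subgroup _) : Set (G ⧸ pPrimeCore p G)) := by
    refine centralizer_le_normalizer' _ ?_
    rw [MonoidHom.map_zpowers]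
    intro w hw
    obtain ⟨i, rfl⟩ := Subgroup.mem_zpowers_iff.mp hw
    exact ((show Commute (bar p G c) (bar p G x) from
      Subgroup.mem_centralizer_singleton_iff.mp hz).zpow_right i).symm.eq
  obtain ⟨c', hc', e⟩ := exists_centralizing_lift hP c hn
  have hc'' := centralizes_of_bar hP hc' fun w hw => by
    obtain ⟨i, rfl⟩ := Subgroup.mem_zpowers_iff.mp hw
    rw [e, map_zpow]
    exact ((show Commute (bar p G c) (bar p G x) from
      Subgroup.mem_centralizer_singleton_iff.mp hz).zpow_right i).eq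
  exact ⟨c', Subgroup.mem_centralizer_singleton_iff.mpr (hc'' x (Subgroup.mem_zpowers x)).symm, e⟩

/-- Two `p`-elements congruent modulo `O_{p'}` are conjugate by an element of `O_{p'}`. -/
theorem exists_conj_of_bar_eq {x₁ x₂ : G} {n m : ℕ} (h₁ : x₁ ^ p ^ n = 1) (h₂ : x₂ ^ p ^ m = 1)
    (h : bar p G x₁ = bar p G x₂) : ∃ o ∈ pPrimeCore p G, o * x₁ * o⁻¹ = x₂ := by
  set O := pPrimeCore p G with hO
  set M := O ⊔ Subgroup.zpowers x₂ with hM
  have hx₁M : x₁ ∈ M := by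
    have h3 : x₁ * x₂⁻¹ ∈ O := by
      rw [← QuotientGroup.eq_one_iff, ← QuotientGroup.mk'_apply, map_mul, map_inv, h, mul_inv_cancel]
    have := Subgroup.mul_mem M (Subgroup.mem_sup_left h3) (Subgroup.mem_sup_right (Subgroup.mem_zpowers x₂))
    rwa [inv_mul_cancel_right] at this
  have hP₂ := zpowers_isPGroup (p := p) h₂
  obtain ⟨S, hS⟩ := ((hP₂.of_equiv (Subgroup.subgroupOfEquivOfLe
    (le_sup_right : Subgroup.zpowers x₂ ≤ M)).symm)).exists_le_sylow
  obtain ⟨S', hS'⟩ := (zpowers_isPGroup (p := p) (x := (⟨x₁, hx₁M⟩ : ↥M)) (n := n)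
    (Subtype.ext (by push_cast; exact h₁))).exists_le_sylow
  have hSeq : (S : Subgroup ↥M) = (Subgroup.zpowers x₂).subgroupOf M := by
    refine le_antisymm (fun w hw => ?_) hS
    obtain ⟨o, ho, q, hq, e⟩ := Subgroup.mem_sup_of_normal_left.mp w.2
    have hqS : (⟨q, Subgroup.mem_sup_right hq⟩ : ↥M) ∈ (S : Subgroup ↥M) := hS hq
    obtain ⟨k, hk⟩ := S.2 ⟨w * (⟨q, Subgroup.mem_sup_right hq⟩ : ↥M)⁻¹, Subgroup.mul_mem _ hw (Subgroup.inv_mem _ hqS)⟩
    have hk' : ((w : G) * q⁻¹) ^ p ^ k = 1 := congrArg (fun z : (S : Subgroup ↥M) => ((z : ↥M) : G)) hk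
    have hwo : (w : G) * q⁻¹ = o := by rw [← e, mul_inv_cancel_right]
    have ho1 : o = 1 := pElement_eq_one_of_coprime (card_pPrimeCore_coprime p) ho (hwo ▸ hk')
    rw [Subgroup.mem_subgroupOf, ← e, ho1, one_mul]
    exact hq
  obtain ⟨g, hg⟩ := MulAction.exists_smul_eq M S' S
  have h1 : (MulAut.conj g) ⟨x₁, hx₁M⟩ ∈ (S : Subgroup ↥M) := by
    rw [← hg, Sylow.coe_subgroup_smul]
    exact Subgroup.smul_mem_pointwise_smul _ _ _ (hS' (Subgroup.mem_zpowers _))
  rw [hSeq, Subgroup.mem_subgroupOf] at h1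
  obtain ⟨i, hi⟩ := Subgroup.mem_zpowers_iff.mp h1
  obtain ⟨q, hq, o, ho, e⟩ : ∃ q ∈ Subgroup.zpowers x₂, ∃ o ∈ O, q * o = (g : G) := by
    obtain ⟨q, hq, o, ho, e⟩ := Subgroup.mem_sup_of_normal_right.mp
      (show (g : G) ∈ Subgroup.zpowers x₂ ⊔ O from sup_comm O (Subgroup.zpowers x₂) ▸ g.2)
    exact ⟨q, hq, o, ho, e⟩
  refine ⟨o, ho, ?_⟩
  set w := o * x₁ * o⁻¹ with hw
  have hconj : q * w * q⁻¹ = x₂ ^ i := by
    have e' : (g : G) * x₁ * (g : G)⁻¹ = x₂ ^ i := hi.symm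
    rw [← e', ← e, hw]; group
  have hwq : w = x₂ ^ i := by
    obtain ⟨k, rfl⟩ := Subgroup.mem_zpowers_iff.mp hq
    calc w = (x₂ ^ k)⁻¹ * (x₂ ^ k * w * (x₂ ^ k)⁻¹) * x₂ ^ k := by group
      _ = (x₂ ^ k)⁻¹ * x₂ ^ i * x₂ ^ k := by rw [hconj]
      _ = x₂ ^ i := by group
  have hbar : bar p G (x₂⁻¹ * x₂ ^ i) = 1 := by
    rw [map_mul, map_inv, ← hwq, hw, map_mul, map_mul, map_inv,
      show bar p G o = 1 from (QuotientGroup.eq_one_iff o).mpr ho, one_mul, inv_one, mul_one, h, inv_mul_cancel]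
  obtain ⟨k, hk⟩ := hP₂ ⟨x₂⁻¹ * x₂ ^ i,
    Subgroup.mul_mem _ (Subgroup.inv_mem _ (Subgroup.mem_zpowers _)) ⟨i, rfl⟩⟩
  have h1' := pElement_eq_one_of_coprime (card_pPrimeCore_coprime p) ((QuotientGroup.eq_one_iff _).mp hbar)
    (congrArg Subtype.val hk)
  rw [hwq]
  exact (inv_mul_eq_one.mp h1').symm

theorem IsPC.subgroupOf {L H C : Subgroup G} (h : IsPC p L H) (hC : H ≤ C) :
    IsPC p (L.subgroupOf C) (H.subgroupOf C) := by
  refine ⟨Subgroup.comap_mono h.le, ?_, ?_, ?_⟩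
  · have h1 := h.subnormal.map (f := (Subgroup.subgroupOfEquivOfLe hC).symm.toMonoidHom)
      (Subgroup.subgroupOfEquivOfLe hC).symm.surjective
    have e : (L.subgroupOf H).map (Subgroup.subgroupOfEquivOfLe hC).symm.toMonoidHom =
        (L.subgroupOf C).subgroupOf (H.subgroupOf C) := by
      ext x
      constructor
      · rintro ⟨z, hz, rfl⟩
        exact hz
      · intro hx
        exact ⟨⟨(x : ↥C), x.2⟩, hx, rfl⟩
    rwa [e] at h1
  · refine Subgroup.map_injective C.subtype_injective ?_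
    rw [← pEl_map_subtype, Subgroup.map_subgroupOf_eq_of_le (h.le.trans hC), h.pel]
  · exact isQuasisimple_of_equiv (QuotientGroup.congr _ _ (Subgroup.subgroupOfEquivOfLe (h.le.trans hC))
      (pPrimeCore_map_equiv p _)).symm h.qs

theorem component_core_bot (hO : pPrimeCore p G = ⊥) {J : Subgroup G} (hJ : IsComponent J) :
    pPrimeCore p ↥J = ⊥ := by
  rw [pPrimeCore_subgroupOf_subnormal hJ.1, hO, Subgroup.bot_subgroupOf]

theorem card_quot_of_core_bot {L : Subgroup G} (h : pPrimeCore p ↥L = ⊥) :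
    Nat.card (↥L ⧸ pPrimeCore p ↥L) = Nat.card L :=
  Nat.card_congr ((QuotientGroup.quotientMulEquivOfEq h).trans QuotientGroup.quotientBot).toEquiv

theorem Om_bot_of_core_bot {L : Subgroup G} (h : pPrimeCore p ↥L = ⊥) : Om p L = ⊥ := by
  rw [Om, h, Subgroup.map_bot]

theorem card_quot_le (L : Subgroup G) : Nat.card (↥L ⧸ pPrimeCore p ↥L) ≤ Nat.card L :=
  Nat.le_of_dvd Nat.card_pos ((pPrimeCore p ↥L).card_quotient_dvd_card)

end General

variable {X : Type u} [Group X] [Finite X] {p : ℕ} [Fact p.Prime]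

/-- The centralizer of an element. -/
abbrev cen (x : X) : Subgroup X := Subgroup.centralizer ({x} : Set X)

/-- The image of `A` in `C(y) / O_{p'}(C(y))`. -/
abbrev imY (p : ℕ) (y : X) (A : Subgroup X) : Subgroup (↥(cen y) ⧸ pPrimeCore p ↥(cen y)) :=
  (A.subgroupOf (cen y)).map (bar p ↥(cen y))

/-- The `p`-component of `C(y)` over a component of the quotient. -/
abbrev liftPC (p : ℕ) (y : X) (J : Subgroup (↥(cen y) ⧸ pPrimeCore p ↥(cen y))) : Subgroup X :=
  (pEl p (J.comap (bar p ↥(cen y)))).map (cen y).subtype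

/-- The size of `K / O_{p'}(K)`. -/
noncomputable abbrev qc (p : ℕ) (K : Subgroup X) : ℕ := Nat.card (↥K ⧸ pPrimeCore p ↥K)

/-- The `p`-part of the order. -/
noncomputable abbrev pv (p : ℕ) (D : Subgroup X) : ℕ := p ^ (Nat.card ↥D).factorization p

theorem mem_cen {x e : X} : e ∈ cen x ↔ e * x = x * e := Subgroup.mem_centralizer_singleton_iff

theorem liftPC_isPC (y : X) {J : Subgroup (↥(cen y) ⧸ pPrimeCore p ↥(cen y))} (hJ : IsComponent J) :
    IsPC p (liftPC p y J) (cen y) ∧ imY p y (liftPC p y J) = J := by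
  have e : (liftPC p y J).subgroupOf (cen y) = pEl p (J.comap (bar p ↥(cen y))) := by
    rw [Subgroup.subgroupOf, Subgroup.comap_map_eq_self_of_injective (cen y).subtype_injective]
  refine ⟨IsPC.of_pcompOf ⟨Subgroup.map_subtype_le _, ?_⟩, ?_⟩
  · rw [e]; exact (isPComponent_iff p).mpr ⟨J, hJ, rfl⟩
  · rw [imY, e, map_pEl_comap p hJ]

theorem mem_centralizerOf_iff {y : X} {M : Subgroup X} {e : X} :
    e ∈ centralizerOfPComponent p y M ↔ ∃ he : e ∈ cen y,
      bar p ↥(cen y) ⟨e, he⟩ ∈ Subgroup.centralizer ((imY p y M : Subgroup _) : Set _) := by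
  constructor
  · rintro ⟨e, he, rfl⟩
    exact ⟨e.2, he⟩
  · rintro ⟨he, h⟩
    exact ⟨⟨e, he⟩, h, rfl⟩

theorem centralizerOf_le (x : X) (K : Subgroup X) : centralizerOfPComponent p x K ≤ cen x :=
  Subgroup.map_subtype_le _

theorem mem_centralizerOf {x : X} {K : Subgroup X} (hK : IsPC p K (cen x)) {e : X} :
    e ∈ centralizerOfPComponent p x K ↔
      e ∈ cen x ∧ ∀ k ∈ K, e * k * e⁻¹ * k⁻¹ ∈ Om p K := by
  rw [mem_centralizerOf_iff]
  constructor
  · rintro ⟨he, h⟩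
    refine ⟨he, fun k hk => ?_⟩
    obtain ⟨z, hz, hze⟩ := (normalizes_of_centralizes_bar hK.toPComp h).2 ⟨k, hK.le hk⟩ hk
    refine (pcompOf_facts hK.toPComponentOf).2.2 _ ⟨z, hz, ?_⟩
    exact congrArg Subtype.val hze
  · rintro ⟨he, h⟩
    refine ⟨he, ?_⟩
    rintro _ ⟨k, hk, rfl⟩
    have h1 : ((⟨e, he⟩ : ↥(cen x)) * k * (⟨e, he⟩ : ↥(cen x))⁻¹ * k⁻¹) ∈ pPrimeCore p ↥(cen x) := by
      have h2 := h k hk
      rw [hK.Om_eq] at h2
      obtain ⟨z, hz, hze⟩ := (Subgroup.mem_inf.mp h2).2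
      exact (Subtype.ext hze : z = (⟨e, he⟩ : ↥(cen x)) * k * (⟨e, he⟩ : ↥(cen x))⁻¹ * k⁻¹) ▸ hz
    rw [← QuotientGroup.eq_one_iff, ← QuotientGroup.mk'_apply, map_mul, map_mul, map_mul, map_inv, map_inv,
      mul_inv_eq_one, mul_inv_eq_iff_eq_mul] at h1
    exact h1.symm

theorem normalizes_of_mem {x : X} {K : Subgroup X} (hK : IsPC p K (cen x)) {e : X}
    (he : e ∈ centralizerOfPComponent p x K) : e ∈ Subgroup.normalizer (K : Set X) :=
  mem_normalizer_of_maps fun k hk => by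
    have := Subgroup.mul_mem K (Om_le K (((mem_centralizerOf hK).mp he).2 k hk)) hk
    rwa [inv_mul_cancel_right] at this

theorem self_mem_centralizerOf {x : X} (K : Subgroup X) : x ∈ centralizerOfPComponent p x K := by
  refine mem_centralizerOf_iff.mpr ⟨mem_cen.mpr rfl, ?_⟩
  intro w _
  obtain ⟨w, rfl⟩ := bar_surjective p w
  rw [← map_mul, ← map_mul]
  exact congrArg _ (Subtype.ext (mem_cen.mp w.2))

theorem bar_injOn_pElement {y : X} {e : ↥(cen y)} {n : ℕ} (hn : e ^ p ^ n = 1) (h : bar p ↥(cen y) e = 1) :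
    e = 1 :=
  pElement_eq_one_of_coprime (card_pPrimeCore_coprime p) ((QuotientGroup.eq_one_iff e).mp h) hn

theorem IsPC.imY_isPC {y : X} {L H : Subgroup X} (h : IsPC p L H) (hH : H ≤ cen y) :
    IsPC p (imY p y L) (imY p y H) ∧
      Nonempty (↥L ⧸ pPrimeCore p ↥L ≃* ↥(imY p y L) ⧸ pPrimeCore p ↥(imY p y L)) := by
  have h1 := h.subgroupOf hH
  obtain ⟨h2, ⟨e⟩⟩ := h1.map (bar p ↥(cen y)) (Nat.Coprime.coprime_dvd_left
    (Subgroup.card_dvd_of_le (inf_le_right.trans (QuotientGroup.ker_mk' (pPrimeCore p ↥(cen y))).le))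
    (card_pPrimeCore_coprime p))
  exact ⟨h2, ⟨((QuotientGroup.congr _ _ (Subgroup.subgroupOfEquivOfLe (h.le.trans hH))
    (pPrimeCore_map_equiv p _)).symm).trans e⟩⟩

/-- The data of a `p`-component of `C(x)` with an element `y` of order `p` acting trivially on it. -/
structure PumpData (p : ℕ) (x : X) (K : Subgroup X) (y : X) : Prop where
  hx : orderOf x = p
  hK : IsPC p K (cen x)
  hy : y ∈ centralizerOfPComponent p x K
  hyo : orderOf y = p

namespace PumpData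

variable {x : X} {K : Subgroup X} {y : X}

theorem comm (d : PumpData p x K y) : x * y = y * x := (mem_cen.mp (centralizerOf_le x K d.hy)).symm

theorem x_mem (d : PumpData p x K y) : x ∈ cen y := mem_cen.mpr d.comm

/-- The image of `x` in `C(y) / O_{p'}(C(y))`. -/
noncomputable def a (d : PumpData p x K y) : ↥(cen y) ⧸ pPrimeCore p ↥(cen y) := bar p ↥(cen y) ⟨x, d.x_mem⟩

theorem a_pow (d : PumpData p x K y) : d.a ^ p = 1 := by
  rw [a, ← map_pow, show (⟨x, d.x_mem⟩ : ↥(cen y)) ^ p = 1 from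
    Subtype.ext (by push_cast; rw [← d.hx, pow_orderOf_eq_one]), map_one]

theorem fix (d : PumpData p x K y) : IsPC p (fixPC p K y) (cen x ⊓ cen y) ∧
    K ≤ fixPC p K y ⊔ Om p K ∧ Nonempty (↥(fixPC p K y) ⧸ pPrimeCore p ↥(fixPC p K y) ≃* ↥K ⧸ pPrimeCore p ↥K) ∧
      fixPC p K y = pLayerOf p (K ⊓ cen y) :=
  d.hK.fix d.hyo ((mem_centralizerOf d.hK).mp d.hy).2

theorem fix_le_cen (d : PumpData p x K y) : fixPC p K y ≤ cen y := d.fix.1.le.trans inf_le_right

theorem image_isPC (d : PumpData p x K y) :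
    IsPC p (imY p y (fixPC p K y)) (Subgroup.centralizer ({d.a} : Set _)) ∧
      Nonempty (↥(fixPC p K y) ⧸ pPrimeCore p ↥(fixPC p K y) ≃*
        ↥(imY p y (fixPC p K y)) ⧸ pPrimeCore p ↥(imY p y (fixPC p K y))) := by
  have h := d.fix.1.imY_isPC (y := y) inf_le_right
  have e : imY p y (cen x ⊓ cen y) = Subgroup.centralizer ({d.a} : Set _) := by
    rw [a, ← map_centralizer_bar (n := 1) (show (⟨x, d.x_mem⟩ : ↥(cen y)) ^ p ^ 1 = 1 from
      Subtype.ext (by push_cast; rw [pow_one, ← d.hx, pow_orderOf_eq_one])), imY]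
    congr 1
    ext c
    rw [Subgroup.mem_subgroupOf, Subgroup.mem_inf]
    exact ⟨fun h => Subgroup.mem_centralizer_singleton_iff.mpr (Subtype.ext (mem_cen.mp h.1)),
      fun h => ⟨mem_cen.mpr (congrArg Subtype.val (Subgroup.mem_centralizer_singleton_iff.mp h)), c.2⟩⟩
  rw [e] at h
  exact h

/-- `L̄` is a component of `C(y) / O_{p'}(C(y))`. -/
abbrev Triv (_d : PumpData p x K y) : Prop := IsComponent (imY p y (fixPC p K y))

theorem normalizes_fix (d : PumpData p x K y) {e : X} (he : e ∈ centralizerOfPComponent p x K) (hey : e ∈ cen y) :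
    e ∈ Subgroup.normalizer (fixPC p K y : Set X) := by
  refine normalizer_le_normalizer_pEl _ (mem_normalizer_of_maps fun w hw => ?_)
  obtain ⟨hwK, hwy⟩ := Subgroup.mem_inf.mp hw
  exact Subgroup.mem_inf.mpr ⟨(Subgroup.mem_normalizer_iff.mp (normalizes_of_mem d.hK he) w).mp hwK,
    Subgroup.mul_mem _ (Subgroup.mul_mem _ hey hwy) (Subgroup.inv_mem _ hey)⟩

theorem commutator_mem_Om (d : PumpData p x K y) {e : X} (he : e ∈ centralizerOfPComponent p x K) (hey : e ∈ cen y)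
    {l : X} (hl : l ∈ fixPC p K y) : e * l * e⁻¹ * l⁻¹ ∈ Om p (fixPC p K y) := by
  have hlK : l ∈ K := (Subgroup.mem_inf.mp (pEl_le _ hl)).1
  have h1 : e * l * e⁻¹ * l⁻¹ ∈ fixPC p K y ⊓ Om p K := Subgroup.mem_inf.mpr
    ⟨Subgroup.mul_mem _ ((Subgroup.mem_normalizer_iff.mp (d.normalizes_fix he hey) l).mp hl) (Subgroup.inv_mem _ hl),
      ((mem_centralizerOf d.hK).mp he).2 l hlK⟩
  refine le_Om inf_le_left (fun g hg => mem_normalizer_of_maps fun w hw => ?_) ?_ h1
  · obtain ⟨hw1, hw2⟩ := Subgroup.mem_inf.mp hw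
    exact Subgroup.mem_inf.mpr ⟨Subgroup.mul_mem _ (Subgroup.mul_mem _ hg hw1) (Subgroup.inv_mem _ hg),
      (Subgroup.mem_normalizer_iff.mp (le_normalizer_Om K (Subgroup.mem_inf.mp (pEl_le _ hg)).1) w).mp hw2⟩
  · exact Nat.Coprime.coprime_dvd_left (Subgroup.card_dvd_of_le inf_le_right) (card_Om_coprime K)

theorem bar_Om (d : PumpData p x K y) (hO : pPrimeCore p ↥(imY p y (fixPC p K y)) = ⊥) {w : X}
    (hw : w ∈ Om p (fixPC p K y)) :
    bar p ↥(cen y) ⟨w, d.fix_le_cen (Om_le _ hw)⟩ = 1 := by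
  set L := fixPC p K y with hL
  have hle : imY p y (Om p L) ≤ Om p (imY p y L) := by
    refine le_Om (Subgroup.map_mono (Subgroup.comap_mono (Om_le L))) ?_ ?_
    · rintro _ ⟨l, hl, rfl⟩
      refine mem_normalizer_of_maps ?_
      rintro _ ⟨m, hm, rfl⟩
      exact ⟨l * m * l⁻¹, (Subgroup.mem_normalizer_iff.mp (le_normalizer_Om L hl) m).mp hm,
        by rw [map_mul, map_mul, map_inv]⟩
    · refine Nat.Coprime.coprime_dvd_left (Subgroup.card_map_dvd _ _) ?_
      rw [Nat.card_congr (Subgroup.subgroupOfEquivOfLe ((Om_le L).trans d.fix_le_cen)).toEquiv]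
      exact card_Om_coprime L
  rw [Om_bot_of_core_bot hO] at hle
  exact Subgroup.mem_bot.mp (hle ⟨⟨w, d.fix_le_cen (Om_le _ hw)⟩, hw, rfl⟩)

theorem bar_centralizes (d : PumpData p x K y) (hO : pPrimeCore p ↥(imY p y (fixPC p K y)) = ⊥) {e : X}
    (he : e ∈ centralizerOfPComponent p x K) (hey : e ∈ cen y) :
    bar p ↥(cen y) ⟨e, hey⟩ ∈ Subgroup.centralizer ((imY p y (fixPC p K y) : Subgroup _) : Set _) := by
  rintro _ ⟨l, hl, rfl⟩
  have h2 := d.bar_Om hO (d.commutator_mem_Om he hey (l := (l : X)) hl)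
  have h3 : bar p ↥(cen y) ((⟨e, hey⟩ : ↥(cen y)) * l * (⟨e, hey⟩ : ↥(cen y))⁻¹ * l⁻¹) = 1 := h2
  rw [map_mul, map_mul, map_mul, map_inv, map_inv, mul_inv_eq_one, mul_inv_eq_iff_eq_mul] at h3
  exact h3.symm

theorem triv_data (d : PumpData p x K y) (ht : d.Triv) :
    ∃ M : Subgroup X, IsPC p M (cen y) ∧ fixPC p K y ≤ M ∧
      Nonempty (↥M ⧸ pPrimeCore p ↥M ≃* ↥K ⧸ pPrimeCore p ↥K) ∧
      centralizerOfPComponent p x K ⊓ cen y ≤ centralizerOfPComponent p y M ∧
      ∀ M' : Subgroup X, IsPC p M' (cen y) → fixPC p K y ≤ M' → M' = M := by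
  obtain ⟨hM, hMim⟩ := liftPC_isPC (p := p) y ht
  set L := fixPC p K y with hL
  set M := liftPC p y (imY p y L) with hMdef
  have hO := component_core_bot (pPrimeCore_quotient_eq_bot (G := ↥(cen y)) p) ht
  refine ⟨M, hM, ?_, ?_, ?_, ?_⟩
  · calc L = pEl p L := d.fix.1.pel.symm
      _ = pEl p ((L.subgroupOf (cen y)).map (cen y).subtype) := by
          rw [Subgroup.map_subgroupOf_eq_of_le d.fix_le_cen]
      _ = (pEl p (L.subgroupOf (cen y))).map (cen y).subtype := pEl_map_subtype _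
      _ ≤ M := Subgroup.map_mono (pEl_mono (Subgroup.le_comap_map _ _))
  · obtain ⟨-, ⟨e1⟩⟩ := hM.imY_isPC (y := y) le_rfl
    obtain ⟨-, ⟨e2⟩⟩ := d.image_isPC
    obtain ⟨e3⟩ := d.fix.2.2.1
    have e4 : ↥M ⧸ pPrimeCore p ↥M ≃* ↥(imY p y L) ⧸ pPrimeCore p ↥(imY p y L) := by rwa [hMim] at e1
    exact ⟨e4.trans (e2.symm.trans e3)⟩
  · rintro e ⟨he, hey⟩
    refine mem_centralizerOf_iff.mpr ⟨hey, ?_⟩
    rw [hMim]
    exact d.bar_centralizes hO he hey
  · intro M' hM' hLM'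
    have h1 := pcomp_unique hM'.toPComp hM.toPComp ?_
    · have := congrArg (Subgroup.map (cen y).subtype) h1
      rwa [Subgroup.map_subgroupOf_eq_of_le hM'.le, Subgroup.map_subgroupOf_eq_of_le hM.le] at this
    · show imY p y M' = imY p y M
      rw [hMim]
      refine (components_eq_or_commute hM'.image_component ht).resolve_right fun h => ?_
      refine component_not_centralizing ht fun b hb c hc => ?_
      exact comm_of_commutator_eq_bot h (Subgroup.map_mono (Subgroup.comap_mono hLM') hb) hc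

theorem diag_data (d : PumpData p x K y)
    (hS : ∀ J : Subgroup (↥(cen y) ⧸ pPrimeCore p ↥(cen y)), IsComponent J →
      Group.IsSolvable (Cfsg.Out (↥J ⧸ Subgroup.center ↥J)))
    (hmax : ∀ M : Subgroup X, IsPC p M (cen y) → qc p M ≤ qc p K) (ht : ¬ d.Triv) :
    ∃ (J : Subgroup (↥(cen y) ⧸ pPrimeCore p ↥(cen y))) (h : Moves p d.a J), Function.Injective h.delta ∧
      imY p y (fixPC p K y) = h.delta.range ∧ pPrimeCore p ↥(imY p y (fixPC p K y)) = ⊥ ∧
      Nonempty (↥J ≃* ↥K ⧸ pPrimeCore p ↥K) := by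
  have hOY := pPrimeCore_quotient_eq_bot (G := ↥(cen y)) p
  obtain ⟨hLpc, ⟨e2⟩⟩ := d.image_isPC
  set L := imY p y (fixPC p K y) with hL
  have hLE := le_layer_of_balance hOY hS d.a_pow hLpc
  obtain ⟨J, hJ, hLA⟩ := exists_orbit_support hOY d.a_pow hLpc hLE
  obtain ⟨e3⟩ := d.fix.2.2.1
  have hqK : qc p K = Nat.card (↥L ⧸ pPrimeCore p ↥L) := Nat.card_congr (e3.symm.trans e2).toEquiv
  obtain ⟨hM, hMim⟩ := liftPC_isPC (p := p) y hJ
  obtain ⟨-, ⟨eM⟩⟩ := hM.imY_isPC (y := y) le_rfl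
  have hJO := component_core_bot hOY hJ
  have hqM : qc p (liftPC p y J) = Nat.card J := by
    rw [qc, Nat.card_congr eM.toEquiv, hMim, card_quot_of_core_bot hJO]
  have hJle : Nat.card J ≤ qc p K := hqM ▸ hmax _ hM
  by_cases hfix : cj d.a J = J
  · exfalso
    rw [orbitSup_eq_self (Subgroup.zpowers_le.mpr (mem_normalizer_of_cj hfix))] at hLA
    refine ht ?_
    have heq : L = J := Subgroup.eq_of_le_of_card_ge hLA (hJle.trans (hqK ▸ card_quot_le (p := p) L))
    show IsComponent L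
    rw [heq]; exact hJ
  have h : Moves p d.a J := ⟨d.a_pow, hJ, hfix⟩
  have hLr := h.le_range hLA hLpc.le hLpc.perfect
  have h1 : Nat.card h.delta.range ≤ Nat.card J := Nat.card_le_card_of_surjective _ h.delta.rangeRestrict_surjective
  have h2 : Nat.card L ≤ Nat.card h.delta.range := Subgroup.card_le_of_le hLr
  have h3 : Nat.card (↥L ⧸ pPrimeCore p ↥L) ≤ Nat.card L := card_quot_le L
  have hLeq : L = h.delta.range := Subgroup.eq_of_le_of_card_ge hLr (by omega)
  have hinj : Function.Injective h.delta := by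
    have hc : Nat.card h.delta.range = Nat.card J := by omega
    have hbij : Function.Bijective h.delta.rangeRestrict :=
      (Nat.bijective_iff_surjective_and_card _).mpr ⟨h.delta.rangeRestrict_surjective, hc.symm⟩
    exact fun b c e => hbij.1 (Subtype.ext e)
  have hO : pPrimeCore p ↥L = ⊥ := by
    have h4 := (pPrimeCore p ↥L).index_mul_card
    rw [Subgroup.index_eq_card] at h4
    have h5 : Nat.card (↥L ⧸ pPrimeCore p ↥L) = Nat.card L := by omega
    rw [h5] at h4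
    exact Subgroup.card_eq_one.mp (Nat.eq_of_mul_eq_mul_left Nat.card_pos (by rw [h4, mul_one]))
  refine ⟨J, h, hinj, hLeq, hO, ⟨?_⟩⟩
  exact ((MonoidHom.ofInjective hinj).trans (MulEquiv.subgroupCongr hLeq.symm)).trans
    ((((QuotientGroup.quotientMulEquivOfEq hO).trans QuotientGroup.quotientBot).symm).trans (e2.symm.trans e3))

end PumpData

end CfsgLib.Comp
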