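import Cfsg.Agent.Lib.Comp.PC

/-!
Orbits of components under an element of order `p`, the diagonal homomorphism, and where a `p`-component
of the centralizer lives.
-/

set_option autoImplicit false
set_option linter.unusedSectionVars false

namespace CfsgLib.Comp

open Cfsg Subgroup
open scoped commutatorElement

universe u v
variable {G : Type u} [Group G] [Finite G] {p : ℕ} [Fact p.Prime]

theorem cj_of_mem_normalizer {g : G} {A : Subgroup G} (h : g ∈ Subgroup.normalizer (A : Set G)) : cj g A = A := by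
  refine Subgroup.eq_of_le_of_card_ge ?_ ?_
  · rintro _ ⟨x, hx, rfl⟩
    exact (Subgroup.mem_normalizer_iff.mp h x).mp hx
  · rw [cj, Subgroup.card_map_of_injective (MulAut.conj g).injective]

theorem cj_one (A : Subgroup G) : cj (1 : G) A = A := by
  ext x; simp [cj]

theorem exists_pow_of_mem_zpowers {a x : G} (hx : x ∈ Subgroup.zpowers a) : ∃ i : ℕ, a ^ i = x :=
  Submonoid.mem_powers_iff x a |>.mp (mem_powers_iff_mem_zpowers.mpr hx)

theorem orbitSup_eq_self {Q J : Subgroup G} (h : Q ≤ Subgroup.normalizer (J : Set G)) : orbitSup Q J = J :=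
  le_antisymm (iSup_le fun q => (cj_of_mem_normalizer (h q.2)).le) (self_le_orbitSup Q J)

/-- A component whose centralizer-closed orbit contains a subgroup centralising it. -/
theorem component_not_centralizing {J : Subgroup G} (hJ : IsComponent J)
    (h : ∀ a ∈ J, ∀ b ∈ J, a * b = b * a) : False :=
  isQuasisimple_not_isSolvable hJ.2 (Group.isSolvable_of_comm fun a b => Subtype.ext (h a a.2 b b.2))

/-! ### Where a `p`-component of `C(a)` lies -/

theorem IsPC.not_comm {L H : Subgroup G} (h : IsPC p L H) (hab : ∀ a ∈ L, ∀ b ∈ L, a * b = b * a) : False := by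
  haveI : Group.IsSolvable ↥L := Group.isSolvable_of_comm fun a b => Subtype.ext (hab a a.2 b b.2)
  exact isQuasisimple_not_isSolvable h.qs
    (Group.isSolvable_of_surjective (f := QuotientGroup.mk' (pPrimeCore p ↥L)) (QuotientGroup.mk'_surjective _))

theorem le_layer_of_balance (hO : pPrimeCore p G = ⊥)
    (hS : ∀ J : Subgroup G, IsComponent J → Group.IsSolvable (Cfsg.Out (↥J ⧸ Subgroup.center ↥J)))
    {a : G} (ha : a ^ p = 1) {L : Subgroup G} (hL : IsPC p L (Subgroup.centralizer ({a} : Set G))) :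
    L ≤ layer G := by
  set Q := Subgroup.zpowers a with hQ
  have hCQ : Subgroup.centralizer ({a} : Set G) = Subgroup.centralizer (Q : Set G) := by
    rw [hQ, Subgroup.zpowers_eq_closure, Subgroup.centralizer_closure]
  have hQp : IsPGroup p ↥Q := zpowers_isPGroup (n := 1) (by rw [pow_one, ha])
  have hCN : Subgroup.centralizer ({a} : Set G) ≤ Subgroup.normalizer (Q : Set G) :=
    hCQ ▸ centralizer_le_normalizer' Q
  have h1 : IsPC p L (Subgroup.normalizer (Q : Set G)) := by
    refine hL.lift_normal hCN fun g hg => mem_normalizer_of_maps fun c hc => ?_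
    rw [hCQ] at hc ⊢
    intro q hq
    have h2 := hc (g⁻¹ * q * g)
      (by simpa using (Subgroup.mem_normalizer_iff.mp (Subgroup.inv_mem _ hg) q).mp hq)
    calc q * (g * c * g⁻¹) = g * (g⁻¹ * q * g * c) * g⁻¹ := by group
      _ = g * (c * (g⁻¹ * q * g)) * g⁻¹ := by rw [h2]
      _ = g * c * g⁻¹ * q := by group
  have h3 := balance_reduced hO hS Q hQp _ h1.toPComp
  rwa [Subgroup.map_subgroupOf_eq_of_le h1.le] at h3

theorem exists_orbit_support (hO : pPrimeCore p G = ⊥)
    {a : G} (ha : a ^ p = 1) {L : Subgroup G} (hL : IsPC p L (Subgroup.centralizer ({a} : Set G)))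
    (hLE : L ≤ layer G) :
    ∃ J : Subgroup G, IsComponent J ∧ L ≤ orbitSup (Subgroup.zpowers a) J := by
  haveI : (pCore p G).Normal := Subgroup.sSup_normal _ (fun _ h => h.1)
  set Q₀ := Subgroup.zpowers a with hQ₀
  set Q := Q₀ ⊔ pCore p G with hQ
  have hQ₀p : IsPGroup p ↥Q₀ := zpowers_isPGroup (n := 1) (by rw [pow_one, ha])
  have hQp : IsPGroup p ↥Q := hQ₀p.to_sup_of_normal_right (isPGroup_pCore p)
  set CQ := Subgroup.centralizer (Q : Set G) with hCQ
  have hLCQ : L ≤ CQ := by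
    rw [hCQ, Subgroup.le_centralizer_iff]
    refine sup_le ?_ ?_
    · rw [hQ₀, Subgroup.zpowers_le]
      intro l hl
      exact Subgroup.mem_centralizer_singleton_iff.mp (hL.le hl)
    · rw [← Subgroup.le_centralizer_iff]
      exact hLE.trans (layer_le_centralizer_fitting.trans
        (Subgroup.centralizer_le (pCore_le_fittingSubgroup Fact.out)))
  have hCQC : CQ ≤ Subgroup.centralizer ({a} : Set G) := by
    rw [hCQ]
    exact Subgroup.centralizer_le (Set.singleton_subset_iff.mpr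
      ((le_sup_left : Q₀ ≤ Q) (Subgroup.mem_zpowers a)))
  set M := Subgroup.normalizer (Q : Set G) with hM
  have hLM : IsPC p L M := by
    refine (hL.mono hLCQ hCQC).lift_normal (centralizer_le_normalizer' Q)
      fun g hg => mem_normalizer_of_maps fun c hc => ?_
    intro q hq
    have h2 := hc (g⁻¹ * q * g)
      (by simpa using (Subgroup.mem_normalizer_iff.mp (Subgroup.inv_mem _ hg) q).mp hq)
    calc q * (g * c * g⁻¹) = g * (g⁻¹ * q * g * c) * g⁻¹ := by group
      _ = g * (c * (g⁻¹ * q * g)) * g⁻¹ := by rw [h2]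
      _ = g * c * g⁻¹ * q := by group
  set F := layer G ⊓ M with hF
  have hLF : IsPC p L F := hLM.mono (le_inf hLE hLM.le) inf_le_right
  -- a component not centralised by `L`
  obtain ⟨J, hJ, hLJ⟩ : ∃ J : Subgroup G, IsComponent J ∧ ¬ L ≤ Subgroup.centralizer (J : Set G) := by
    by_contra hall
    push Not at hall
    have h1 : L ≤ Subgroup.centralizer ((layer G : Subgroup G) : Set G) := by
      rw [Subgroup.le_centralizer_iff]
      exact sSup_le fun J hJ => Subgroup.le_centralizer_iff.mp (hall J hJ)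
    exact hL.not_comm fun x hx y hy => (h1 hx y (hLE hy)).symm
  refine ⟨J, hJ, ?_⟩
  set A := orbitSup Q₀ J with hA
  set B := sSup {J' : Subgroup G | IsComponent J' ∧ ∀ q : ↥Q₀, cj (q : G) J ≠ J'} with hB
  have hAB : B ≤ Subgroup.centralizer (A : Set G) := sSup_le fun J' hJ' => by
    rw [Subgroup.le_centralizer_iff]
    exact iSup_le fun q => Subgroup.commutator_eq_bot_iff_le_centralizer.mp
      ((components_eq_or_commute (isComponent_map_equiv (MulAut.conj (q : G)) hJ) hJ'.1).resolve_left (hJ'.2 q))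
  have hE : layer G ≤ A ⊔ B := sSup_le fun J' hJ' => by
    by_cases h : ∃ q : ↥Q₀, cj (q : G) J = J'
    · obtain ⟨q, rfl⟩ := h
      exact le_sup_of_le_left (le_iSup (fun q : ↥Q₀ => cj (q : G) J) q)
    · exact le_sup_of_le_right (le_sSup ⟨hJ', fun q e => h ⟨q, e⟩⟩)
  have hAE : A ≤ layer G := orbitSup_le_layer Q₀ hJ
  have hBE : B ≤ layer G := sSup_le fun J' hJ' => le_layer hJ'.1
  have hBn : B ≤ Subgroup.normalizer (A : Set G) := hAB.trans (centralizer_le_normalizer' A)
  have hAn : A ≤ Subgroup.normalizer (B : Set G) :=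
    (Subgroup.le_centralizer_iff.mp hAB).trans (centralizer_le_normalizer' B)
  have hEA : layer G ≤ Subgroup.normalizer (A : Set G) := hE.trans (sup_le Subgroup.le_normalizer hBn)
  have hEB : layer G ≤ Subgroup.normalizer (B : Set G) := hE.trans (sup_le hAn Subgroup.le_normalizer)
  have hinv : ∀ q ∈ Q₀, ∀ x ∈ B, q * x * q⁻¹ ∈ B := by
    intro q hq x hx
    have hle : B ≤ B.comap (MulAut.conj q).toMonoidHom := sSup_le fun J' hJ' => by
      rw [← Subgroup.map_le_iff_le_comap]
      refine le_sSup ⟨isComponent_map_equiv (MulAut.conj q) hJ'.1, fun r e => hJ'.2 (⟨q, hq⟩⁻¹ * r) ?_⟩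
      show cj (q⁻¹ * (r : G)) J = J'
      rw [cj_mul, e]
      show cj q⁻¹ (cj q J') = J'
      rw [← cj_mul, inv_mul_cancel, cj_one]
    exact hle hx
  have hnormal : ∀ N : Subgroup G, layer G ≤ Subgroup.normalizer (N : Set G) → ((N ⊓ M).subgroupOf F).Normal :=
    fun N hN => ⟨fun n hn g => by
      obtain ⟨hn1, hn2⟩ := Subgroup.mem_inf.mp (Subgroup.mem_subgroupOf.mp hn)
      obtain ⟨hg1, hg2⟩ := Subgroup.mem_inf.mp g.2
      exact Subgroup.mem_subgroupOf.mpr (Subgroup.mem_inf.mpr ⟨(Subgroup.mem_normalizer_iff.mp (hN hg1) n).mp hn1,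
        Subgroup.mul_mem M (Subgroup.mul_mem M hg2 hn2) (Subgroup.inv_mem M hg2)⟩)⟩
  haveI := hnormal A hEA
  haveI := hnormal B hEB
  -- decomposition
  have hdec : ∀ l ∈ L, ∃ e ∈ A ⊓ M, ∃ f ∈ B ⊓ M, e * f = l := by
    intro l hl
    obtain ⟨e, he, f, hf, hef⟩ := mem_sup_of_le_normalizer hBn (hE (hLE hl))
    have heM : e ∈ M := mem_normalizer_of_maps fun q hq => by
      obtain ⟨q₀, hq₀, r, hr, rfl⟩ := Subgroup.mem_sup_of_normal_right.mp hq
      have hlq : q₀ * l = l * q₀ := hLCQ hl q₀ (Subgroup.mem_sup_left hq₀)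
      have hcom : q₀ * e * q₀⁻¹ * e⁻¹ ∈ A ⊓ B := by
        have h1 : q₀ * e * q₀⁻¹ * e⁻¹ ∈ A :=
          Subgroup.mul_mem A ((Subgroup.mem_normalizer_iff.mp (le_normalizer_orbitSup Q₀ J hq₀) e).mp he)
            (Subgroup.inv_mem A he)
        refine Subgroup.mem_inf.mpr ⟨h1, ?_⟩
        have hfi := Subgroup.inv_mem B (hinv q₀ hq₀ f hf)
        have h2 : e⁻¹ * (q₀ * e * q₀⁻¹) = f * (q₀ * f * q₀⁻¹)⁻¹ := by
          rw [← mul_right_inj e, mul_inv_cancel_left, ← mul_assoc, hef]
          calc q₀ * e * q₀⁻¹ = q₀ * (e * f) * q₀⁻¹ * (q₀ * f * q₀⁻¹)⁻¹ := by group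
            _ = l * (q₀ * f * q₀⁻¹)⁻¹ := by rw [hef, hlq, mul_inv_cancel_right]
        have h3 : e⁻¹ * (q₀ * e * q₀⁻¹) ∈ B := h2 ▸ Subgroup.mul_mem B hf hfi
        have h4 := (Subgroup.mem_normalizer_iff.mp (hAn he) _).mp h3
        rwa [mul_inv_cancel_left] at h4
      have hcP : q₀ * e * q₀⁻¹ * e⁻¹ ∈ pCore p G :=
        central_orbitSup_le hO Q₀ hJ (Subgroup.mem_inf.mp hcom).1
          fun b hb => (hAB (Subgroup.mem_inf.mp hcom).2 b hb).symm
      have h5 : e * q₀ * e⁻¹ = (q₀ * e * q₀⁻¹ * e⁻¹)⁻¹ * q₀ := by group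
      have h6 : e * (q₀ * r) * e⁻¹ = (e * q₀ * e⁻¹) * (e * r * e⁻¹) := by group
      rw [h6, h5]
      exact Subgroup.mul_mem Q (Subgroup.mul_mem Q (Subgroup.inv_mem Q (Subgroup.mem_sup_right hcP))
        (Subgroup.mem_sup_left hq₀)) (Subgroup.mem_sup_right ((inferInstance : (pCore p G).Normal).conj_mem r hr e))
    have hlM : l ∈ M := hLM.le hl
    have hfM : f ∈ M := by
      have := Subgroup.mul_mem M (Subgroup.inv_mem M heM) hlM
      rwa [← hef, inv_mul_cancel_left] at this
    exact ⟨e, Subgroup.mem_inf.mpr ⟨he, heM⟩, f, Subgroup.mem_inf.mpr ⟨hf, hfM⟩, hef⟩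
  rcases pcomp_le_or_commutator hLF.toPComp ((A ⊓ M).subgroupOf F) with h | h
  · intro l hl
    exact (Subgroup.mem_inf.mp (h (show (⟨l, hLF.le hl⟩ : ↥F) ∈ L.subgroupOf F from hl))).1
  exfalso
  rcases pcomp_le_or_commutator hLF.toPComp ((B ⊓ M).subgroupOf F) with h' | h'
  · have hLB : L ≤ B := fun l hl =>
      (Subgroup.mem_inf.mp (h' (show (⟨l, hLF.le hl⟩ : ↥F) ∈ L.subgroupOf F from hl))).1
    exact hLJ (hLB.trans (hAB.trans (Subgroup.centralizer_le (self_le_orbitSup Q₀ J))))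
  set L' := L.subgroupOf F with hL'
  have hsup : L' ≤ (A ⊓ M).subgroupOf F ⊔ (B ⊓ M).subgroupOf F := by
    intro l hl
    obtain ⟨e, he, f, hf, hef⟩ := hdec l hl
    have heF : e ∈ F := Subgroup.mem_inf.mpr ⟨hAE (Subgroup.mem_inf.mp he).1, (Subgroup.mem_inf.mp he).2⟩
    have hfF : f ∈ F := Subgroup.mem_inf.mpr ⟨hBE (Subgroup.mem_inf.mp hf).1, (Subgroup.mem_inf.mp hf).2⟩
    have : l = (⟨e, heF⟩ : ↥F) * ⟨f, hfF⟩ := Subtype.ext hef.symm
    rw [this]
    exact Subgroup.mul_mem_sup he hf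
  have hperf : ⁅L', L'⁆ = L' := pcomp_perfect (p := p) hLF.toPComp
  have h7 : L' ≤ pPrimeCore p ↥F := by
    conv_lhs => rw [← hperf]
    refine (Subgroup.commutator_mono le_rfl hsup).trans ?_
    rw [Subgroup.commutator_le]
    intro x hx y hy
    obtain ⟨e, he, f, hf, rfl⟩ := Subgroup.mem_sup_of_normal_right.mp hy
    have e1 : ⁅x, e * f⁆ = ⁅x, e⁆ * (e * ⁅x, f⁆ * e⁻¹) := by
      rw [commutatorElement_def, commutatorElement_def, commutatorElement_def]; group
    rw [e1]
    exact Subgroup.mul_mem _ (h (Subgroup.commutator_mem_commutator hx he))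
      ((inferInstance : (pPrimeCore p ↥F).Normal).conj_mem _ (h' (Subgroup.commutator_mem_commutator hx hf)) e)
  exact pcomp_not_le_core hLF.toPComp h7

/-! ### The diagonal -/

/-- `a^i j a^{-i}`. -/
abbrev gsh (a : G) (i : ℕ) (j : G) : G := a ^ i * j * (a ^ i)⁻¹

/-- The product of `gsh a i j` for `1 ≤ i ≤ n`. -/
def dprod (a : G) : ℕ → G → G
  | 0, _ => 1
  | n + 1, j => dprod a n j * gsh a (n + 1) j

/-- The product of `(gsh a i j) ^ i` for `1 ≤ i ≤ n`. -/
def vprod (a : G) : ℕ → G → G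
  | 0, _ => 1
  | n + 1, j => vprod a n j * gsh a (n + 1) j ^ (n + 1)

/-- An element of order dividing `p` moving a component. -/
structure Moves (p : ℕ) (a : G) (J : Subgroup G) : Prop where
  pow : a ^ p = 1
  comp : IsComponent J
  ne : cj a J ≠ J

namespace Moves

variable {a : G} {J : Subgroup G}

theorem orderOf_eq (h : Moves p a J) : orderOf a = p :=
  orderOf_eq_prime h.pow fun e => h.ne (by rw [e, cj_one])

theorem pow_eq_of_cj_eq (h : Moves p a J) {i k : ℕ} (e : cj (a ^ i) J = cj (a ^ k) J) : a ^ i = a ^ k := by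
  by_contra hne
  have hb := mem_normalizer_of_cj (cj_inv_eq e)
  set b := (a ^ k)⁻¹ * a ^ i with hbdef
  have hb1 : b ≠ 1 := fun hb' => hne (inv_mul_eq_one.mp hb').symm
  have hba : b ∈ Subgroup.zpowers a := Subgroup.mul_mem _
    (Subgroup.inv_mem _ (Subgroup.pow_mem _ (Subgroup.mem_zpowers a) _))
    (Subgroup.pow_mem _ (Subgroup.mem_zpowers a) _)
  have hbo : orderOf b = p := by
    have h1 := orderOf_dvd_of_mem_zpowers hba
    rw [h.orderOf_eq] at h1
    exact ((Fact.out : p.Prime).eq_one_or_self_of_dvd _ h1).resolve_left fun e => hb1 (orderOf_eq_one_iff.mp e)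
  have heq : Subgroup.zpowers b = Subgroup.zpowers a :=
    Subgroup.eq_of_le_of_card_ge (Subgroup.zpowers_le.mpr hba)
      (by rw [Nat.card_zpowers, Nat.card_zpowers, hbo, h.orderOf_eq])
  have ha' : a ∈ Subgroup.normalizer (J : Set G) :=
    (Subgroup.zpowers_le.mpr hb) (heq ▸ Subgroup.mem_zpowers a)
  exact h.ne (cj_of_mem_normalizer ha')

theorem pow_ne (h : Moves p a J) {i k : ℕ} (hik : i < k) (hkp : k < i + p) : a ^ i ≠ a ^ k := by
  intro e
  have h1 := pow_eq_pow_iff_modEq.mp e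
  rw [h.orderOf_eq, Nat.modEq_iff_dvd' hik.le] at h1
  exact absurd (Nat.le_of_dvd (by omega) h1) (by omega)

theorem gsh_comm (h : Moves p a J) {i k : ℕ} (hne : a ^ i ≠ a ^ k) {b c : G} (hb : b ∈ J) (hc : c ∈ J) :
    Commute (gsh a i b) (gsh a k c) :=
  comm_of_commutator_eq_bot ((components_eq_or_commute (isComponent_map_equiv (MulAut.conj (a ^ i)) h.comp)
    (isComponent_map_equiv (MulAut.conj (a ^ k)) h.comp)).resolve_left fun e => hne (h.pow_eq_of_cj_eq e))
    ⟨b, hb, rfl⟩ ⟨c, hc, rfl⟩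

theorem gsh_comm_self (h : Moves p a J) (i k : ℕ) {b : G} (hb : b ∈ J) :
    Commute (gsh a i b) (gsh a k b) := by
  by_cases e : a ^ i = a ^ k
  · rw [gsh, gsh, e]
  · exact h.gsh_comm e hb hb

theorem dprod_comm (h : Moves p a J) {k : ℕ} {b c : G} (hb : b ∈ J) (hc : c ∈ J) :
    ∀ n : ℕ, (∀ i, 1 ≤ i → i ≤ n → a ^ k ≠ a ^ i) → Commute (gsh a k b) (dprod a n c)
  | 0, _ => Commute.one_right _
  | n + 1, hh => (h.dprod_comm hb hc n fun i h1 h2 => hh i h1 (by omega)).mul_right
      (h.gsh_comm (hh (n + 1) (by omega) le_rfl) hb hc)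

theorem dprod_comm_self (h : Moves p a J) (k : ℕ) {b : G} (hb : b ∈ J) :
    ∀ n : ℕ, Commute (gsh a k b) (dprod a n b)
  | 0 => Commute.one_right _
  | n + 1 => (h.dprod_comm_self k hb n).mul_right (h.gsh_comm_self k (n + 1) hb)

theorem dprod_mul (h : Moves p a J) {b c : G} (hb : b ∈ J) (hc : c ∈ J) :
    ∀ n : ℕ, n ≤ p → dprod a n (b * c) = dprod a n b * dprod a n c
  | 0, _ => (one_mul 1).symm
  | n + 1, hn => by
    have h1 : Commute (gsh a (n + 1) b) (dprod a n c) :=
      h.dprod_comm hb hc n fun i hi1 hi2 => (h.pow_ne (show i < n + 1 by omega) (by omega)).symm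
    show dprod a n (b * c) * gsh a (n + 1) (b * c) =
      dprod a n b * gsh a (n + 1) b * (dprod a n c * gsh a (n + 1) c)
    rw [h.dprod_mul hb hc n (by omega), show gsh a (n + 1) (b * c) = gsh a (n + 1) b * gsh a (n + 1) c by
      rw [gsh, gsh, gsh]; group]
    exact Commute.mul_mul_mul_comm h1.symm _ _

/-- The diagonal homomorphism. -/
noncomputable def delta (h : Moves p a J) : ↥J →* G :=
  MonoidHom.mk' (fun j => dprod a p j) fun b c => h.dprod_mul b.2 c.2 p le_rfl

theorem dprod_shift (a : G) (j : G) : ∀ n : ℕ, a * dprod a n j * a⁻¹ = (gsh a 1 j)⁻¹ * dprod a (n + 1) j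
  | 0 => by simp [dprod, gsh, mul_assoc]
  | n + 1 => by
    show a * (dprod a n j * gsh a (n + 1) j) * a⁻¹ = (gsh a 1 j)⁻¹ * (dprod a (n + 1) j * gsh a (n + 2) j)
    rw [← mul_assoc ((gsh a 1 j)⁻¹), ← dprod_shift a j n, gsh, gsh, pow_succ' a (n + 1)]
    group

theorem gsh_p (h : Moves p a J) (j : G) : gsh a p j = j := by simp [gsh, h.pow]

theorem gsh_p_succ (h : Moves p a J) (j : G) : gsh a (p + 1) j = gsh a 1 j := by
  simp [gsh, pow_succ, h.pow]

theorem delta_fixed (h : Moves p a J) (j : ↥J) : a * h.delta j * a⁻¹ = h.delta j := by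
  show a * dprod a p j * a⁻¹ = dprod a p j
  rw [dprod_shift a j p]
  show (gsh a 1 j)⁻¹ * (dprod a p j * gsh a (p + 1) j) = dprod a p j
  rw [h.gsh_p_succ, ← (h.dprod_comm_self 1 j.2 p).eq, inv_mul_cancel_left]

theorem dprod_mem (a : G) {J : Subgroup G} {j : G} (hj : j ∈ J) :
    ∀ n : ℕ, dprod a n j ∈ orbitSup (Subgroup.zpowers a) J
  | 0 => one_mem _
  | n + 1 => Subgroup.mul_mem _ (dprod_mem a hj n)
      (le_iSup (fun q : ↥(Subgroup.zpowers a) => cj (q : G) J)
        ⟨a ^ (n + 1), Subgroup.pow_mem _ (Subgroup.mem_zpowers a) _⟩ ⟨j, hj, rfl⟩)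

theorem delta_mem (h : Moves p a J) (j : ↥J) : h.delta j ∈ orbitSup (Subgroup.zpowers a) J :=
  dprod_mem a j.2 p

theorem delta_acts (h : Moves p a J) (j : ↥J) {b : G} (hb : b ∈ J) :
    h.delta j * b * (h.delta j)⁻¹ = j * b * (j : G)⁻¹ := by
  obtain ⟨m, hm⟩ : ∃ m, p = m + 1 := ⟨p - 1, by have := (Fact.out : p.Prime).pos; omega⟩
  have h1 : Commute (gsh a 0 (j * b * (j : G)⁻¹)) (dprod a m j) :=
    h.dprod_comm (Subgroup.mul_mem J (Subgroup.mul_mem J j.2 hb) (Subgroup.inv_mem J j.2)) j.2 m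
      fun i hi1 hi2 => h.pow_ne (by omega) (by omega)
  have h2 : h.delta j = dprod a m j * j := by
    show dprod a p j = _
    conv_lhs => rw [hm]
    show dprod a m j * gsh a (m + 1) j = _
    rw [← hm, h.gsh_p]
  rw [h2]
  have h3 : gsh a 0 ((j : G) * b * (j : G)⁻¹) = j * b * (j : G)⁻¹ := by simp [gsh]
  rw [h3] at h1
  calc dprod a m j * j * b * (dprod a m j * j)⁻¹
      = dprod a m j * (j * b * (j : G)⁻¹) * (dprod a m j)⁻¹ := by group
    _ = j * b * (j : G)⁻¹ := by rw [← h1.eq, mul_inv_cancel_right]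

theorem centralizes_orbit (h : Moves p a J) {z : G} (hza : z * a = a * z)
    (hzJ : z ∈ Subgroup.centralizer (J : Set G)) :
    z ∈ Subgroup.centralizer ((orbitSup (Subgroup.zpowers a) J : Subgroup G) : Set G) := by
  have hle : orbitSup (Subgroup.zpowers a) J ≤ Subgroup.centralizer {z} := iSup_le fun q => by
    rintro _ ⟨b, hb, rfl⟩
    obtain ⟨i, hi⟩ := Subgroup.mem_zpowers_iff.mp q.2
    have hc : Commute z (q : G) := hi ▸ (show Commute z a from hza).zpow_right i
    have h1 : Commute z b := (hzJ b hb).symm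
    exact Subgroup.mem_centralizer_singleton_iff.mpr (((hc.mul_right h1).mul_right hc.inv_right).symm.eq)
  intro x hx
  exact Subgroup.mem_centralizer_singleton_iff.mp (hle hx)

theorem le_range (h : Moves p a J) {L : Subgroup G} (hL : L ≤ orbitSup (Subgroup.zpowers a) J)
    (hLa : L ≤ Subgroup.centralizer ({a} : Set G)) (hperf : ⁅L, L⁆ = L) : L ≤ h.delta.range := by
  have hA : orbitSup (Subgroup.zpowers a) J ≤ Subgroup.centralizer (J : Set G) ⊔ J := iSup_le fun q => by
    rcases components_eq_or_commute (isComponent_map_equiv (MulAut.conj (q : G)) h.comp) h.comp with e | e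
    · exact le_sup_of_le_right e.le
    · exact le_sup_of_le_left (Subgroup.commutator_eq_bot_iff_le_centralizer.mp e)
  have hsplit : ∀ l ∈ L, ∃ j : ↥J, (h.delta j)⁻¹ * l ∈
      Subgroup.centralizer ((orbitSup (Subgroup.zpowers a) J : Subgroup G) : Set G) := by
    intro l hl
    have hJn : J ≤ Subgroup.normalizer ((Subgroup.centralizer (J : Set G) : Subgroup G) : Set G) := fun g hg =>
      mem_normalizer_of_maps fun c hc b hb => by
        have h1 := hc (g⁻¹ * b * g) (Subgroup.mul_mem J (Subgroup.mul_mem J (Subgroup.inv_mem J hg) hb) hg)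
        calc b * (g * c * g⁻¹) = g * (g⁻¹ * b * g * c) * g⁻¹ := by group
          _ = g * (c * (g⁻¹ * b * g)) * g⁻¹ := by rw [h1]
          _ = g * c * g⁻¹ * b := by group
    obtain ⟨c, hc, j, hj, e⟩ := mem_sup_of_le_normalizer hJn (hA (hL hl))
    refine ⟨⟨j, hj⟩, h.centralizes_orbit ?_ fun b hb => ?_⟩
    · have h1 : Commute (h.delta ⟨j, hj⟩) a := by
        have := h.delta_fixed ⟨j, hj⟩
        exact (mul_inv_eq_iff_eq_mul.mp this).symm
      exact (h1.inv_left.mul_left (show Commute l a from Subgroup.mem_centralizer_singleton_iff.mp (hLa hl))).eq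
    · set d := h.delta ⟨j, hj⟩ with hd
      have hj' : j * b * j⁻¹ ∈ J := Subgroup.mul_mem J (Subgroup.mul_mem J hj hb) (Subgroup.inv_mem J hj)
      have h2 : l * b * l⁻¹ = d * b * d⁻¹ := by
        rw [h.delta_acts ⟨j, hj⟩ hb, ← e]
        calc c * j * b * (c * j)⁻¹ = c * (j * b * j⁻¹) * c⁻¹ := by group
          _ = j * b * j⁻¹ := by rw [← hc _ hj', mul_inv_cancel_right]
      calc b * (d⁻¹ * l) = d⁻¹ * (d * b * d⁻¹) * l := by group
        _ = d⁻¹ * (l * b * l⁻¹) * l := by rw [h2]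
        _ = d⁻¹ * l * b := by group
  have hA' : ∀ l ∈ L, ∀ j : ↥J, (h.delta j)⁻¹ * l ∈ orbitSup (Subgroup.zpowers a) J := fun l hl j =>
    Subgroup.mul_mem _ (Subgroup.inv_mem _ (h.delta_mem j)) (hL hl)
  intro x hx
  rw [← hperf] at hx
  refine (Subgroup.commutator_le.mpr ?_) hx
  intro l hl l' hl'
  obtain ⟨j, hz⟩ := hsplit l hl
  obtain ⟨j', hz'⟩ := hsplit l' hl'
  set z := (h.delta j)⁻¹ * l with hzdef
  set z' := (h.delta j')⁻¹ * l' with hz'def
  have h1 : Commute (h.delta j) z := hz _ (h.delta_mem j)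
  have h2 : Commute (h.delta j') z := hz _ (h.delta_mem j')
  have h3 : Commute (h.delta j) z' := hz' _ (h.delta_mem j)
  have h4 : Commute (h.delta j') z' := hz' _ (h.delta_mem j')
  have h5 : Commute z' z := hz _ (hA' l' hl' j')
  refine ⟨⁅j, j'⁆, ?_⟩
  rw [map_commutatorElement, show l = h.delta j * z by rw [hzdef, mul_inv_cancel_left],
    show l' = h.delta j' * z' by rw [hz'def, mul_inv_cancel_left]]
  have e1 : Commute z (h.delta j' * z') := h2.symm.mul_right h5.symm
  have e2 : Commute z' (h.delta j) := h3.symm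
  simp only [commutatorElement_def]
  calc h.delta j * h.delta j' * (h.delta j)⁻¹ * (h.delta j')⁻¹
      = h.delta j * h.delta j' * (z' * (h.delta j)⁻¹) * z'⁻¹ * (h.delta j')⁻¹ := by
        rw [(e2.inv_right).eq]; group
    _ = h.delta j * (h.delta j' * z') * (h.delta j)⁻¹ * (h.delta j' * z')⁻¹ := by group
    _ = h.delta j * ((h.delta j' * z') * z) * z⁻¹ * (h.delta j)⁻¹ * (h.delta j' * z')⁻¹ := by group
    _ = h.delta j * (z * (h.delta j' * z')) * z⁻¹ * (h.delta j)⁻¹ * (h.delta j' * z')⁻¹ := by rw [e1.eq]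
    _ = h.delta j * z * (h.delta j' * z') * (h.delta j * z)⁻¹ * (h.delta j' * z')⁻¹ := by group

theorem vprod_comm (h : Moves p a J) (k : ℕ) {b : G} (hb : b ∈ J) :
    ∀ n : ℕ, Commute (gsh a k b) (vprod a n b)
  | 0 => Commute.one_right _
  | n + 1 => (h.vprod_comm k hb n).mul_right ((h.gsh_comm_self k (n + 1) hb).pow_right _)

theorem dprod_vprod (h : Moves p a J) {b : G} (hb : b ∈ J) (m : ℕ) :
    ∀ n : ℕ, Commute (dprod a n b) (vprod a m b)
  | 0 => Commute.one_left _
  | n + 1 => (h.dprod_vprod hb m n).mul_left (h.vprod_comm (n + 1) hb m)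

theorem vprod_shift (h : Moves p a J) {j : G} (hj : j ∈ J) :
    ∀ n : ℕ, a * vprod a n j * a⁻¹ = vprod a (n + 1) j * (dprod a (n + 1) j)⁻¹
  | 0 => by simp [vprod, dprod, gsh, mul_assoc]
  | n + 1 => by
    show a * (vprod a n j * gsh a (n + 1) j ^ (n + 1)) * a⁻¹ =
      vprod a (n + 1) j * gsh a (n + 2) j ^ (n + 2) * (dprod a (n + 1) j * gsh a (n + 2) j)⁻¹
    have h1 : a * gsh a (n + 1) j ^ (n + 1) * a⁻¹ = gsh a (n + 2) j ^ (n + 1) := by
      rw [← conj_pow, gsh, gsh, pow_succ' a (n + 1)]; group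
    have h2 : Commute (gsh a (n + 2) j ^ (n + 1)) (dprod a (n + 1) j)⁻¹ :=
      ((h.dprod_comm_self (n + 2) hj (n + 1)).pow_left _).inv_right
    rw [show a * (vprod a n j * gsh a (n + 1) j ^ (n + 1)) * a⁻¹ =
      (a * vprod a n j * a⁻¹) * (a * gsh a (n + 1) j ^ (n + 1) * a⁻¹) by group, h.vprod_shift hj n, h1,
      mul_assoc, ← h2.eq, pow_succ (gsh a (n + 2) j) (n + 1)]
    group

/-- `V a V⁻¹ = δ(j) a` for an explicit element `V` of the orbit product. -/
theorem exists_conjugator (h : Moves p a J) (j : ↥J) (hj : (j : G) ^ p = 1) :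
    ∃ V ∈ orbitSup (Subgroup.zpowers a) J, V * a * V⁻¹ = h.delta j * a ∧ Commute (h.delta j) V := by
  set g1 := gsh a 1 (j : G) with hg1
  have hgp : g1 ^ p = 1 := by rw [hg1, gsh, conj_pow, hj, mul_one, mul_inv_cancel]
  have hmem : ∀ n : ℕ, vprod a n (j : G) ∈ orbitSup (Subgroup.zpowers a) J := by
    intro n
    induction n with
    | zero => exact one_mem _
    | succ n ih =>
      exact Subgroup.mul_mem _ ih (Subgroup.pow_mem _
        (le_iSup (fun q : ↥(Subgroup.zpowers a) => cj (q : G) J)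
          ⟨a ^ (n + 1), Subgroup.pow_mem _ (Subgroup.mem_zpowers a) _⟩ ⟨j, j.2, rfl⟩) _)
  refine ⟨vprod a p (j : G), hmem p, ?_, h.dprod_vprod j.2 p p⟩
  set V := vprod a p (j : G) with hV
  have hd : h.delta j = dprod a p (j : G) := rfl
  have h1 : a * V * a⁻¹ = V * (dprod a p (j : G))⁻¹ := by
    rw [hV, h.vprod_shift j.2 p]
    show vprod a p (j : G) * gsh a (p + 1) j ^ (p + 1) * (dprod a p (j : G) * gsh a (p + 1) j)⁻¹ = _
    rw [h.gsh_p_succ, ← hg1, pow_succ, hgp, one_mul, mul_inv_rev, mul_assoc, mul_inv_cancel_left]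
  have h2 : Commute (dprod a p (j : G)) V := h.dprod_vprod j.2 p p
  rw [hd]
  calc V * a * V⁻¹ = V * (a * V * a⁻¹)⁻¹ * a := by group
    _ = V * (dprod a p (j : G) * V⁻¹) * a := by rw [h1, mul_inv_rev, inv_inv]
    _ = dprod a p (j : G) * a := by rw [← mul_assoc, ← h2.eq, mul_inv_cancel_right]

/-- Elements commuting with `a` and centralising the diagonal act on the orbit as powers of `a`. -/
theorem exists_pow_centralizing (h : Moves p a J) (hinj : Function.Injective h.delta) {e : G}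
    (hea : e * a = a * e) (he : ∀ j : ↥J, e * h.delta j = h.delta j * e) :
    ∃ i : ℕ, (a ^ i)⁻¹ * e ∈ Subgroup.centralizer ((orbitSup (Subgroup.zpowers a) J : Subgroup G) : Set G) := by
  obtain ⟨i, hi⟩ : ∃ i : ℕ, cj e J = cj (a ^ i) J := by
    by_contra hne
    push Not at hne
    refine component_not_centralizing h.comp fun b hb c hc => ?_
    set A := orbitSup (Subgroup.zpowers a) J with hA
    have hcomm : cj e A ≤ Subgroup.centralizer (A : Set G) := by
      rw [hA, cj, Subgroup.map_iSup]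
      refine iSup_le fun q => ?_
      rw [Subgroup.le_centralizer_iff]
      refine iSup_le fun r => ?_
      rw [← Subgroup.le_centralizer_iff, ← Subgroup.commutator_eq_bot_iff_le_centralizer]
      refine (components_eq_or_commute (isComponent_map_equiv (MulAut.conj e)
        (isComponent_map_equiv (MulAut.conj (q : G)) h.comp))
        (isComponent_map_equiv (MulAut.conj (r : G)) h.comp)).resolve_left fun e' => ?_
      obtain ⟨i, hi⟩ := exists_pow_of_mem_zpowers
        (Subgroup.mul_mem (Subgroup.zpowers a) (Subgroup.inv_mem _ q.2) r.2)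
      refine hne i ?_
      have hqe : e * (q : G) = q * e := by
        obtain ⟨k, hk⟩ := Subgroup.mem_zpowers_iff.mp q.2
        exact hk ▸ ((show Commute e a from hea).zpow_right k).eq
      have e'' : cj e (cj (q : G) J) = cj (r : G) J := e'
      rw [← cj_mul, hqe, cj_mul] at e''
      rw [hi, cj_mul (q : G)⁻¹ (r : G), ← e'', ← cj_mul, inv_mul_cancel, cj_one]
    have h1 : h.delta ⟨b, hb⟩ ∈ cj e A :=
      ⟨h.delta ⟨b, hb⟩, h.delta_mem _, by
        show e * h.delta ⟨b, hb⟩ * e⁻¹ = h.delta ⟨b, hb⟩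
        rw [he, mul_inv_cancel_right]⟩
    have h2 : h.delta ⟨c, hc⟩ * h.delta ⟨b, hb⟩ = h.delta ⟨b, hb⟩ * h.delta ⟨c, hc⟩ :=
      hcomm h1 _ (h.delta_mem _)
    rw [← map_mul, ← map_mul] at h2
    exact (congrArg Subtype.val (hinj h2)).symm
  refine ⟨i, ?_⟩
  set u := (a ^ i)⁻¹ * e with hu
  have huN : u ∈ Subgroup.normalizer (J : Set G) := mem_normalizer_of_cj (cj_inv_eq hi)
  have hai : ∀ j : ↥J, Commute (a ^ i)⁻¹ (h.delta j) := fun j =>
    ((show Commute a (h.delta j) from mul_inv_eq_iff_eq_mul.mp (h.delta_fixed j)).pow_left i).inv_left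
  have hua : Commute u a := ((Commute.refl a).pow_left i).inv_left.mul_left hea
  refine h.centralizes_orbit hua.eq fun b hb => ?_
  have hub : u * b * u⁻¹ ∈ J := (Subgroup.mem_normalizer_iff.mp huN b).mp hb
  have key : ∀ n : ℕ, dprod a n (u * b * u⁻¹) = u * dprod a n b * u⁻¹ := by
    intro n
    induction n with
    | zero => simp [dprod]
    | succ n ih =>
      show dprod a n (u * b * u⁻¹) * gsh a (n + 1) (u * b * u⁻¹) = u * (dprod a n b * gsh a (n + 1) b) * u⁻¹
      have hc := (hua.pow_right (n + 1))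
      have : gsh a (n + 1) (u * b * u⁻¹) = u * gsh a (n + 1) b * u⁻¹ := by
        rw [gsh, gsh]
        calc a ^ (n + 1) * (u * b * u⁻¹) * (a ^ (n + 1))⁻¹
            = (a ^ (n + 1) * u) * b * (a ^ (n + 1) * u)⁻¹ := by group
          _ = (u * a ^ (n + 1)) * b * (u * a ^ (n + 1))⁻¹ := by rw [hc.eq]
          _ = u * (a ^ (n + 1) * b * (a ^ (n + 1))⁻¹) * u⁻¹ := by group
      rw [ih, this]; group
  have h3 : h.delta ⟨u * b * u⁻¹, hub⟩ = h.delta ⟨b, hb⟩ := by
    show dprod a p (u * b * u⁻¹) = dprod a p b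
    rw [key p]
    have hc : Commute u (dprod a p b) := (hai ⟨b, hb⟩).mul_left (he ⟨b, hb⟩)
    rw [hc.eq, mul_inv_cancel_right]
  have h4 : u * b * u⁻¹ = b := congrArg Subtype.val (hinj h3)
  exact (mul_inv_eq_iff_eq_mul.mp h4).symm

end Moves

/-! ### Bigger `p`-subgroups centralising a component -/

theorem card_sup_grow {P : Subgroup G} (hP : IsPGroup p ↥P) {s : G} {n : ℕ} (hs : s ^ p ^ n = 1)
    (hcomm : ∀ x ∈ P, x * s = s * x) (hne : s ∉ P) :
    IsPGroup p ↥(P ⊔ Subgroup.zpowers s) ∧ p * Nat.card P ≤ Nat.card ↥(P ⊔ Subgroup.zpowers s) := by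
  have hn : Subgroup.zpowers s ≤ Subgroup.normalizer (P : Set G) := by
    rw [Subgroup.zpowers_le]
    exact mem_normalizer_of_maps fun x hx => by rw [← hcomm x hx, mul_inv_cancel_right]; exact hx
  have hsup := hP.to_sup_of_normal_left' (zpowers_isPGroup hs) hn
  refine ⟨hsup, ?_⟩
  have hlt : P < P ⊔ Subgroup.zpowers s :=
    lt_of_le_of_ne le_sup_left fun e => hne (e ▸ Subgroup.mem_sup_right (Subgroup.mem_zpowers s))
  have hlt' : Nat.card P < Nat.card ↥(P ⊔ Subgroup.zpowers s) := by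
    by_contra hle
    exact hlt.ne (Subgroup.eq_of_le_of_card_ge hlt.le (not_lt.mp hle))
  obtain ⟨i, hi⟩ := IsPGroup.iff_card.mp hP
  obtain ⟨k, hk⟩ := IsPGroup.iff_card.mp hsup
  rw [hi, hk] at hlt' ⊢
  have := (Nat.pow_lt_pow_iff_right (Fact.out : p.Prime).one_lt).mp hlt'
  rw [← pow_succ']
  exact Nat.pow_le_pow_right (Fact.out : p.Prime).pos this

/-- A non-central element of `p`-power order of a component. -/
theorem exists_noncentral_pElement (hO : pPrimeCore p G = ⊥) {J : Subgroup G} (hJ : IsComponent J) :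
    ∃ s ∈ J, (∃ n : ℕ, s ^ p ^ n = 1) ∧ s ∉ Subgroup.centralizer (J : Set G) := by
  by_contra hall
  push Not at hall
  refine component_not_centralizing hJ fun b hb c hc => ?_
  have hle : pEl p J ≤ Subgroup.centralizer (J : Set G) := by
    rw [pEl, Subgroup.closure_le]
    rintro x ⟨hx, n, hn⟩
    exact hall x hx ⟨n, hn⟩
  rw [component_pEl_self hO hJ] at hle
  exact (hle hb c hc).symm

/-- The image of a Sylow 2-subgroup in the simple quotient of a component has order at least 4. -/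
theorem two_lt_card_sylow_image {J : Type v} [Group J] [Finite J] (hJ : IsQuasisimple J)
    (hp : ∃ s : J, (∃ n : ℕ, s ^ p ^ n = 1) ∧ s ∉ Subgroup.center J) (S : Sylow p J) :
    2 < Nat.card ((S : Subgroup J).map (QuotientGroup.mk' (Subgroup.center J))) := by
  set f := QuotientGroup.mk' (Subgroup.center J) with hf
  have hsurj : Function.Surjective f := QuotientGroup.mk'_surjective _
  by_contra hle
  rw [not_lt] at hle
  set S' := S.mapSurjective hsurj with hS'
  have hS'c : (S' : Subgroup (J ⧸ Subgroup.center J)) = (S : Subgroup J).map f := Sylow.coe_mapSurjective hsurj S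
  have hcard : Nat.card (S' : Subgroup (J ⧸ Subgroup.center J)) ≤ 2 := by rw [hS'c]; exact hle
  have hnc : Subgroup.normalizer ((S' : Subgroup (J ⧸ Subgroup.center J)) : Set (J ⧸ Subgroup.center J)) ≤
      Subgroup.centralizer ((S' : Subgroup (J ⧸ Subgroup.center J)) : Set (J ⧸ Subgroup.center J)) := by
    intro g hg x hx
    have hx' : g * x * g⁻¹ ∈ (S' : Subgroup (J ⧸ Subgroup.center J)) := (Subgroup.mem_normalizer_iff.mp hg x).mp hx
    by_cases hx1 : x = 1
    · simp [hx1]
    have he : g * x * g⁻¹ = x := by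
      by_contra hne
      have h3 : 3 ≤ Nat.card (S' : Subgroup (J ⧸ Subgroup.center J)) := by
        classical
        haveI := Fintype.ofFinite ↥(S' : Subgroup (J ⧸ Subgroup.center J))
        rw [Nat.card_eq_fintype_card]
        have hsub : ({1, ⟨x, hx⟩, ⟨g * x * g⁻¹, hx'⟩} : Finset ↥(S' : Subgroup (J ⧸ Subgroup.center J))).card = 3 := by
          rw [Finset.card_insert_of_notMem, Finset.card_insert_of_notMem, Finset.card_singleton]
          · simp only [Finset.mem_singleton, Subtype.ext_iff]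
            exact fun e => hne e.symm
          · simp only [Finset.mem_insert, Finset.mem_singleton, Subtype.ext_iff, OneMemClass.coe_one]
            rintro (e | e)
            · exact hx1 e.symm
            · exact hx1 (conj_eq_one_iff.mp e.symm)
        exact hsub ▸ Finset.card_le_univ _
      omega
    rw [mul_inv_eq_iff_eq_mul] at he
    exact he.symm
  obtain ⟨P, N, hN, hcomp⟩ := hasNormalPComplement_of_normalizer_le_centralizer S' hnc
  have hPc : Nat.card (P : Subgroup (J ⧸ Subgroup.center J)) = Nat.card (S' : Subgroup (J ⧸ Subgroup.center J)) := by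
    rw [P.card_eq_multiplicity, S'.card_eq_multiplicity]
  have hmul := hcomp.card_mul
  haveI := hJ.2
  rcases hN.eq_bot_or_eq_top with h | h
  · refine isQuasisimple_not_isSolvable hJ ?_
    have hQ : Group.IsSolvable (J ⧸ Subgroup.center J) := by
      rw [h, Subgroup.card_bot, one_mul, hPc] at hmul
      refine Group.isSolvable_of_comm fun b c => ?_
      by_contra hbc
      have h3 : 3 ≤ Nat.card (J ⧸ Subgroup.center J) := by
        classical
        haveI := Fintype.ofFinite (J ⧸ Subgroup.center J)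
        rw [Nat.card_eq_fintype_card]
        have hsub : ({1, b, c} : Finset (J ⧸ Subgroup.center J)).card = 3 := by
          rw [Finset.card_insert_of_notMem, Finset.card_insert_of_notMem, Finset.card_singleton]
          · simp only [Finset.mem_singleton]
            exact fun e => hbc (by rw [e])
          · simp only [Finset.mem_insert, Finset.mem_singleton]
            rintro (e | e) <;> exact hbc (by rw [← e]; simp)
        exact hsub ▸ Finset.card_le_univ _
      omega
    exact (Group.isSolvable_iff_subgroup_quotient (Subgroup.center J)).mpr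
      ⟨Group.isSolvable_of_comm fun b c => Subtype.ext (Subgroup.mem_center_iff.mp c.2 b), hQ⟩
  · obtain ⟨s, ⟨n, hn⟩, hs⟩ := hp
    refine hs ?_
    rw [h, Subgroup.card_top, Nat.mul_eq_left Nat.card_pos.ne', hPc] at hmul
    have hbot : (S' : Subgroup (J ⧸ Subgroup.center J)) = ⊥ := Subgroup.card_eq_one.mp hmul
    obtain ⟨S₁, hS₁⟩ := (zpowers_isPGroup (x := f s) (n := n) (by rw [← map_pow, hn, map_one])).exists_le_sylow
    have h1 : Nat.card (S₁ : Subgroup (J ⧸ Subgroup.center J)) = 1 := by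
      rw [S₁.card_eq_multiplicity, ← S'.card_eq_multiplicity]; exact hmul
    have h2 : f s ∈ (⊥ : Subgroup (J ⧸ Subgroup.center J)) :=
      Subgroup.card_eq_one.mp h1 ▸ hS₁ (Subgroup.mem_zpowers _)
    exact (QuotientGroup.eq_one_iff s).mp (Subgroup.mem_bot.mp h2)

theorem exists_bigger_centralizer (hO : pPrimeCore p G = ⊥) {a : G} {J : Subgroup G} (h : Moves p a J)
    (P : Subgroup G) (hP : IsPGroup p ↥P)
    (hPA : P ≤ Subgroup.centralizer ((orbitSup (Subgroup.zpowers a) J : Subgroup G) : Set G)) :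
    ∃ P' : Subgroup G, IsPGroup p ↥P' ∧ P' ≤ Subgroup.centralizer (J : Set G) ∧
      p ^ 2 * Nat.card P ≤ Nat.card P' := by
  have hJ2c : IsComponent (cj a J) := isComponent_map_equiv (MulAut.conj a) h.comp
  have hcomm2 : cj a J ≤ Subgroup.centralizer (J : Set G) := Subgroup.commutator_eq_bot_iff_le_centralizer.mp
    ((components_eq_or_commute hJ2c h.comp).resolve_left h.ne)
  have hJA : ∀ i : ℕ, cj (a ^ i) J ≤ orbitSup (Subgroup.zpowers a) J := fun i =>
    le_iSup (fun q : ↥(Subgroup.zpowers a) => cj (q : G) J) ⟨a ^ i, Subgroup.pow_mem _ (Subgroup.mem_zpowers a) _⟩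
  have hJ2A : cj a J ≤ orbitSup (Subgroup.zpowers a) J := by
    have := hJA 1
    rwa [pow_one] at this
  have hPJ : P ≤ Subgroup.centralizer (J : Set G) :=
    hPA.trans (Subgroup.centralizer_le (self_le_orbitSup _ J))
  have hPJ2 : P ≤ Subgroup.centralizer ((cj a J : Subgroup G) : Set G) :=
    hPA.trans (Subgroup.centralizer_le hJ2A)
  by_cases hp2 : p = 2
  · -- two elements from one component
    set J2 := cj a J with hJ2
    obtain ⟨S⟩ : Nonempty (Sylow p ↥J2) := inferInstance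
    set f := QuotientGroup.mk' (Subgroup.center ↥J2) with hf
    have h2lt : 2 < Nat.card ((S : Subgroup ↥J2).map f) := by
      obtain ⟨s, hs, ⟨n, hn⟩, hsc⟩ := exists_noncentral_pElement (p := p) hO hJ2c
      refine two_lt_card_sylow_image (p := p) hJ2c.2 ⟨⟨s, hs⟩, ⟨n, Subtype.ext (by push_cast; exact hn)⟩, ?_⟩ S
      exact fun hz => hsc fun b hb => congrArg Subtype.val (Subgroup.mem_center_iff.mp hz ⟨b, hb⟩)
    have hSp : IsPGroup p ↥((S : Subgroup ↥J2).map f) := S.2.map f
    obtain ⟨t, ht⟩ : ∃ t : ↥((S : Subgroup ↥J2).map f), orderOf t = p := by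
      obtain ⟨k, hk⟩ := IsPGroup.iff_card.mp hSp
      refine exists_prime_orderOf_dvd_card' p ?_
      rcases k with _ | k
      · rw [hk, pow_zero] at h2lt; omega
      · exact hk ▸ dvd_pow_self p k.succ_ne_zero
    obtain ⟨s, hs, hst⟩ := t.2
    have hsne : f s ≠ 1 := fun e => by
      have : t = 1 := Subtype.ext (hst.symm.trans e)
      rw [this, orderOf_one] at ht
      exact (Fact.out : p.Prime).one_lt.ne ht
    obtain ⟨n, hn⟩ := S.2 ⟨s, hs⟩
    have hn' : (s : G) ^ p ^ n = 1 := congrArg (fun z : (S : Subgroup ↥J2) => ((z : ↥J2) : G)) hn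
    have hsP : (s : G) ∉ P := fun hsP => hsne ((QuotientGroup.eq_one_iff s).mpr
      (Subgroup.mem_center_iff.mpr fun b => Subtype.ext (hPJ2 hsP b b.2)))
    obtain ⟨hP1, hc1⟩ := card_sup_grow hP hn' (fun x hx => (hPJ2 hx s s.2).symm) hsP
    set P1 := P ⊔ Subgroup.zpowers (s : G) with hP1def
    have hP1J : P1 ≤ Subgroup.centralizer (J : Set G) := sup_le hPJ (Subgroup.zpowers_le.mpr (hcomm2 s.2))
    set T := (S : Subgroup ↥J2).map J2.subtype with hT
    have hTn : Subgroup.zpowers (s : G) ≤ T := Subgroup.zpowers_le.mpr ⟨s, hs, rfl⟩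
    have hTJ2 : T ≤ J2 := Subgroup.map_subtype_le _
    have hPT : T ≤ Subgroup.normalizer (P : Set G) := fun w hw => mem_normalizer_of_maps fun x hx => by
      rw [hPJ2 hx w (hTJ2 hw), mul_inv_cancel_right]; exact hx
    have hPTp : IsPGroup p ↥(P ⊔ T) := hP.to_sup_of_normal_left' (S.2.map _) hPT
    refine ⟨P ⊔ T, hPTp, sup_le hPJ (hTJ2.trans hcomm2), ?_⟩
    have hlt : P1 < P ⊔ T := by
      refine lt_of_le_of_ne (sup_le_sup_left hTn P) fun e => ?_
      have hsub : (S : Subgroup ↥J2).map f ≤ Subgroup.zpowers (f s) := by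
        rintro _ ⟨w, hw, rfl⟩
        have hwP : (w : G) ∈ P1 := e ▸ Subgroup.mem_sup_right (⟨w, hw, rfl⟩ : (w : G) ∈ T)
        obtain ⟨x, hx, y, hy, exy⟩ := mem_sup_of_le_normalizer
          (show Subgroup.zpowers (s : G) ≤ Subgroup.normalizer (P : Set G) from hTn.trans hPT) hwP
        obtain ⟨i, rfl⟩ := Subgroup.mem_zpowers_iff.mp hy
        have hxJ2 : x ∈ J2 := by
          have : x = (w : G) * ((s : G) ^ i)⁻¹ := by rw [← exy, mul_inv_cancel_right]
          rw [this]
          exact Subgroup.mul_mem J2 w.2 (Subgroup.inv_mem _ (Subgroup.zpow_mem _ s.2 i))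
        have hxc : (⟨x, hxJ2⟩ : ↥J2) ∈ Subgroup.center ↥J2 :=
          Subgroup.mem_center_iff.mpr fun b => Subtype.ext (hPJ2 hx b b.2)
        have hw' : w = ⟨x, hxJ2⟩ * s ^ i := Subtype.ext (by push_cast; exact exy.symm)
        rw [hw', map_mul, map_zpow, show f ⟨x, hxJ2⟩ = 1 from (QuotientGroup.eq_one_iff _).mpr hxc, one_mul]
        exact Subgroup.zpow_mem _ (Subgroup.mem_zpowers _) i
      have h4 := Subgroup.card_le_of_le hsub
      rw [Nat.card_zpowers] at h4
      have h5 : orderOf (f s) = p := by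
        rw [← ht, ← Subgroup.orderOf_coe, ← hst]
      omega
    have hlt' : Nat.card P1 < Nat.card ↥(P ⊔ T) := by
      by_contra hle
      exact hlt.ne (Subgroup.eq_of_le_of_card_ge hlt.le (not_lt.mp hle))
    obtain ⟨i, hi⟩ := IsPGroup.iff_card.mp hP1
    obtain ⟨k, hk⟩ := IsPGroup.iff_card.mp hPTp
    rw [hi, hk] at hlt'
    have hik := (Nat.pow_lt_pow_iff_right (Fact.out : p.Prime).one_lt).mp hlt'
    calc p ^ 2 * Nat.card P = p * (p * Nat.card P) := by ring
      _ ≤ p * p ^ i := Nat.mul_le_mul_left p (hi ▸ hc1)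
      _ = p ^ (i + 1) := (pow_succ' p i).symm
      _ ≤ p ^ k := Nat.pow_le_pow_right (Fact.out : p.Prime).pos hik
      _ = Nat.card ↥(P ⊔ T) := hk.symm
  · -- elements of two components
    have hp3 : 2 < p := lt_of_le_of_ne (Fact.out : p.Prime).two_le (Ne.symm hp2)
    set J3 := cj (a ^ 2) J with hJ3
    have hJ3c : IsComponent J3 := isComponent_map_equiv (MulAut.conj (a ^ 2)) h.comp
    have hcomm3 : J3 ≤ Subgroup.centralizer (J : Set G) := Subgroup.commutator_eq_bot_iff_le_centralizer.mp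
      ((components_eq_or_commute hJ3c h.comp).resolve_left fun e => by
        have := h.pow_eq_of_cj_eq (i := 2) (k := 0) (by rw [pow_zero, cj_one]; exact e)
        exact h.pow_ne (i := 0) (k := 2) (by omega) (by omega) this.symm)
    have hcomm23 : cj a J ≤ Subgroup.centralizer (J3 : Set G) := Subgroup.commutator_eq_bot_iff_le_centralizer.mp
      ((components_eq_or_commute hJ2c hJ3c).resolve_left fun e => by
        have := h.pow_eq_of_cj_eq (i := 1) (k := 2) (by rw [pow_one]; exact e)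
        exact h.pow_ne (i := 1) (k := 2) (by omega) (by omega) this)
    have hPJ3 : P ≤ Subgroup.centralizer (J3 : Set G) := hPA.trans (Subgroup.centralizer_le (hJA 2))
    obtain ⟨s, hs, ⟨n, hn⟩, hsc⟩ := exists_noncentral_pElement (p := p) hO hJ2c
    obtain ⟨t, ht, ⟨m, hm⟩, htc⟩ := exists_noncentral_pElement (p := p) hO hJ3c
    obtain ⟨hP1, hc1⟩ := card_sup_grow hP hn (fun x hx => (hPJ2 hx s hs).symm) (fun hsP => hsc (hPJ2 hsP))
    set P1 := P ⊔ Subgroup.zpowers s with hP1def
    have hP13 : P1 ≤ Subgroup.centralizer (J3 : Set G) := sup_le hPJ3 (Subgroup.zpowers_le.mpr (hcomm23 hs))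
    obtain ⟨hP2, hc2⟩ := card_sup_grow hP1 hm (fun x hx => (hP13 hx t ht).symm) (fun htP => htc (hP13 htP))
    refine ⟨_, hP2, sup_le (sup_le hPJ (Subgroup.zpowers_le.mpr (hcomm2 hs)))
      (Subgroup.zpowers_le.mpr (hcomm3 ht)), ?_⟩
    calc p ^ 2 * Nat.card P = p * (p * Nat.card P) := by ring
      _ ≤ p * Nat.card P1 := Nat.mul_le_mul_left p hc1
      _ ≤ _ := hc2

end CfsgLib.Comp
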