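import Cfsg.Agent.Lib.Comp.BalanceTwo
import Cfsg.Agent.Lib.Comp.CompMove
import Cfsg.Prelude.Def_Balance

/-!
Components of centralizers of involutions inside the layer, and standard subgroups.
-/

set_option autoImplicit false
set_option linter.unusedSectionVars false

namespace CfsgLib.Comp

open Cfsg Subgroup
open scoped commutatorElement

universe u v
variable {G : Type u} [Group G] [Finite G]

/-- A perfect central extension of a quasisimple group is quasisimple. -/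
theorem isQuasisimple_of_central_extension {J : Type u} [Group J] [Group.IsPerfect J] {Q : Type v} [Group Q]
    (f : J →* Q) (hf : Function.Surjective f) (hker : f.ker ≤ Subgroup.center J) (hQ : IsQuasisimple Q) :
    IsQuasisimple J := by
  refine ⟨inferInstance, ?_⟩
  have hpre : (Subgroup.center Q).comap f = Subgroup.center J := by
    refine le_antisymm (fun z hz => Subgroup.mem_center_iff.mpr fun x => ?_) fun z hz =>
      Subgroup.mem_center_iff.mpr fun q => ?_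
    · have hmem : ∀ y : J, y * z * y⁻¹ * z⁻¹ ∈ Subgroup.center J := fun y => hker (by
        rw [MonoidHom.mem_ker, map_mul, map_mul, map_mul, map_inv, map_inv, Subgroup.mem_center_iff.mp hz (f y),
          mul_inv_cancel_right, mul_inv_cancel])
      let g : J →* J :=
        { toFun := fun y => y * z * y⁻¹ * z⁻¹
          map_one' := by group
          map_mul' := fun a b => by
            have h1 := Subgroup.mem_center_iff.mp (hmem b) a
            calc a * b * z * (a * b)⁻¹ * z⁻¹ = a * (b * z * b⁻¹ * z⁻¹) * (z * a⁻¹ * z⁻¹) := by group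
              _ = (b * z * b⁻¹ * z⁻¹) * a * (z * a⁻¹ * z⁻¹) := by rw [h1]
              _ = (b * z * b⁻¹ * z⁻¹) * (a * z * a⁻¹ * z⁻¹) := by group
              _ = (a * z * a⁻¹ * z⁻¹) * (b * z * b⁻¹ * z⁻¹) := by rw [Subgroup.mem_center_iff.mp (hmem a)] }
      have hg : commutator J ≤ g.ker := by
        rw [_root_.commutator_def, Subgroup.commutator_le]
        intro a _ b _
        rw [MonoidHom.mem_ker, map_commutatorElement, commutatorElement_eq_one_iff_mul_comm]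
        exact Subgroup.mem_center_iff.mp (hmem b) (g a)
      have h1 : x * z * x⁻¹ * z⁻¹ = 1 := MonoidHom.mem_ker.mp (hg Group.IsPerfect.mem_commutator)
      exact mul_inv_eq_iff_eq_mul.mp (mul_inv_eq_one.mp h1)
    · obtain ⟨y, rfl⟩ := hf q
      rw [← map_mul, ← map_mul, Subgroup.mem_center_iff.mp hz y]
  let g := (QuotientGroup.mk' (Subgroup.center Q)).comp f
  have hgk : g.ker = Subgroup.center J := by rw [← MonoidHom.comap_ker, QuotientGroup.ker_mk', hpre]
  haveI := hQ.2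
  exact ((QuotientGroup.quotientMulEquivOfEq hgk).symm.trans (QuotientGroup.quotientKerEquivOfSurjective g
    ((QuotientGroup.mk'_surjective _).comp hf))).isSimpleGroup

/-- With trivial commutators with `O_{p'}`, `p`-components are components. -/
theorem isComponent_of_pcomp_centralizes {p : ℕ} [Fact p.Prime] {J : Subgroup G} (hJ : IsPComponent p J)
    (h : ⁅J, pPrimeCore p G⁆ = ⊥) : IsComponent J := by
  refine ⟨hJ.1, ?_⟩
  haveI : Group.IsPerfect ↥J := Subgroup.isPerfect_iff.mpr (pcomp_perfect hJ)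
  refine isQuasisimple_of_central_extension ((bar p G).subgroupMap J) ((bar p G).subgroupMap_surjective J) ?_
    hJ.2.1.2
  intro x hx
  have h1 : (x : G) ∈ pPrimeCore p G :=
    (QuotientGroup.eq_one_iff _).mp (congrArg Subtype.val (MonoidHom.mem_ker.mp hx))
  exact Subgroup.mem_center_iff.mpr fun y => Subtype.ext (comm_of_commutator_eq_bot h y.2 h1)

/-- A component of even order has all its `p`-elements, and generates with them. -/
theorem pEl_two_self_of_even {J : Subgroup G} (hJ : IsQuasisimple ↥J) (he : Even (Nat.card J)) : pEl 2 J = J := by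
  haveI : Fact (Nat.Prime 2) := ⟨Nat.prime_two⟩
  haveI : Group.IsPerfect ↥J := hJ.1
  refine le_antisymm (pEl_le J) ?_
  haveI : ((pEl 2 J).subgroupOf J).Normal := (Subgroup.normal_subgroupOf_iff_le_normalizer (pEl_le J)).mpr
    (Subgroup.le_normalizer.trans (normalizer_le_normalizer_pEl J))
  rcases quasisimple_normal_le_center_or_eq_top hJ ((pEl 2 J).subgroupOf J) with h | h
  swap
  · exact Subgroup.subgroupOf_eq_top.mp h
  exfalso
  obtain ⟨T⟩ : Nonempty (Sylow 2 ↥J) := inferInstance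
  refine Nat.not_odd_iff_even.mpr he (CfsgLib.CentSylow.odd_of_perfect_of_central T fun g _ z hz => ?_)
  refine (Subgroup.mem_center_iff.mp (h ?_) g).symm
  obtain ⟨k, hk⟩ := T.2 ⟨z, hz⟩
  exact Subgroup.subset_closure ⟨z.2, k, congrArg (fun w : (T : Subgroup ↥J) => ((w : ↥J) : G)) hk⟩

/-- A component of `C(a)` inside the layer lies in a component or is the diagonal of two swapped ones. -/
theorem component_centralizer_cases {a : G} (ha : orderOf a = 2) {K : Subgroup G}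
    (hKC : K ≤ Subgroup.centralizer ({a} : Set G))
    (hK : IsComponent (K.subgroupOf (Subgroup.centralizer ({a} : Set G)))) (hKE : K ≤ layer G) :
    (∃ D : Subgroup G, IsComponent D ∧ K ≤ D) ∨
      ∃ D : Subgroup G, IsComponent D ∧ cj a D ≠ D ∧
        ∃ δ : ↥D →* G, (∀ d : ↥D, δ d = (d : G) * (a * d * a⁻¹)) ∧ K = δ.range := by
  set C := Subgroup.centralizer ({a} : Set G) with hC
  set CE := layer G ⊓ C with hCE
  have hKCE : K ≤ CE := le_inf hKE hKC
  have hKq : IsQuasisimple ↥K := isQuasisimple_of_equiv (Subgroup.subgroupOfEquivOfLe hKC) hK.2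
  have hKsn : (K.subgroupOf CE).IsSubnormal := hK.1.comap (Subgroup.inclusion (inf_le_right : CE ≤ C))
  have hKcomp : IsComponent (K.subgroupOf CE) :=
    ⟨hKsn, isQuasisimple_of_equiv (Subgroup.subgroupOfEquivOfLe hKCE).symm hKq⟩
  have hKperf : ⁅K, K⁆ = K := Subgroup.isPerfect_iff.mp hKq.1
  have hnot : ∀ {H : Subgroup G}, (∀ x ∈ K, ∀ y ∈ H, x * y = y * x) → ¬ K ≤ H := fun {H} h hle =>
    isQuasisimple_not_isSolvable hKq (Group.isSolvable_of_comm fun x y => Subtype.ext (h x x.2 y (hle y.2)))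
  obtain ⟨D, hD, hKD⟩ : ∃ D, IsComponent D ∧ ⁅K, D⁆ ≠ ⊥ := by
    by_contra h
    push Not at h
    refine hnot (H := layer G) (fun x hx y hy => ?_) hKE
    exact (Subgroup.le_centralizer_iff.mp (sSup_le fun D hD =>
      Subgroup.le_centralizer_iff.mp (Subgroup.commutator_eq_bot_iff_le_centralizer.mp (h D hD)) :
      layer G ≤ Subgroup.centralizer (K : Set G)) hx y hy).symm
  have hEN : ∀ {J : Subgroup G}, IsComponent J → layer G ≤ Subgroup.normalizer (J : Set G) := fun {J} hJ =>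
    sSup_le fun L hL => by
      rcases components_eq_or_commute hL hJ with rfl | h
      · exact Subgroup.le_normalizer
      · exact (Subgroup.commutator_eq_bot_iff_le_centralizer.mp h).trans (centralizer_le_normalizer' J)
  have hdich : ∀ N : Subgroup G, N ≤ CE → CE ≤ Subgroup.normalizer (N : Set G) → K ≤ N ∨ ⁅K, N⁆ = ⊥ := by
    intro N hN hn
    haveI := (Subgroup.normal_subgroupOf_iff_le_normalizer hN).mpr hn
    rcases component_le_or_commutator_eq_bot hKcomp (N.subgroupOf CE) with h | h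
    · left
      have h1 := Subgroup.map_mono (f := CE.subtype) h
      rwa [Subgroup.map_subgroupOf_eq_of_le hKCE, Subgroup.map_subgroupOf_eq_of_le hN] at h1
    · exact Or.inr (commutator_subgroupOf_eq_bot hKCE hN h)
  have haa : a * a = 1 := by rw [← pow_two, ← ha, pow_orderOf_eq_one]
  by_cases hfix : cj a D = D
  · -- `D` is normalised by `a`
    have haD : a ∈ Subgroup.normalizer (D : Set G) := mem_normalizer_of_cj hfix
    rcases hdich (D ⊓ C) (le_inf (inf_le_left.trans (le_layer hD)) inf_le_right) (fun g hg =>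
      mem_normalizer_of_maps fun x hx => Subgroup.mem_inf.mpr
        ⟨(Subgroup.mem_normalizer_iff.mp (hEN hD (Subgroup.mem_inf.mp hg).1) x).mp (Subgroup.mem_inf.mp hx).1,
          mul_mem (mul_mem (Subgroup.mem_inf.mp hg).2 (Subgroup.mem_inf.mp hx).2)
            (inv_mem (Subgroup.mem_inf.mp hg).2)⟩) with h | h
    · exact Or.inl ⟨D, hD, h.trans inf_le_left⟩
    exfalso
    refine hKD ?_
    set CD := Subgroup.centralizer (D : Set G) with hCD
    have hCDn : ∀ g ∈ Subgroup.normalizer (D : Set G), ∀ c ∈ CD, g * c * g⁻¹ ∈ CD := by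
      intro g hg c hc y hy
      have h1 : g⁻¹ * y * g * c = c * (g⁻¹ * y * g) := hc _ ((Subgroup.mem_normalizer_iff''.mp hg y).mp hy)
      calc y * (g * c * g⁻¹) = g * (g⁻¹ * y * g * c) * g⁻¹ := by group
        _ = g * (c * (g⁻¹ * y * g)) * g⁻¹ := by rw [h1]
        _ = g * c * g⁻¹ * y := by group
    -- decompose along `E = D ⊔ C(D)`
    have hdec : ∀ k ∈ K, ∃ u ∈ D, ∃ c ∈ CD, k = u * c ∧ u⁻¹ * (a * u * a⁻¹) ∈ D ⊓ CD := by
      intro k hk
      have hE : layer G ≤ D ⊔ CD := sSup_le fun L hL => by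
        rcases components_eq_or_commute hL hD with rfl | h'
        · exact le_sup_left
        · exact (Subgroup.commutator_eq_bot_iff_le_centralizer.mp h').trans le_sup_right
      have hn : CD ≤ Subgroup.normalizer (D : Set G) := centralizer_le_normalizer' D
      obtain ⟨u, hu, c, hc, e⟩ := CfsgLib.mem_sup_of_le_normalizer hn (hE (hKE hk))
      refine ⟨u, hu, c, hc, e.symm, Subgroup.mem_inf.mpr
        ⟨mul_mem (inv_mem hu) ((Subgroup.mem_normalizer_iff.mp haD u).mp hu), ?_⟩⟩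
      have h1 : a * (u * c) * a⁻¹ = u * c := by
        rw [e, ← Subgroup.mem_centralizer_singleton_iff.mp (hKC hk), mul_inv_cancel_right]
      rw [show u⁻¹ * (a * u * a⁻¹) = u⁻¹ * (a * (u * c) * a⁻¹) * (a * c * a⁻¹)⁻¹ by group, h1,
        inv_mul_cancel_left]
      exact mul_mem hc (inv_mem (hCDn a haD c hc))
    have hcen : ∀ {z y : G}, z ∈ D ⊓ CD → y ∈ D → Commute z y := fun {z y} hz hy =>
      ((Subgroup.mem_inf.mp hz).2 y hy).symm
    have hKle : K ≤ (D ⊓ C) ⊔ CD := by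
      rw [← hKperf, Subgroup.commutator_le]
      intro k₁ hk₁ k₂ hk₂
      obtain ⟨u₁, hu₁, c₁, hc₁, rfl, hz₁⟩ := hdec k₁ hk₁
      obtain ⟨u₂, hu₂, c₂, hc₂, rfl, hz₂⟩ := hdec k₂ hk₂
      have h12 : Commute c₁ u₂ := (hc₁ u₂ hu₂).symm
      have h21 : Commute c₂ u₁ := (hc₂ u₁ hu₁).symm
      have e : ⁅u₁ * c₁, u₂ * c₂⁆ = ⁅u₁, u₂⁆ * ⁅c₁, c₂⁆ := by
        rw [commutatorElement_def, commutatorElement_def, commutatorElement_def]
        calc u₁ * c₁ * (u₂ * c₂) * (u₁ * c₁)⁻¹ * (u₂ * c₂)⁻¹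
            = u₁ * (c₁ * u₂) * c₂ * c₁⁻¹ * u₁⁻¹ * (c₂⁻¹ * u₂⁻¹) := by group
          _ = u₁ * (u₂ * c₁) * c₂ * c₁⁻¹ * u₁⁻¹ * (c₂⁻¹ * u₂⁻¹) := by rw [h12.eq]
          _ = u₁ * u₂ * (c₁ * c₂ * c₁⁻¹) * u₁⁻¹ * c₂⁻¹ * u₂⁻¹ := by group
          _ = u₁ * u₂ * (u₁⁻¹ * (c₁ * c₂ * c₁⁻¹)) * c₂⁻¹ * u₂⁻¹ := by
              have hq : Commute (c₁ * c₂ * c₁⁻¹) u₁⁻¹ := Commute.inv_right
                (((mul_mem (mul_mem hc₁ hc₂) (inv_mem hc₁) : _ ∈ CD) u₁ hu₁).symm)
              rw [mul_assoc (u₁ * u₂), hq.eq]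
          _ = u₁ * u₂ * u₁⁻¹ * ((c₁ * c₂ * c₁⁻¹ * c₂⁻¹) * u₂⁻¹) := by group
          _ = u₁ * u₂ * u₁⁻¹ * (u₂⁻¹ * (c₁ * c₂ * c₁⁻¹ * c₂⁻¹)) := by
              rw [(show Commute (c₁ * c₂ * c₁⁻¹ * c₂⁻¹) u₂ from
                ((mul_mem (mul_mem (mul_mem hc₁ hc₂) (inv_mem hc₁)) (inv_mem hc₂) : _ ∈ CD) u₂ hu₂).symm).inv_right.eq]
          _ = _ := by group
      rw [e]
      refine Subgroup.mul_mem_sup (Subgroup.mem_inf.mpr ⟨?_, Subgroup.mem_centralizer_singleton_iff.mpr ?_⟩) ?_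
      · rw [commutatorElement_def]
        exact mul_mem (mul_mem (mul_mem hu₁ hu₂) (inv_mem hu₁)) (inv_mem hu₂)
      · set z₁ := u₁⁻¹ * (a * u₁ * a⁻¹) with hz₁def
        set z₂ := u₂⁻¹ * (a * u₂ * a⁻¹) with hz₂def
        have ha₁ : a * u₁ * a⁻¹ = z₁ * u₁ := by rw [(hcen hz₁ hu₁).eq, hz₁def, mul_inv_cancel_left]
        have ha₂ : a * u₂ * a⁻¹ = z₂ * u₂ := by rw [(hcen hz₂ hu₂).eq, hz₂def, mul_inv_cancel_left]
        have h1 : a * ⁅u₁, u₂⁆ * a⁻¹ = ⁅u₁, u₂⁆ := by
          calc a * ⁅u₁, u₂⁆ * a⁻¹ = ⁅a * u₁ * a⁻¹, a * u₂ * a⁻¹⁆ := by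
                rw [commutatorElement_def, commutatorElement_def]; group
            _ = ⁅z₁ * u₁, z₂ * u₂⁆ := by rw [ha₁, ha₂]
            _ = ⁅u₁, u₂⁆ := by
                have c1 : Commute z₁ u₂ := hcen hz₁ hu₂
                have c2 : Commute z₂ u₁ := hcen hz₂ hu₁
                have c3 : Commute z₁ z₂ := hcen hz₁ (Subgroup.mem_inf.mp hz₂).1
                rw [commutatorElement_def, commutatorElement_def]
                show z₁ * u₁ * (z₂ * u₂) * (z₁ * u₁)⁻¹ * (z₂ * u₂)⁻¹ = _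
                rw [show (z₁ * u₁)⁻¹ = u₁⁻¹ * z₁⁻¹ from mul_inv_rev _ _,
                  show (z₂ * u₂)⁻¹ = u₂⁻¹ * z₂⁻¹ from mul_inv_rev _ _]
                calc z₁ * u₁ * (z₂ * u₂) * (u₁⁻¹ * z₁⁻¹) * (u₂⁻¹ * z₂⁻¹)
                    = z₁ * (u₁ * z₂) * u₂ * u₁⁻¹ * (z₁⁻¹ * u₂⁻¹) * z₂⁻¹ := by group
                  _ = z₁ * (z₂ * u₁) * u₂ * u₁⁻¹ * (u₂⁻¹ * z₁⁻¹) * z₂⁻¹ := by
                      rw [c2.eq, c1.inv_inv.eq]
                  _ = z₁ * z₂ * ((u₁ * u₂ * u₁⁻¹ * u₂⁻¹) * (z₁⁻¹ * z₂⁻¹)) := by group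
                  _ = z₁ * z₂ * ((z₁⁻¹ * z₂⁻¹) * (u₁ * u₂ * u₁⁻¹ * u₂⁻¹)) := by
                      have hm : u₁ * u₂ * u₁⁻¹ * u₂⁻¹ ∈ D :=
                        mul_mem (mul_mem (mul_mem hu₁ hu₂) (inv_mem hu₁)) (inv_mem hu₂)
                      rw [((hcen hz₁ hm).inv_left.mul_left (hcen hz₂ hm).inv_left).eq]
                  _ = u₁ * u₂ * u₁⁻¹ * u₂⁻¹ := by
                      rw [← mul_assoc, c3.eq]
                      group
        exact (mul_inv_eq_iff_eq_mul.mp h1).symm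
      · rw [commutatorElement_def]
        exact mul_mem (mul_mem (mul_mem hc₁ hc₂) (inv_mem hc₁)) (inv_mem hc₂)
    -- the `D`-parts commute with each other
    rw [Subgroup.commutator_eq_bot_iff_le_centralizer, ← hKperf, Subgroup.commutator_le]
    intro k₁ hk₁ k₂ hk₂
    have hn : CD ≤ Subgroup.normalizer ((D ⊓ C : Subgroup G) : Set G) :=
      (Subgroup.le_centralizer_iff.mp (inf_le_left.trans (Subgroup.le_centralizer_iff.mp le_rfl) :
        D ⊓ C ≤ Subgroup.centralizer (CD : Set G))).trans (centralizer_le_normalizer' _)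
    obtain ⟨v₁, hv₁, c₁, hc₁, rfl⟩ := CfsgLib.mem_sup_of_le_normalizer hn (hKle hk₁)
    obtain ⟨v₂, hv₂, c₂, hc₂, rfl⟩ := CfsgLib.mem_sup_of_le_normalizer hn (hKle hk₂)
    have h11 : Commute c₁ v₂ := (hc₁ v₂ (Subgroup.mem_inf.mp hv₂).1).symm
    have h21 : Commute c₂ v₁ := (hc₂ v₁ (Subgroup.mem_inf.mp hv₁).1).symm
    have hk : Commute v₁ (v₂ * c₂) := (comm_of_commutator_eq_bot h hk₂ hv₁).symm
    have hv : Commute v₁ v₂ := by
      have := hk.mul_right h21.symm.inv_right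
      rwa [mul_inv_cancel_right] at this
    have e : ⁅v₁ * c₁, v₂ * c₂⁆ = ⁅c₁, c₂⁆ := by
      have hc1' : Commute c₁ v₁ := (hc₁ v₁ (Subgroup.mem_inf.mp hv₁).1).symm
      have hc2' : Commute c₂ v₂ := (hc₂ v₂ (Subgroup.mem_inf.mp hv₂).1).symm
      rw [commutatorElement_def, commutatorElement_def]
      calc v₁ * c₁ * (v₂ * c₂) * (v₁ * c₁)⁻¹ * (v₂ * c₂)⁻¹
          = v₁ * ((c₁ * v₂) * c₂ * c₁⁻¹) * v₁⁻¹ * (c₂⁻¹ * v₂⁻¹) := by group
        _ = v₁ * ((v₂ * c₁) * c₂ * c₁⁻¹) * v₁⁻¹ * (c₂⁻¹ * v₂⁻¹) := by rw [h11.eq]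
        _ = (v₂ * (c₁ * c₂ * c₁⁻¹)) * v₁ * v₁⁻¹ * (c₂⁻¹ * v₂⁻¹) := by
            have hw : Commute v₁ ((v₂ * c₁) * c₂ * c₁⁻¹) :=
              ((hv.mul_right hc1'.symm).mul_right h21.symm).mul_right hc1'.symm.inv_right
            rw [hw.eq]; group
        _ = v₂ * ((c₁ * c₂ * c₁⁻¹ * c₂⁻¹) * v₂⁻¹) := by group
        _ = v₂ * (v₂⁻¹ * (c₁ * c₂ * c₁⁻¹ * c₂⁻¹)) := by
            rw [((((h11.mul_left hc2').mul_left h11.inv_left).mul_left hc2'.inv_left).inv_right).eq]
        _ = c₁ * c₂ * c₁⁻¹ * c₂⁻¹ := by group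
    rw [e, commutatorElement_def]
    exact mul_mem (mul_mem (mul_mem hc₁ hc₂) (inv_mem hc₁)) (inv_mem hc₂)
  · -- `D` is moved
    have hD1 : IsComponent (cj a D) := isComponent_map_equiv (MulAut.conj a) hD
    have hcm := (components_eq_or_commute hD1 hD).resolve_left hfix
    let δ : ↥D →* G :=
      { toFun := fun d => (d : G) * (a * d * a⁻¹)
        map_one' := by simp
        map_mul' := fun d e => by
          have h1 : a * d * a⁻¹ * (e : G) = e * (a * d * a⁻¹) :=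
            comm_of_commutator_eq_bot hcm ⟨d, d.2, rfl⟩ e.2
          push_cast
          calc (d : G) * e * (a * (d * e) * a⁻¹) = d * (e * (a * d * a⁻¹)) * (a * e * a⁻¹) := by group
            _ = d * (a * d * a⁻¹ * e) * (a * e * a⁻¹) := by rw [h1]
            _ = _ := by group }
    have hrange : δ.range ≤ CE := by
      rintro _ ⟨d, rfl⟩
      refine Subgroup.mem_inf.mpr ⟨mul_mem (le_layer hD d.2) (le_layer hD1 ⟨d, d.2, rfl⟩),
        Subgroup.mem_centralizer_singleton_iff.mpr ?_⟩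
      have h1 : a * d * a⁻¹ * (d : G) = d * (a * d * a⁻¹) := comm_of_commutator_eq_bot hcm ⟨d, d.2, rfl⟩ d.2
      have hainv : a⁻¹ = a := inv_eq_of_mul_eq_one_right haa
      show (d : G) * (a * d * a⁻¹) * a = a * ((d : G) * (a * d * a⁻¹))
      calc (d : G) * (a * d * a⁻¹) * a = (a * d * a⁻¹ * d) * a := by rw [h1]
        _ = a * ((d : G) * (a * d * a⁻¹)) := by rw [hainv]; group
    have hn : CE ≤ Subgroup.normalizer (δ.range : Set G) := fun g hg => mem_normalizer_of_maps fun x hx => by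
      obtain ⟨d, rfl⟩ := hx
      refine ⟨⟨g * d * g⁻¹, (Subgroup.mem_normalizer_iff.mp (hEN hD (Subgroup.mem_inf.mp hg).1) d).mp d.2⟩, ?_⟩
      have hga : Commute g a := Subgroup.mem_centralizer_singleton_iff.mp (Subgroup.mem_inf.mp hg).2
      show g * d * g⁻¹ * (a * (g * d * g⁻¹) * a⁻¹) = g * (d * (a * d * a⁻¹)) * g⁻¹
      calc g * d * g⁻¹ * (a * (g * d * g⁻¹) * a⁻¹) = g * d * g⁻¹ * ((a * g) * d * (g⁻¹ * a⁻¹)) := by group
        _ = g * d * g⁻¹ * ((g * a) * d * (a⁻¹ * g⁻¹)) := by rw [← hga.eq, hga.inv_inv.eq]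
        _ = g * (d * (a * d * a⁻¹)) * g⁻¹ := by group
    rcases hdich δ.range hrange hn with h | h
    · right
      refine ⟨D, hD, hfix, δ, fun d => rfl, le_antisymm h ?_⟩
      let φ : ↥D →* ↥CE := δ.codRestrict CE fun d => hrange ⟨d, rfl⟩
      rcases subnormal_quasisimple hD.2 _ (hKsn.comap φ) with h1 | h1
      · rintro _ ⟨d, rfl⟩
        exact (h1 ▸ Subgroup.mem_top d : d ∈ (K.subgroupOf CE).comap φ)
      · refine absurd (fun x hx => ?_ : K ≤ K) (fun _ => hnot (H := K) (fun x hx y hy => ?_) le_rfl)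
        · exact hx
        obtain ⟨d, rfl⟩ := h hx
        obtain ⟨e, rfl⟩ := h hy
        rw [← map_mul, ← map_mul, Subgroup.mem_center_iff.mp (h1 (show d ∈ (K.subgroupOf CE).comap φ from hx)) e]
    · exfalso
      refine hKD ?_
      rw [Subgroup.commutator_comm]
      refine centralizes_of_commutator_le_center hD ?_
      rw [Subgroup.commutator_le]
      intro k hk d hd
      have hkD := hEN hD (hKE hk)
      set w : ↥D := ⟨k * d * k⁻¹, (Subgroup.mem_normalizer_iff.mp hkD d).mp hd⟩ with hw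
      have hka : Commute k a := Subgroup.mem_centralizer_singleton_iff.mp (hKC hk)
      have he : δ (w * ⟨d, hd⟩⁻¹) = 1 := by
        rw [map_mul, map_inv, mul_inv_eq_one]
        have h1 : k * δ ⟨d, hd⟩ = δ ⟨d, hd⟩ * k := comm_of_commutator_eq_bot h hk ⟨⟨d, hd⟩, rfl⟩
        show k * d * k⁻¹ * (a * (k * d * k⁻¹) * a⁻¹) = δ ⟨d, hd⟩
        calc k * d * k⁻¹ * (a * (k * d * k⁻¹) * a⁻¹) = k * d * k⁻¹ * ((a * k) * d * (k⁻¹ * a⁻¹)) := by group
          _ = k * d * k⁻¹ * ((k * a) * d * (a⁻¹ * k⁻¹)) := by rw [← hka.eq, hka.inv_inv.eq]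
          _ = k * δ ⟨d, hd⟩ * k⁻¹ := by
              show _ = k * (d * (a * d * a⁻¹)) * k⁻¹
              group
          _ = δ ⟨d, hd⟩ := by rw [h1, mul_inv_cancel_right]
      refine ⟨w * ⟨d, hd⟩⁻¹, Subgroup.mem_center_iff.mpr fun y => Subtype.ext ?_, by
        rw [commutatorElement_def]; rfl⟩
      set m := w * (⟨d, hd⟩ : ↥D)⁻¹
      have h2 : (m : G) = (a * (m : G) * a⁻¹)⁻¹ := eq_inv_of_mul_eq_one_left he
      show (y : G) * m = m * y
      rw [h2]
      exact (comm_of_commutator_eq_bot hcm (Subgroup.inv_mem _ ⟨(m : G), m.2, rfl⟩) y.2).symm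

end CfsgLib.Comp
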