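import Cfsg.Agent.Lib.Comp.Standard
import Cfsg.Prelude.Def_Local

/-!
A criterion for standard subgroups.
-/

set_option autoImplicit false

namespace CfsgLib.Comp

open Cfsg Subgroup

universe u
variable {G : Type u} [Group G] [Finite G]

/-- Conjugation carries components of `C(y)` to components of the conjugate centralizer. -/
theorem isComponent_centralizer_conj {L : Subgroup G} {y : G} (g : G)
    (hL : L ≤ Subgroup.centralizer ({y} : Set G))
    (hc : IsComponent (L.subgroupOf (Subgroup.centralizer ({y} : Set G)))) :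
    cj g L ≤ Subgroup.centralizer ({g * y * g⁻¹} : Set G) ∧
      IsComponent ((cj g L).subgroupOf (Subgroup.centralizer ({g * y * g⁻¹} : Set G))) := by
  have hm : ∀ z, z ∈ Subgroup.centralizer ({y} : Set G) ↔
      g * z * g⁻¹ ∈ Subgroup.centralizer ({g * y * g⁻¹} : Set G) := fun z => by
    rw [Subgroup.mem_centralizer_singleton_iff, Subgroup.mem_centralizer_singleton_iff]
    constructor <;> intro h
    · calc g * z * g⁻¹ * (g * y * g⁻¹) = g * (z * y) * g⁻¹ := by group
        _ = g * (y * z) * g⁻¹ := by rw [h]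
        _ = g * y * g⁻¹ * (g * z * g⁻¹) := by group
    · have h' := congrArg (fun w => g⁻¹ * w * g) h
      simpa [mul_assoc] using h'
  have hle : cj g L ≤ Subgroup.centralizer ({g * y * g⁻¹} : Set G) := by
    rintro _ ⟨l, hl, rfl⟩; exact (hm l).mp (hL hl)
  let e : ↥(Subgroup.centralizer ({y} : Set G)) ≃* ↥(Subgroup.centralizer ({g * y * g⁻¹} : Set G)) :=
    { toFun := fun z => ⟨g * z * g⁻¹, (hm z).mp z.2⟩
      invFun := fun z => ⟨g⁻¹ * z * g, (hm _).mpr (by simpa [mul_assoc] using z.2)⟩
      left_inv := fun z => Subtype.ext (by simp [mul_assoc])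
      right_inv := fun z => Subtype.ext (by simp [mul_assoc])
      map_mul' := fun z w => Subtype.ext (by simp [mul_assoc]) }
  refine ⟨hle, ?_⟩
  have he : (L.subgroupOf (Subgroup.centralizer ({y} : Set G))).map e.toMonoidHom =
      (cj g L).subgroupOf (Subgroup.centralizer ({g * y * g⁻¹} : Set G)) := by
    ext z
    constructor
    · rintro ⟨l, hl, rfl⟩; exact ⟨l, hl, rfl⟩
    · rintro ⟨l, hl, hlz⟩
      exact ⟨⟨l, hL hl⟩, hl, Subtype.ext hlz⟩
  rw [← he]
  exact isComponent_map_equiv e hc

/-- If `L` is a component of the centralizer of every involution centralising it, and commutes with none of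
its other conjugates, it is standard. -/
theorem isStandardSubgroup_of_components {x : G} (hx : orderOf x = 2) {L : Subgroup G}
    (hLx : L ≤ Subgroup.centralizer ({x} : Set G))
    (hL : IsComponent (L.subgroupOf (Subgroup.centralizer ({x} : Set G))))
    (hne : ∀ y : G, orderOf y = 2 → y ∈ Subgroup.centralizer (L : Set G) →
      L ≤ Subgroup.centralizer ({y} : Set G) ∧ IsComponent (L.subgroupOf (Subgroup.centralizer ({y} : Set G))))
    (hnc : ∀ g : G, L.map (MulAut.conj g).toMonoidHom ≠ L → ⁅L, L.map (MulAut.conj g).toMonoidHom⁆ ≠ ⊥) :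
    IsStandardSubgroup L := by
  have hxC : x ∈ Subgroup.centralizer (L : Set G) := fun l hl =>
    Subgroup.mem_centralizer_singleton_iff.mp (hLx hl)
  have key : ∀ g y : G, orderOf y = 2 → y ∈ Subgroup.centralizer (L : Set G) →
      g * y * g⁻¹ ∈ Subgroup.centralizer (L : Set G) → cj g L = L := by
    intro g y hy hyC hgy
    by_contra hne'
    have ho : orderOf (g * y * g⁻¹) = 2 :=
      (orderOf_injective (MulAut.conj g).toMonoidHom (MulAut.conj g).injective y).trans hy
    obtain ⟨h1, h2⟩ := hne _ ho hgy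
    obtain ⟨h3, h4⟩ := isComponent_centralizer_conj g (hne y hy hyC).1 (hne y hy hyC).2
    rcases components_eq_or_commute h2 h4 with h | h
    · exact hne' (by rw [← inf_eq_left.mpr h3, ← Subgroup.subgroupOf_inj.mp h, inf_eq_left.mpr h1])
    · exact hnc g hne' (commutator_subgroupOf_eq_bot h1 h3 h)
  have hNN : Subgroup.normalizer (L : Set G) = Subgroup.normalizer (Subgroup.centralizer (L : Set G) : Set G) := by
    refine le_antisymm (fun g hg => mem_normalizer_of_maps fun c hc y hy => ?_) fun g hg => mem_normalizer_of_cj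
      (key g x hx hxC ((Subgroup.mem_normalizer_iff.mp hg x).mp hxC))
    have h1 : g⁻¹ * y * g * c = c * (g⁻¹ * y * g) := hc _ ((Subgroup.mem_normalizer_iff''.mp hg y).mp hy)
    calc y * (g * c * g⁻¹) = g * (g⁻¹ * y * g * c) * g⁻¹ := by group
      _ = g * (c * (g⁻¹ * y * g)) * g⁻¹ := by rw [h1]
      _ = g * c * g⁻¹ * y := by group
  refine ⟨isQuasisimple_of_equiv (Subgroup.subgroupOfEquivOfLe hLx) hL.2, ⟨?_, fun g hg => ?_⟩, hnc, hNN⟩
  · exact even_iff_two_dvd.mpr (hx ▸ (orderOf_mk x hxC ▸ orderOf_dvd_natCard _))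
  · by_contra hodd
    obtain ⟨z, hz⟩ := exists_prime_orderOf_dvd_card' (G := ↥(Subgroup.centralizer (L : Set G) ⊓
      (Subgroup.centralizer (L : Set G)).map (MulAut.conj g).toMonoidHom)) 2
      (even_iff_two_dvd.mp (Nat.not_odd_iff_even.mp hodd))
    obtain ⟨hz1, y, hy, hyz⟩ := z.2
    refine hg (hNN ▸ mem_normalizer_of_cj (key g y ?_ hy (by rwa [show g * y * g⁻¹ = (z : G) from hyz])))
    rw [← orderOf_injective (MulAut.conj g).toMonoidHom (MulAut.conj g).injective y, hyz,
      Subgroup.orderOf_coe, hz]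

end CfsgLib.Comp
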