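import Cfsg.Agent.Lib.Comp.Standard
import Cfsg.Agent.Lib.ZJ.Replacement
import Cfsg.Agent.Lib.PLocal.MaxElemReplacement
import Cfsg.Prelude.Def_Balance
import Cfsg.Prelude.Def_CaseTheorems

/-!
The maximal component of an involution centralizer is a component of the centralizers of its centralizing
elementary abelian group.
-/

set_option autoImplicit false
set_option linter.unusedSectionVars false

namespace CfsgLib.Comp

open Cfsg Subgroup
open scoped commutatorElement

universe u v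
variable {G : Type u} [Group G] [Finite G]

/-- A nontrivial quotient of a quasisimple group is quasisimple. -/
theorem isQuasisimple_quotient {J : Type u} [Group J] {Q : Type v} [Group Q] [Nontrivial Q] (f : J →* Q)
    (hf : Function.Surjective f) (hJ : IsQuasisimple J) : IsQuasisimple Q := by
  haveI := hJ.1
  haveI hQ : Group.IsPerfect Q := Group.IsPerfect.ofSurjective (f := f) hf
  refine ⟨hQ, ?_⟩
  have hpre : (Subgroup.center Q).comap f = Subgroup.center J := by
    refine le_antisymm ?_ fun z hz => Subgroup.mem_center_iff.mpr fun q => ?_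
    · rcases quasisimple_normal_le_center_or_eq_top hJ ((Subgroup.center Q).comap f) with h | h
      · exact h
      · exfalso
        haveI : IsMulCommutative Q := ⟨⟨fun x y => by
          obtain ⟨j, rfl⟩ := hf x
          exact (Subgroup.mem_center_iff.mp (h.ge (Subgroup.mem_top j) : f j ∈ Subgroup.center Q) y).symm⟩⟩
        exact Group.IsPerfect.not_isMulCommutative Q inferInstance
    · obtain ⟨y, rfl⟩ := hf q
      rw [← map_mul, ← map_mul, Subgroup.mem_center_iff.mp hz y]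
  let g := (QuotientGroup.mk' (Subgroup.center Q)).comp f
  have hgk : g.ker = Subgroup.center J := by rw [← MonoidHom.comap_ker, QuotientGroup.ker_mk', hpre]
  haveI := hJ.2
  exact ((QuotientGroup.quotientKerEquivOfSurjective g
    ((QuotientGroup.mk'_surjective _).comp hf)).symm.trans (QuotientGroup.quotientMulEquivOfEq hgk)).isSimpleGroup

/-- A component of even order is a `2`-component. -/
theorem isPComponent_two_of_even {J : Subgroup G} (hJ : IsComponent J) (he : Even (Nat.card J)) :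
    IsPComponent 2 J := by
  haveI : Fact (Nat.Prime 2) := ⟨Nat.prime_two⟩
  refine isPComponent_of_pEl hJ.1 (pEl_two_self_of_even hJ.2 he) ⟨hJ.1.map (bar_surjective 2), ?_⟩
  haveI : Nontrivial ↥(J.map (bar 2 G)) := by
    rw [Subgroup.nontrivial_iff_ne_bot, Ne, Subgroup.map_eq_bot_iff, QuotientGroup.ker_mk']
    intro hle
    have h1 := Nat.Coprime.coprime_dvd_left (Subgroup.card_dvd_of_le hle) (card_pPrimeCore_coprime 2)
    exact Nat.not_odd_iff_even.mpr he (Nat.coprime_two_right.mp h1)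
  exact isQuasisimple_quotient _ ((bar 2 G).subgroupMap_surjective J) hJ.2

theorem centralizer_singleton_eq_zpowers (x : G) :
    Subgroup.centralizer ({x} : Set G) = Subgroup.centralizer (Subgroup.zpowers x : Set G) := by
  refine le_antisymm (fun g hg => fun y hy => ?_) fun g hg =>
    Subgroup.mem_centralizer_singleton_iff.mpr (hg x (Subgroup.mem_zpowers x)).symm
  obtain ⟨k, rfl⟩ := hy
  exact (Commute.zpow_right (Subgroup.mem_centralizer_singleton_iff.mp hg : Commute g x) k).symm.eq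

/-- `L_{2'}(C(x)) ≤ L_{2'}(G)` for an involution `x`. -/
theorem pLayer_centralizer_involution_le {x : G} (hx : orderOf x = 2) :
    (pLayer 2 ↥(Subgroup.centralizer ({x} : Set G))).map (Subgroup.centralizer ({x} : Set G)).subtype ≤
      pLayer 2 G := by
  rw [centralizer_singleton_eq_zpowers]
  exact pLayer_balance_two_centralizer _ (IsPGroup.of_card (n := 1) (by rw [Nat.card_zpowers, hx, pow_one]))

/-- With the B-property and trivial core, `L_{2'}(C(b)) = E(C(b))`. -/
theorem pLayer_le_layer_of_BProperty (hO : oddCore G = ⊥) (hB : HasBProperty G) {b : G} (hb : orderOf b = 2) :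
    pLayer 2 ↥(Subgroup.centralizer ({b} : Set G)) ≤ layer ↥(Subgroup.centralizer ({b} : Set G)) := by
  haveI : Fact (Nat.Prime 2) := ⟨Nat.prime_two⟩
  have h1 := hB b hb
  rw [hO, le_bot_iff, Subgroup.map_eq_bot_iff_of_injective _ (Subgroup.subtype_injective _)] at h1
  refine sSup_le fun J hJ => le_layer (isComponent_of_pcomp_centralizes hJ ?_)
  exact le_bot_iff.mp (h1 ▸ Subgroup.commutator_mono (le_sSup hJ) le_rfl)

/-- The key step in the standard-subgroup theorem. -/
theorem component_of_maximal (hO : oddCore G = ⊥) (hB : HasBProperty G) {a : G} (ha : orderOf a = 2)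
    {K : Subgroup G} (hKa : K ≤ Subgroup.centralizer ({a} : Set G))
    (hK : IsComponent (K.subgroupOf (Subgroup.centralizer ({a} : Set G))))
    (hmax : ∀ y : G, orderOf y = 2 → ∀ K' : Subgroup G, K' ≤ Subgroup.centralizer ({y} : Set G) →
      IsComponent (K'.subgroupOf (Subgroup.centralizer ({y} : Set G))) → Nat.card ↥K' ≤ Nat.card ↥K ∧
        (Nat.card ↥K' = Nat.card ↥K → ∀ k : ℕ,
          PRankLE 2 k ↥(Subgroup.centralizer ({a} : Set G) ⊓ Subgroup.centralizer (K : Set G)) →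
          PRankLE 2 k ↥(Subgroup.centralizer ({y} : Set G) ⊓ Subgroup.centralizer (K' : Set G))))
    (hrk : ¬ PRankLE 2 1 ↥K) {B : Subgroup G}
    (hBle : B ≤ Subgroup.centralizer ({a} : Set G) ⊓ Subgroup.centralizer (K : Set G))
    (hBel : IsElementaryAbelian 2 B)
    (hBmax : ∀ B' : Subgroup G, B' ≤ Subgroup.centralizer ({a} : Set G) ⊓ Subgroup.centralizer (K : Set G) →
      IsElementaryAbelian 2 B' → Nat.card ↥B' ≤ Nat.card ↥B)
    {b : G} (hb : b ∈ B) (hb1 : b ≠ 1) :
    K ≤ Subgroup.centralizer ({b} : Set G) ∧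
      IsComponent (K.subgroupOf (Subgroup.centralizer ({b} : Set G))) := by
  haveI : Fact (Nat.Prime 2) := ⟨Nat.prime_two⟩
  have hb2 : orderOf b = 2 := orderOf_eq_prime (hBel.2 b hb) hb1
  have hBc : ∀ x ∈ B, ∀ y ∈ B, x * y = y * x := fun x hx y hy =>
    haveI := hBel.1; Subgroup.mul_comm_of_mem_isMulCommutative B hx hy
  have hBa : ∀ c ∈ B, Commute c a := fun c hc =>
    Subgroup.mem_centralizer_singleton_iff.mp (Subgroup.mem_inf.mp (hBle hc)).1
  have hBK : ∀ c ∈ B, ∀ k ∈ K, k * c = c * k := fun c hc => (Subgroup.mem_inf.mp (hBle hc)).2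
  set H := Subgroup.centralizer ({b} : Set G) with hH
  have hKH : K ≤ H := fun k hk => Subgroup.mem_centralizer_singleton_iff.mpr (hBK b hb k hk)
  refine ⟨hKH, ?_⟩
  let a' : ↥H := ⟨a, Subgroup.mem_centralizer_singleton_iff.mpr (hBa b hb).symm⟩
  have ha' : orderOf a' = 2 := (orderOf_injective H.subtype H.subtype_injective a').symm.trans ha
  set Ca := Subgroup.centralizer ({a'} : Set ↥H) with hCa
  set K' := K.subgroupOf H with hK'
  have hK'C : K' ≤ Ca := fun k hk => Subgroup.mem_centralizer_singleton_iff.mpr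
    (Subtype.ext (Subgroup.mem_centralizer_singleton_iff.mp (hKa hk)))
  let ι : ↥Ca →* ↥(Subgroup.centralizer ({a} : Set G)) :=
    ((H.subtype.comp Ca.subtype).codRestrict _ fun z => Subgroup.mem_centralizer_singleton_iff.mpr
      (congrArg Subtype.val (Subgroup.mem_centralizer_singleton_iff.mp z.2)))
  have hK'c : IsComponent (K'.subgroupOf Ca) :=
    ⟨hK.1.comap ι, isQuasisimple_of_equiv ((Subgroup.subgroupOfEquivOfLe hKa).trans
      ((Subgroup.subgroupOfEquivOfLe hKH).symm.trans (Subgroup.subgroupOfEquivOfLe hK'C).symm)) hK.2⟩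
  -- a four group in `K`
  obtain ⟨V₀, hV₀, hV₀2, hV₀card⟩ : ∃ V : Subgroup ↥K, IsMulCommutative V ∧ (∀ v ∈ V, v ^ 2 = 1) ∧
      2 < Nat.card V := by
    rw [PRankLE] at hrk
    push Not at hrk
    obtain ⟨V, h1, h2, h3⟩ := hrk
    exact ⟨V, h1, h2, by simpa using h3⟩
  have hKeven : Even (Nat.card ↥K) := by
    refine even_iff_two_dvd.mpr (dvd_trans ?_ (Subgroup.card_subgroup_dvd_card V₀))
    obtain ⟨v, hv⟩ : ∃ v : ↥V₀, v ≠ 1 :=
      haveI := Finite.one_lt_card_iff_nontrivial.mp (by omega : 1 < Nat.card V₀)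
      exists_ne 1
    rw [← orderOf_eq_prime (p := 2) (Subtype.ext (hV₀2 v v.2) : v ^ 2 = 1) hv]
    exact orderOf_dvd_natCard v
  have hK'E : K' ≤ layer ↥H := by
    have h1 : IsPComponent 2 (K'.subgroupOf Ca) := isPComponent_two_of_even hK'c (by
      rwa [Nat.card_congr (Subgroup.subgroupOfEquivOfLe hK'C).toEquiv,
        Nat.card_congr (Subgroup.subgroupOfEquivOfLe hKH).toEquiv])
    refine le_trans ?_ ((pLayer_centralizer_involution_le ha').trans (pLayer_le_layer_of_BProperty hO hB hb2))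
    rw [← Subgroup.map_subgroupOf_eq_of_le hK'C]
    exact Subgroup.map_mono (le_sSup h1)
  have hcomp : ∀ D : Subgroup ↥H, IsComponent D → IsComponent ((D.map H.subtype).subgroupOf H) := fun D hD => by
    rwa [Subgroup.subgroupOf, Subgroup.comap_map_eq_self_of_injective H.subtype_injective]
  have hbound : ∀ D : Subgroup ↥H, IsComponent D → Nat.card D ≤ Nat.card K := fun D hD => by
    have h1 := (hmax b hb2 (D.map H.subtype) (Subgroup.map_subtype_le D) (hcomp D hD)).1
    rwa [Subgroup.card_map_of_injective H.subtype_injective] at h1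
  have hcardK' : Nat.card K' = Nat.card K := Nat.card_congr (Subgroup.subgroupOfEquivOfLe hKH).toEquiv
  rcases component_centralizer_cases ha' hK'C hK'c hK'E with ⟨D, hD, hKD⟩ | ⟨D, hD, hne, δ, hδ, hKδ⟩
  · rwa [Subgroup.eq_of_le_of_card_ge hKD (by rw [hcardK']; exact hbound D hD)]
  exfalso
  have hcardD : Nat.card D = Nat.card K := le_antisymm (hbound D hD)
    (by rw [← hcardK', hKδ]; exact Nat.card_le_card_of_surjective _ δ.rangeRestrict_surjective)
  have hδinj : Function.Injective δ := by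
    have hbij : Function.Bijective δ.rangeRestrict :=
      (Nat.bijective_iff_surjective_and_card _).mpr ⟨δ.rangeRestrict_surjective, by rw [hcardD, ← hcardK', hKδ]⟩
    exact fun x y e => hbij.1 (Subtype.ext e)
  have hBH : B ≤ H := fun c hc => Subgroup.mem_centralizer_singleton_iff.mpr (hBc c hc b hb)
  set Da := cj a' D with hDa
  have hDac : IsComponent Da := isComponent_map_equiv (MulAut.conj a') hD
  have hDD : ⁅Da, D⁆ = ⊥ := (components_eq_or_commute hDac hD).resolve_left hne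
  have haa : a' * a' = 1 := by rw [← pow_two, ← ha', pow_orderOf_eq_one]
  -- `B` permutes `D` and `D ^ a`
  set B' := B.subgroupOf H with hB'
  have hcB : ∀ c ∈ B', Commute c a' := fun c hc => Subtype.ext (hBa c hc)
  have hcK : ∀ c ∈ B', ∀ d : ↥D, c * δ d * c⁻¹ = δ d := fun c hc d => by
    have hk : δ d ∈ K' := hKδ ▸ ⟨d, rfl⟩
    rw [show c * δ d = δ d * c from Subtype.ext (hBK c hc (δ d : G) hk).symm, mul_inv_cancel_right]
  have hperm : ∀ c ∈ B', cj c D = D ∨ cj c D = Da := by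
    intro c hc
    by_contra h
    push Not at h
    have hE : IsComponent (cj c D) := isComponent_map_equiv (MulAut.conj c) hD
    have h1 := (components_eq_or_commute hE hD).resolve_left h.1
    have h2 := (components_eq_or_commute hE hDac).resolve_left h.2
    have hEa : ∀ x ∈ cj c D, ∀ d : ↥D, x * δ d = δ d * x := fun x hx d => by
      have hd1 : x * d = d * x := comm_of_commutator_eq_bot h1 hx d.2
      have hd2 : x * (a' * d * a'⁻¹) = a' * d * a'⁻¹ * x := comm_of_commutator_eq_bot h2 hx ⟨d, d.2, rfl⟩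
      rw [hδ]
      exact (Commute.mul_right (hd1 : Commute x d) hd2).eq
    refine isQuasisimple_not_isSolvable (isQuasisimple_of_equiv (Subgroup.subgroupOfEquivOfLe hKa) hK.2)
      (Group.isSolvable_of_comm fun x y => Subtype.ext ?_)
    obtain ⟨d, hd⟩ : (⟨x, hKH x.2⟩ : ↥H) ∈ δ.range := hKδ ▸ (show (⟨x, hKH x.2⟩ : ↥H) ∈ K' from x.2)
    obtain ⟨e, he⟩ : (⟨y, hKH y.2⟩ : ↥H) ∈ δ.range := hKδ ▸ (show (⟨y, hKH y.2⟩ : ↥H) ∈ K' from y.2)
    have h3 : Commute (c * d * c⁻¹) (δ e) := hEa _ ⟨d, d.2, rfl⟩ e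
    have h4 : Commute (a' * (c * d * c⁻¹) * a'⁻¹) (δ e) := by
      have hfix : a' * δ e * a'⁻¹ = δ e := by
        rw [← Subgroup.mem_centralizer_singleton_iff.mp (hK'C (hKδ ▸ ⟨e, rfl⟩ : δ e ∈ K')), mul_inv_cancel_right]
      rw [← hfix]
      exact h3.map (MulAut.conj a').toMonoidHom
    have h5 : δ d = c * d * c⁻¹ * (a' * (c * d * c⁻¹) * a'⁻¹) := by
      rw [← hcK c hc d, hδ]
      calc c * ((d : ↥H) * (a' * d * a'⁻¹)) * c⁻¹ = c * d * c⁻¹ * ((c * a') * d * (a'⁻¹ * c⁻¹)) := by group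
        _ = c * d * c⁻¹ * ((a' * c) * d * (c⁻¹ * a'⁻¹)) := by rw [(hcB c hc).eq, ((hcB c hc).inv_inv).eq]
        _ = c * d * c⁻¹ * (a' * (c * d * c⁻¹) * a'⁻¹) := by group
    have h6 : Commute (δ d) (δ e) := by rw [h5]; exact h3.mul_left h4
    rw [hd, he] at h6
    exact congrArg H.subtype h6.eq
  -- the subgroup fixing `D`
  set B0 := B' ⊓ Subgroup.normalizer (D : Set ↥H) with hB0
  have hidx : Nat.card B' ≤ 2 * Nat.card B0 := by
    by_cases hall : B' ≤ Subgroup.normalizer (D : Set ↥H)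
    · rw [hB0, inf_eq_left.mpr hall]; omega
    obtain ⟨c₀, hc₀, hc₀n⟩ := SetLike.not_le_iff_exists.mp hall
    have hcov : (B' : Set ↥H) ⊆ (B0 : Set ↥H) ∪ (fun z => c₀ * z) '' (B0 : Set ↥H) := by
      intro c hc
      by_cases hcn : c ∈ Subgroup.normalizer (D : Set ↥H)
      · exact Or.inl (Subgroup.mem_inf.mpr ⟨hc, hcn⟩)
      · refine Or.inr ⟨c₀⁻¹ * c, Subgroup.mem_inf.mpr ⟨mul_mem (inv_mem hc₀) hc, ?_⟩, mul_inv_cancel_left _ _⟩
        have e1 := (hperm c hc).resolve_left fun h => hcn (mem_normalizer_of_cj h)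
        have e2 := (hperm c₀ hc₀).resolve_left fun h => hc₀n (mem_normalizer_of_cj h)
        refine mem_normalizer_of_maps fun d hd => ?_
        obtain ⟨d', hd', e⟩ : c * d * c⁻¹ ∈ cj c₀ D := e2.symm ▸ e1 ▸ ⟨d, hd, rfl⟩
        have e' : c₀ * d' * c₀⁻¹ = c * d * c⁻¹ := e
        rwa [show c₀⁻¹ * c * d * (c₀⁻¹ * c)⁻¹ = c₀⁻¹ * (c * d * c⁻¹) * c₀ by group, ← e',
          show c₀⁻¹ * (c₀ * d' * c₀⁻¹) * c₀ = d' by group]
    have h1 := (Set.ncard_le_ncard hcov (Set.toFinite _)).trans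
      ((Set.ncard_union_le _ _).trans (Nat.add_le_add_left (Set.ncard_image_le (Set.toFinite _)) _))
    rw [← Nat.card_coe_set_eq, ← Nat.card_coe_set_eq] at h1
    simpa [two_mul] using h1
  have hB0D : ∀ c ∈ B0, ∀ d ∈ D, c * d = d * c := by
    intro c hc d hd
    obtain ⟨hc', hcn⟩ := Subgroup.mem_inf.mp hc
    have hw := (Subgroup.mem_normalizer_iff.mp hcn d).mp hd
    have he : δ ⟨c * d * c⁻¹, hw⟩ = δ ⟨d, hd⟩ := by
      rw [← hcK c hc' ⟨d, hd⟩, hδ, hδ]
      calc c * d * c⁻¹ * (a' * (c * d * c⁻¹) * a'⁻¹) = c * d * c⁻¹ * ((a' * c) * d * (c⁻¹ * a'⁻¹)) := by group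
        _ = c * d * c⁻¹ * ((c * a') * d * (a'⁻¹ * c⁻¹)) := by rw [(hcB c hc').eq, ((hcB c hc').inv_inv).eq]
        _ = c * (d * (a' * d * a'⁻¹)) * c⁻¹ := by group
    exact mul_inv_eq_iff_eq_mul.mp (congrArg Subtype.val (hδinj he))
  have hB0Da : ∀ c ∈ B0, ∀ x ∈ Da, c * x = x * c := by
    rintro c hc _ ⟨d, hd, rfl⟩
    have h1 : Commute c d := hB0D c hc d hd
    have h2 := hcB c (Subgroup.mem_inf.mp hc).1
    exact ((h2.mul_right h1).mul_right h2.inv_right).eq
  -- a four group in `D ^ a`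
  let eK : ↥K ≃* ↥Da :=
    ((Subgroup.subgroupOfEquivOfLe hKH).symm.trans (MulEquiv.subgroupCongr hKδ)).trans
      ((MonoidHom.ofInjective hδinj).symm.trans ((MulAut.conj a').subgroupMap D))
  set V := (V₀.map eK.toMonoidHom).map Da.subtype with hV
  have hVel : IsElementaryAbelian 2 V := by
    refine ⟨⟨⟨fun x y => ?_⟩⟩, ?_⟩
    · obtain ⟨_, ⟨x0, hx0, rfl⟩, hx⟩ := x.2
      obtain ⟨_, ⟨y0, hy0, rfl⟩, hy⟩ := y.2
      apply Subtype.ext
      show (x : ↥H) * y = y * x
      rw [← hx, ← hy, ← map_mul, ← map_mul, ← map_mul, ← map_mul,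
        (haveI := hV₀; Subgroup.mul_comm_of_mem_isMulCommutative V₀ hx0 hy0)]
    · rintro _ ⟨_, ⟨v, hv, rfl⟩, rfl⟩
      rw [← map_pow, ← map_pow, hV₀2 v hv, map_one, map_one]
  have hVDa : V ≤ Da := Subgroup.map_subtype_le _
  have hVcard : Nat.card V = Nat.card V₀ := by
    rw [hV, Subgroup.card_map_of_injective Da.subtype_injective,
      Subgroup.card_map_of_injective (f := eK.toMonoidHom) eK.injective]
  have hB'el : IsElementaryAbelian 2 B' :=
    ⟨⟨⟨fun x y => Subtype.ext (Subtype.ext (hBc _ x.2 _ y.2))⟩⟩, fun x hx => Subtype.ext (hBel.2 _ hx)⟩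
  have hW := PLocal.isElementaryAbelian_sup (PLocal.isElementaryAbelian_of_le hB'el (inf_le_left : B0 ≤ B')) hVel
    fun x hx y hy => hB0Da x hx y (hVDa hy)
  have hinf : B0 ⊓ V = ⊥ := by
    rw [eq_bot_iff]
    intro z hz
    obtain ⟨hz1, hz2⟩ := Subgroup.mem_inf.mp hz
    have hzB := (Subgroup.mem_inf.mp hz1).1
    obtain ⟨d, hd, hdz⟩ := hVDa hz2
    have hdz' : a' * d * a'⁻¹ = z := hdz
    have hfix : d = z := by
      have h1 : a' * z * a'⁻¹ = z := by rw [← (hcB z hzB).eq, mul_inv_cancel_right]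
      calc d = a'⁻¹ * (a' * d * a'⁻¹) * a' := by group
        _ = a'⁻¹ * (a' * z * a'⁻¹) * a' := by rw [hdz', h1]
        _ = z := by group
    have h2 : δ ⟨d, hd⟩ = 1 := by
      rw [hδ]
      show d * (a' * d * a'⁻¹) = 1
      rw [hdz', hfix, ← pow_two]
      exact hB'el.2 z hzB
    have h3 := congrArg Subtype.val (hδinj (h2.trans (map_one δ).symm))
    rw [Subgroup.mem_bot, ← hfix]
    exact h3
  have hWcard : Nat.card ↥(B0 ⊔ V) = Nat.card B0 * Nat.card V := by
    have h0 := ZJ.card_mul_eq_of_le_normalizer (H := B0) (K := V) fun x hx =>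
      mem_normalizer_of_maps fun v hv => by
        rwa [← hB0Da v hv x (hVDa hx), mul_inv_cancel_right]
    rw [hinf, Subgroup.card_bot, mul_one] at h0
    exact h0.symm
  obtain ⟨k, hk⟩ := (IsPGroup.iff_card (p := 2)).mp
    (fun x : ↥B => ⟨1, Subtype.ext (by simpa using hBel.2 x x.2)⟩ : IsPGroup 2 ↥B)
  have hrankK : PRankLE 2 k ↥(Subgroup.centralizer ({a} : Set G) ⊓ Subgroup.centralizer (K : Set G)) := by
    intro A hA hA2
    rw [← hk, ← Subgroup.card_map_of_injective (Subgroup.subtype_injective _)]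
    refine hBmax _ (Subgroup.map_subtype_le A) ⟨⟨⟨fun x y => ?_⟩⟩, ?_⟩
    · obtain ⟨x0, hx0, hx⟩ := x.2
      obtain ⟨y0, hy0, hy⟩ := y.2
      apply Subtype.ext
      show (x : G) * y = y * x
      rw [← hx, ← hy, ← map_mul, ← map_mul, Subgroup.mul_comm_of_mem_isMulCommutative A hx0 hy0]
    · rintro _ ⟨v, hv, rfl⟩
      rw [← map_pow, hA2 v hv, map_one]
  set DG := D.map H.subtype with hDG
  have hrankD := (hmax b hb2 DG (Subgroup.map_subtype_le D) (hcomp D hD)).2
    (by rw [hDG, Subgroup.card_map_of_injective H.subtype_injective, hcardD]) k hrankK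
  set W := (B0 ⊔ V).map H.subtype with hWd
  have hWle : W ≤ H ⊓ Subgroup.centralizer (DG : Set G) := by
    refine le_inf (Subgroup.map_subtype_le _) ?_
    rintro _ ⟨w, hw, rfl⟩ _ ⟨d, hd, rfl⟩
    have hle : B0 ⊔ V ≤ Subgroup.centralizer (D : Set ↥H) := sup_le
      (fun x hx y hy => (hB0D x hx y hy).symm)
      (hVDa.trans (Subgroup.commutator_eq_bot_iff_le_centralizer.mp hDD))
    exact congrArg Subtype.val (hle hw d hd)
  have h1 := hrankD (W.subgroupOf _) ⟨⟨fun x y => Subtype.ext (Subtype.ext (by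
      obtain ⟨x0, hx0, hx⟩ := x.2
      obtain ⟨y0, hy0, hy⟩ := y.2
      show ((x : ↥(H ⊓ Subgroup.centralizer (DG : Set G))) : G) * (y : ↥(H ⊓ Subgroup.centralizer (DG : Set G))) = _
      rw [← Subgroup.coe_subtype, ← Subgroup.coe_subtype] at *
      simp only [Subgroup.coe_subtype] at *
      rw [← hx, ← hy, ← Subgroup.coe_mul,
        (haveI := hW.1; Subgroup.mul_comm_of_mem_isMulCommutative (B0 ⊔ V) hx0 hy0), Subgroup.coe_mul]
      simp [hx, hy]))⟩⟩ (by
      rintro x ⟨w, hw, hwx⟩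
      refine Subtype.ext ?_
      rw [Subgroup.coe_pow, show (x : G) = _ from hwx.symm, ← map_pow, hW.2 w hw, map_one]
      rfl)
  rw [Nat.card_congr (Subgroup.subgroupOfEquivOfLe hWle).toEquiv, hWd,
    Subgroup.card_map_of_injective H.subtype_injective, hWcard, hVcard, ← hk,
    ← Nat.card_congr (Subgroup.subgroupOfEquivOfLe hBH).toEquiv] at h1
  have h0 : 0 < Nat.card B0 := Nat.card_pos
  nlinarith

end CfsgLib.Comp
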