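import Cfsg.Agent.Lib.Comp.Layer
import Mathlib.LinearAlgebra.Matrix.Transvection
import Mathlib.LinearAlgebra.Matrix.SpecialLinearGroup
import Cfsg.Prelude.Def_Local

/-!
Transvection centralizers over the field with two elements have characteristic two.
-/

set_option autoImplicit false
set_option linter.unusedSectionVars false

namespace CfsgLib.TransvectionCent

open Matrix Cfsg

universe u
variable {F : Type u} [Field F] [Fintype F] [DecidableEq F] {n : ℕ}

theorem eq_one_of_ne_zero (hF : Fintype.card F = 2) {a : F} (ha : a ≠ 0) : a = 1 := by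
  have h := FiniteField.pow_card_sub_one_eq_one a ha
  rwa [hF, pow_one] at h

theorem two_zero (hF : Fintype.card F = 2) : (1 : F) + 1 = 0 := by
  by_contra h
  have := eq_one_of_ne_zero hF h
  simp at this

variable {i j : Fin n}

theorem entries (hF : Fintype.card F = 2) (hij : i ≠ j) {t g : SpecialLinearGroup (Fin n) F}
    (ht : (t : Matrix (Fin n) (Fin n) F) = transvection i j 1) (hg : g * t = t * g) :
    (∀ k, k ≠ i → (g : Matrix (Fin n) (Fin n) F) k i = 0) ∧
      (∀ l, l ≠ j → (g : Matrix (Fin n) (Fin n) F) j l = 0) ∧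
      (g : Matrix (Fin n) (Fin n) F) i i = 1 ∧ (g : Matrix (Fin n) (Fin n) F) j j = 1 := by
  set M := (g : Matrix (Fin n) (Fin n) F) with hM
  have h : M * single i j 1 = single i j 1 * M := by
    have h1 := congrArg Subtype.val hg
    simp only [Matrix.SpecialLinearGroup.coe_mul, ht, transvection, Matrix.mul_add, Matrix.add_mul, Matrix.mul_one,
      Matrix.one_mul] at h1
    exact add_left_cancel h1
  have hk : ∀ k, k ≠ i → M k i = 0 := fun k hk => by
    have := congrFun (congrFun h k) j
    simpa [hk] using this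
  have hl : ∀ l, l ≠ j → M j l = 0 := fun l hl => by
    have := congrFun (congrFun h i) l
    simpa [hl] using this.symm
  have hii : M i i ≠ 0 := fun h0 => by
    have hdet : M.det = 0 := det_eq_zero_of_column_eq_zero i fun k => by
      rcases eq_or_ne k i with rfl | hk'
      · exact h0
      · exact hk k hk'
    rw [hM, Matrix.SpecialLinearGroup.det_coe] at hdet
    exact one_ne_zero hdet
  have h1 := eq_one_of_ne_zero hF hii
  refine ⟨hk, hl, h1, ?_⟩
  have := congrFun (congrFun h i) j
  simpa [h1, hij] using this.symm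

variable (hF : Fintype.card F = 2) (hij : i ≠ j) {t : SpecialLinearGroup (Fin n) F}
  (ht : (t : Matrix (Fin n) (Fin n) F) = transvection i j 1)

include hF hij ht

/-- The action on the middle block. -/
noncomputable def middle :
    ↥(Subgroup.centralizer ({t} : Set (SpecialLinearGroup (Fin n) F))) →*
      Matrix {x : Fin n // x ≠ i ∧ x ≠ j} {x : Fin n // x ≠ i ∧ x ≠ j} F where
  toFun g := ((g : SpecialLinearGroup (Fin n) F) : Matrix (Fin n) (Fin n) F).submatrix Subtype.val Subtype.val
  map_one' := by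
    rw [OneMemClass.coe_one, Matrix.SpecialLinearGroup.coe_one]
    exact submatrix_one _ Subtype.val_injective
  map_mul' g h := by
    obtain ⟨hgk, -, -, -⟩ := entries hF hij ht (Subgroup.mem_centralizer_singleton_iff.mp g.2)
    obtain ⟨-, hhl, -, -⟩ := entries hF hij ht (Subgroup.mem_centralizer_singleton_iff.mp h.2)
    ext ⟨k, hk⟩ ⟨l, hl⟩
    simp only [submatrix_apply, Subgroup.coe_mul, Matrix.SpecialLinearGroup.coe_mul, Matrix.mul_apply]
    rw [← Finset.sum_subtype (Finset.univ.filter fun x => x ≠ i ∧ x ≠ j) (fun x => by simp)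
      (fun m => (↑(↑g : SpecialLinearGroup (Fin n) F) : Matrix (Fin n) (Fin n) F) k m *
        (↑(↑h : SpecialLinearGroup (Fin n) F) : Matrix (Fin n) (Fin n) F) m l)]
    rw [Finset.sum_filter_of_ne]
    intro m _ hm
    refine ⟨fun e => hm ?_, fun e => hm ?_⟩
    · rw [e, hgk k hk.1, zero_mul]
    · rw [e, hhl l hl.2, mul_zero]

theorem middle_ker_isPGroup : IsPGroup 2 ↥(middle hF hij ht).ker := by
  intro g
  refine ⟨2, Subtype.ext (Subtype.ext (Subtype.ext ?_))⟩
  obtain ⟨hk, hl, hii, hjj⟩ := entries hF hij ht (Subgroup.mem_centralizer_singleton_iff.mp g.1.2)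
  set M := (((g : ↥(Subgroup.centralizer ({t} : Set (SpecialLinearGroup (Fin n) F)))) :
    SpecialLinearGroup (Fin n) F) : Matrix (Fin n) (Fin n) F) with hM
  have hmid : ∀ k l, k ≠ i → k ≠ j → l ≠ i → l ≠ j → M k l = (1 : Matrix (Fin n) (Fin n) F) k l := by
    intro k l hki hkj hli hlj
    have h1 : (middle hF hij ht) g.1 = 1 := g.2
    have h2 := congrFun (congrFun h1 ⟨k, hki, hkj⟩) ⟨l, hli, hlj⟩
    simpa [Matrix.one_apply, middle, hM] using h2
  show (((g ^ (2 ^ 2) : ↥(middle hF hij ht).ker) : ↥(Subgroup.centralizer ({t} : Set (SpecialLinearGroup (Fin n) F)))) :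
    SpecialLinearGroup (Fin n) F).1 = 1
  simp only [Subgroup.coe_pow, Matrix.SpecialLinearGroup.coe_pow]
  rw [← hM]
  have h2 : ∀ A : Matrix (Fin n) (Fin n) F, A + A = 0 := fun A => by
    ext a b
    rw [Matrix.add_apply, Matrix.zero_apply, ← mul_one (A a b), ← mul_add, two_zero hF, mul_zero]
  set N := M + 1 with hN
  have hMN : M = 1 + N := by rw [hN, add_comm M 1, ← add_assoc, h2, zero_add]
  have hNcol : ∀ k, N k i = 0 := fun k => by
    rcases eq_or_ne k i with rfl | h
    · simp [hN, hii, two_zero hF]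
    · simp [hN, hk k h, h]
  have hNrow : ∀ l, N j l = 0 := fun l => by
    rcases eq_or_ne l j with rfl | h
    · simp [hN, hjj, two_zero hF]
    · simp [hN, hl l h, Ne.symm h]
  have hNmid : ∀ k l, k ≠ i → l ≠ j → N k l = 0 := fun k l hki hlj => by
    rcases eq_or_ne k j with rfl | hkj
    · exact hNrow l
    rcases eq_or_ne l i with rfl | hli
    · exact hNcol k
    rw [hN, Matrix.add_apply, hmid k l hki hkj hli hlj]
    exact congrFun (congrFun (h2 1) k) l
  have hsq : ∀ k l, k ≠ i ∨ l ≠ j → (N * N) k l = 0 := fun k l hkl => by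
    rw [Matrix.mul_apply]
    refine Finset.sum_eq_zero fun m _ => ?_
    rcases eq_or_ne m i with rfl | hmi
    · rw [hNcol, zero_mul]
    rcases eq_or_ne m j with rfl | hmj
    · rw [hNrow, mul_zero]
    rcases hkl with h | h
    · rw [hNmid k m h hmj, zero_mul]
    · rw [hNmid m l hmi h, mul_zero]
  have hN4 : N * N * (N * N) = 0 := by
    ext k l
    rw [Matrix.mul_apply, Matrix.zero_apply]
    refine Finset.sum_eq_zero fun m _ => ?_
    rcases eq_or_ne m j with e | h
    · rw [e, hsq j l (Or.inl hij.symm), mul_zero]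
    · rw [hsq k m (Or.inr h), zero_mul]
  have hsq' : ∀ A : Matrix (Fin n) (Fin n) F, (1 + A) * (1 + A) = 1 + A * A := fun A => by
    rw [add_mul, mul_add, mul_add, one_mul, one_mul, mul_one, add_assoc, ← add_assoc A A, h2, zero_add]
  rw [show (2 : ℕ) ^ 2 = 2 * 2 from rfl, pow_mul, pow_two, pow_two, hMN, hsq', hsq', hN4, add_zero]

theorem gfit_centralizer_transvection :
    generalizedFittingSubgroup ↥(Subgroup.centralizer ({t} : Set (SpecialLinearGroup (Fin n) F))) =
      pCore 2 ↥(Subgroup.centralizer ({t} : Set (SpecialLinearGroup (Fin n) F))) := by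
  haveI : Fact (Nat.Prime 2) := ⟨Nat.prime_two⟩
  have hQ : (middle hF hij ht).ker ≤ pCore 2 _ := CfsgLib.le_pCore (middle_ker_isPGroup hF hij ht)
  refine (CfsgLib.Comp.gfit_eq_pCore_iff 2).mpr fun g hg => hQ ?_
  obtain ⟨hk, hl, hii, hjj⟩ := entries hF hij ht (Subgroup.mem_centralizer_singleton_iff.mp g.2)
  set M := ((g : SpecialLinearGroup (Fin n) F) : Matrix (Fin n) (Fin n) F) with hM
  rw [MonoidHom.mem_ker]
  ext ⟨k, hki, hkj⟩ ⟨l, hli, hlj⟩
  show M k l = (1 : Matrix {x : Fin n // x ≠ i ∧ x ≠ j} {x : Fin n // x ≠ i ∧ x ≠ j} F) ⟨k, hki, hkj⟩ ⟨l, hli, hlj⟩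
  let u : SpecialLinearGroup (Fin n) F := ⟨transvection i k 1, det_transvection_of_ne i k (Ne.symm hki) 1⟩
  have hu : u ∈ Subgroup.centralizer ({t} : Set (SpecialLinearGroup (Fin n) F)) := by
    rw [Subgroup.mem_centralizer_singleton_iff]
    refine Subtype.ext ?_
    simp only [Matrix.SpecialLinearGroup.coe_mul, ht]
    show transvection i k 1 * transvection i j 1 = transvection i j 1 * transvection i k 1
    simp only [transvection, Matrix.mul_add, Matrix.add_mul, Matrix.mul_one, Matrix.one_mul,
      single_mul_single_of_ne _ _ _ _ hki, single_mul_single_of_ne _ _ _ _ hij.symm]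
    abel
  have huQ : (⟨u, hu⟩ : ↥(Subgroup.centralizer ({t} : Set (SpecialLinearGroup (Fin n) F)))) ∈
      (middle hF hij ht).ker := by
    rw [MonoidHom.mem_ker]
    ext ⟨a, hai, haj⟩ ⟨b, hbi, hbj⟩
    simp [middle, u, transvection, Matrix.one_apply, hai, Ne.symm hai, Subtype.ext_iff]
  have h1 := congrArg (fun x : ↥(Subgroup.centralizer ({t} : Set (SpecialLinearGroup (Fin n) F))) =>
    ((x : SpecialLinearGroup (Fin n) F) : Matrix (Fin n) (Fin n) F)) (hg _ (hQ huQ))
  have h1'' : transvection i k 1 * M = M * transvection i k 1 := h1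
  simp only [transvection, Matrix.mul_add, Matrix.add_mul, Matrix.mul_one, Matrix.one_mul] at h1''
  have h1' := add_left_cancel h1''
  have h2 := congrFun (congrFun h1' i) l
  rcases eq_or_ne k l with rfl | hne
  · simpa [hii] using h2
  · simpa [Matrix.one_apply, hne, Ne.symm hne, Subtype.ext_iff] using h2

end CfsgLib.TransvectionCent
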